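import Cfsg.Agent.H532.PNormTwo.Count
import Cfsg.Agent.Fischer.Check22

/-!
# `Fi₂₂`: the counts (helper532)
-/

set_option autoImplicit false

namespace Cfsg.Agent.H532.PNormTwo.Fi22

open Cfsg.Agent.Fischer.Cert Cfsg.Agent.Fischer.Data22

/-- do `y` and `z` commute (walk `y` to `0`) -/
noncomputable def cm (n : ℕ) : ℕ → ℕ → Bool :=
  Nat.rec (fun _ z => Nat.beq (nx .a z) z) (fun _ ih y z => bite (Nat.beq y 0) (Nat.beq (nx .a z) z)
    (force (par y) fun y' => force (nx (ps y) z) fun z' => ih y' z')) n

/-- the element of order 8 -/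
noncomputable def xa (y : ℕ) : ℕ := nx .e (nx .f (nx .c (nx .d (nx .h y))))

noncomputable def fA (y : ℕ) : Bool := force y fun y => force (xa y) fun z => bite (Nat.beq y z) false (cm 3510 y z)

noncomputable def fP (y : ℕ) : Bool := force y fun y => Nat.beq (xa y) y

noncomputable def fK (y : ℕ) : Bool := force y fun y => bite (Nat.beq y 0) false (Nat.beq (nx .a y) y)

noncomputable def fL (y : ℕ) : Bool := force y fun y => bite (Nat.beq y 0) false (bite (Nat.beq (nx .a y) y)
  (bite (Nat.beq y 2817) false (Nat.beq (nx .c y) y)) false)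

noncomputable def fO (y : ℕ) : Bool := force y fun y => force (xa (xa (xa (xa y)))) fun z =>
  Nat.beq (xa (xa (xa (xa z)))) y

theorem chkA : Nat.beq (sumG 54 65 fun y => b2n (fA y)) 756 = true := by decide +kernel
theorem chkP : Nat.beq (sumG 54 65 fun y => b2n (fP y)) 2 = true := by decide +kernel
theorem chkK : Nat.beq (sumG 54 65 fun y => b2n (fK y)) 693 = true := by decide +kernel
theorem chkL : Nat.beq (sumG 54 65 fun y => b2n (fL y)) 180 = true := by decide +kernel
theorem chkO : allGrid 54 65 fO = true := by decide +kernel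

end Cfsg.Agent.H532.PNormTwo.Fi22
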