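import Mathlib

/-!
# Counting in the kernel (helper532)
-/

set_option autoImplicit false

namespace Cfsg.Agent.H532.PNormTwo

/-- sum, kernel-friendly -/
noncomputable def sumB (n : ℕ) (f : ℕ → ℕ) : ℕ := Nat.rec 0 (fun k ih => Nat.add ih (f k)) n

theorem sumB_eq (n : ℕ) (f : ℕ → ℕ) : sumB n f = ∑ k ∈ Finset.range n, f k := by
  induction n with
  | zero => rfl
  | succ n ih =>
    rw [Finset.sum_range_succ, ← ih]
    rfl

/-- sum over a grid -/
noncomputable def sumG (m n : ℕ) (f : ℕ → ℕ) : ℕ := sumB m fun i => sumB n fun j => f (Nat.add (Nat.mul n i) j)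

theorem sumG_eq (m n : ℕ) (f : ℕ → ℕ) : sumG m n f = ∑ k ∈ Finset.range (m * n), f k := by
  unfold sumG
  rw [sumB_eq]
  induction m with
  | zero => simp
  | succ m ih =>
    rw [Finset.sum_range_succ, ih, sumB_eq, Nat.succ_mul, Finset.sum_range_add]
    congr 1
    refine Finset.sum_congr rfl fun j _ => ?_
    show f (n * m + j) = _
    rw [mul_comm]

/-- forcing the evaluation of a number -/
noncomputable def force {α : Type} (n : ℕ) (k : ℕ → α) : α := Nat.rec (k 0) (fun m _ => k (Nat.succ m)) n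

theorem force_eq {α : Type} (n : ℕ) (k : ℕ → α) : force n k = k n := by
  cases n <;> rfl

/-- `1` or `0` -/
noncomputable def b2n (b : Bool) : ℕ := Bool.rec 0 1 b

theorem b2n_eq (b : Bool) : b2n b = if b = true then 1 else 0 := by
  cases b <;> rfl

theorem card_of_sum {N : ℕ} (p : Fin N → Prop) (f : ℕ → Bool) (h : ∀ y : Fin N, f y = true ↔ p y) {A : ℕ}
    (hA : ∑ k ∈ Finset.range N, b2n (f k) = A) : Nat.card {y : Fin N // p y} = A := by
  classical
  rw [Nat.card_eq_fintype_card, Fintype.card_subtype, Finset.card_filter, ← hA,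
    ← Fin.sum_univ_eq_sum_range (fun k => b2n (f k)) N]
  refine Finset.sum_congr rfl fun y _ => ?_
  rw [b2n_eq]
  by_cases hy : p y
  · rw [if_pos hy, if_pos ((h y).2 hy)]
  · rw [if_neg hy, if_neg fun h1 => hy ((h y).1 h1)]

end Cfsg.Agent.H532.PNormTwo
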