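import Cfsg.Agent.H532.PNormTwo.Fi24Dat

/-!
# `Fi24`: commuting pairs `(q, x q)`, kernel check 0 (helper532)
-/

set_option autoImplicit false
set_option maxRecDepth 100000

namespace Cfsg.Agent.H532.PNormTwo.Fi24

theorem chk0 : chkW xw U [.k, .l, .a, .b, .c, .d, .e, .f, .g, .j, .h, .d, .c, .b, .e, .d, .f, .i, .h, .d, .c, .b, .a, .e, .d, .c, .b, .f, .e, .d, .g, .h, .d, .e, .f, .g] 84728 t0_T l0 = true := by decide +kernel

end Cfsg.Agent.H532.PNormTwo.Fi24
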