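import Cfsg.Agent.H532.PNormTwo.Fi24Pl

/-!
# `Fi24`: commuting pairs `(q, x q)`, kernel check 1 (helper532)
-/

set_option autoImplicit false
set_option maxRecDepth 100000

namespace Cfsg.Agent.H532.PNormTwo.Fi24

/-- the check with the literal bit planes of `xw` -/
theorem chk1x : chkX U [.k, .a, .b, .c, .d, .e, .f, .g, .h, .d, .c, .b, .e, .d, .f, .e, .i, .h, .d, .c, .b, .a, .k, .e, .d, .c, .b, .f, .e, .h, .d, .c, .e, .f, .i, .h, .d, .e] 133055 t1_T l1 = true := by decide +kernel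

theorem chk1 : chkW xw U [.k, .a, .b, .c, .d, .e, .f, .g, .h, .d, .c, .b, .e, .d, .f, .e, .i, .h, .d, .c, .b, .a, .k, .e, .d, .c, .b, .f, .e, .h, .d, .c, .e, .f, .i, .h, .d, .e] 133055 t1_T l1 = true :=
  (chkW_eq ..).trans chk1x

end Cfsg.Agent.H532.PNormTwo.Fi24
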