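import Cfsg.Agent.H532.PNormTwo.Fi24Dat

/-!
# `Fi24`: commuting pairs `(q, x q)`, kernel checks 2 (helper532)

The walk in `t2_T` in two parts (memory of the kernel check).
-/

set_option autoImplicit false
set_option maxRecDepth 100000

namespace Cfsg.Agent.H532.PNormTwo.Fi24

open Cfsg.Agent.Fischer.Fi24RepDef Cfsg.Agent.Fischer.Fi24Rep Cfsg.Agent.Fischer.Fi24RepLib

def t2a_0 : MF :=
  (.n .f (.n .j (.n .i (.w (.p true (.n .a false (.n .e true (.n .g false (.n .h true .o .o) (.n .h true .o .o))
  (.n .g true (.n .h true .o .o) .o)) (.n .e false (.n .g false (.n .h true .o .o) (.n .h true .o .o)) .o)) .o)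
  (.n .k (.w (.p true (.n .a false (.n .e false (.n .g true .o (.n .h true .o .o)) (.n .g true .o (.n .h true .o
  .o))) (.n .e true .o (.n .g true .o .o))) .o) .o) .o)) .o) (.n .k (.w (.p true (.n .a true (.n .e true (.n .h
  true .o .o) (.n .h true .o .o)) (.n .e true (.n .h true .o .o) (.n .h true .o .o))) .o) .o) .o)) (.n .i (.w (.p
  true (.n .a false (.n .g true .o .o) (.n .e true .o (.n .g false (.n .h true .o .o) (.n .h true .o .o)))) .o)
  .o) (.n .j (.w (.p true (.n .a false (.n .e true (.n .h true .o .o) (.n .g false (.n .h true .o .o) (.n .h true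
  .o .o))) (.n .g true (.n .h true .o .o) .o)) .o) (.n .i (.w (.p false (.n .a false (.n .e false (.n .g false (.n
  .h true .o .o) (.n .h true .o .o)) (.n .g true .o .o)) (.n .e false (.n .g false (.n .h true .o .o) .o) (.n .g
  false (.n .h true .o .o) (.n .h true .o .o)))) .o) (.n .k (.w (.p false (.n .a false (.n .e false (.n .h true .o
  .o) (.n .g false (.n .h true .o .o) (.n .h true .o .o))) (.n .g false (.n .h true .o .o) (.n .h true .o .o)))
  .o) .o) .o)) (.n .k (.w (.p false (.n .a false (.n .e false (.n .g true .o (.n .h true .o .o)) (.n .g true .o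
  (.n .h true .o .o))) (.n .e false (.n .g true (.n .h true .o .o) (.n .h true .o .o)) (.n .g true .o .o))) (.n .a
  (.n .e (.n .g (.w (.n .b (.w (.p true (.n .a false (.n .e true (.n .g true .o .o) .o) (.n .e true (.n .g true .o
  (.n .h true .o .o)) (.n .g true .o .o))) .o) .o) .o) .o) .o) .o) .o)) .o) .o))) .o)))

def t2a_1 : MF :=
  (.n .a (.n .h (.w (.n .b (.n .d (.w (.p true (.n .a false (.n .e false (.n .g false (.n .h true .o .o) .o) (.n
  .g true .o (.n .h true .o .o))) (.n .e true (.n .g false (.n .h true .o .o) (.n .h true .o .o)) (.n .g false (.n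
  .h true .o .o) .o))) .o) (.n .f (.n .j (.w (.p true (.n .a true (.n .e false (.n .h true .o .o) (.n .g false (.n
  .h true .o .o) (.n .h true .o .o))) (.n .e true (.n .g true (.n .h true .o .o) .o) (.n .g true (.n .h true .o
  .o) (.n .h true .o .o)))) .o) (.n .i (.w (.p true (.n .a false (.n .e true (.n .g true .o .o) (.n .g true .o (.n
  .h true .o .o))) (.n .e false (.n .g true .o .o) (.n .g true .o .o))) .o) (.n .k (.w (.p true (.n .a false (.n
  .e false (.n .g true .o (.n .h true .o .o)) (.n .g true (.n .h true .o .o) (.n .h true .o .o))) (.n .e true (.n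
  .g false (.n .h true .o .o) .o) (.n .g true .o (.n .h true .o .o)))) .o) .o) .o)) .o)) .o) (.n .j (.n .i (.n .k
  (.w (.p true (.n .a false (.n .e false (.n .g false (.n .h true .o .o) .o) .o) (.n .e true (.n .h true .o .o)
  (.n .g true (.n .h true .o .o) (.n .h true .o .o)))) .o) .o) .o) .o) (.n .k (.w (.p true (.n .a false (.n .e
  false (.n .g true .o .o) (.n .g true (.n .h true .o .o) .o)) (.n .e true (.n .h true .o .o) (.n .g false (.n .h
  true .o .o) (.n .h true .o .o)))) .o) .o) .o)))) t2_10) (.n .d (.w (.p true (.n .a true (.n .e false (.n .g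
  false (.n .h true .o .o) (.n .h true .o .o)) (.n .h true .o .o)) (.n .e true (.n .g true .o (.n .h true .o .o))
  (.n .g false (.n .h true .o .o) .o))) .o) t2a_0) .o)) .o) .o) .o)

def t2a_2 : MF :=
  (.n .d (.n .f (.n .i (.n .k (.w (.p true (.n .a false (.n .e true (.n .g false (.n .h true .o .o) .o) (.n .g
  true .o .o)) (.n .e false (.n .g false (.n .h true .o .o) .o) (.n .g false (.n .h true .o .o) (.n .h true .o
  .o)))) .o) .o) .o) (.n .k (.w (.p true (.n .a true (.n .e true (.n .g true (.n .h true .o .o) (.n .h true .o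
  .o)) (.n .g true .o .o)) (.n .e false (.n .g true (.n .h true .o .o) (.n .h true .o .o)) (.n .g true .o .o)))
  .o) .o) .o)) (.n .i (.w (.p true (.n .a true (.n .e true (.n .g false (.n .h true .o .o) (.n .h true .o .o)) (.n
  .g true (.n .h true .o .o) .o)) (.n .e true (.n .g false (.n .h true .o .o) (.n .h true .o .o)) (.n .g false (.n
  .h true .o .o) (.n .h true .o .o)))) .o) .o) (.n .j (.w (.p false (.n .a true (.n .e false (.n .g false (.n .h
  true .o .o) .o) (.n .g true .o .o)) (.n .e false (.n .g true .o (.n .h true .o .o)) (.n .h true .o .o))) .o) (.n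
  .i (.w (.p false (.n .a true (.n .e true (.n .g false (.n .h true .o .o) .o) (.n .g false (.n .h true .o .o) (.n
  .h true .o .o))) (.n .e true (.n .g false (.n .h true .o .o) (.n .h true .o .o)) (.n .g true (.n .h true .o .o)
  (.n .h true .o .o)))) .o) (.n .k (.w (.p false (.n .a true (.n .e true (.n .g true (.n .h true .o .o) .o) (.n .g
  true (.n .h true .o .o) (.n .h true .o .o))) (.n .e true (.n .g false (.n .h true .o .o) .o) .o)) .o) .o) .o))
  .o)) .o))) (.n .f (.w (.p false (.n .a true (.n .e false (.n .g false (.n .h true .o .o) (.n .h true .o .o)) (.n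
  .g false (.n .h true .o .o) (.n .h true .o .o))) (.n .e true (.n .g true (.n .h true .o .o) (.n .h true .o .o))
  (.n .g false (.n .h true .o .o) .o))) .o) (.n .i (.n .k (.w (.p true (.n .a false (.n .e false (.n .g false (.n
  .h true .o .o) .o) (.n .g true .o .o)) (.n .e false (.n .h true .o .o) (.n .g true .o .o))) .o) .o) .o) .o)) (.n
  .i (.n .k (.w (.p true (.n .a true (.n .e true (.n .g true .o .o) (.n .g false (.n .h true .o .o) .o)) (.n .e
  true (.n .g false (.n .h true .o .o) .o) (.n .g true .o .o))) .o) .o) .o) (.n .j (.n .i (.w (.p false (.n .a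
  false (.n .e true (.n .g true (.n .h true .o .o) (.n .h true .o .o)) .o) (.n .e true (.n .g false (.n .h true .o
  .o) (.n .h true .o .o)) (.n .g true .o (.n .h true .o .o)))) t2a_1) .o) .o) .o))))

def t2a_3 : MF :=
  (.n .f (.w (.p false (.n .a true (.n .e true (.n .g true (.n .h true .o .o) (.n .h true .o .o)) (.n .g false (.n
  .h true .o .o) .o)) (.n .g false (.n .h true .o .o) .o)) .o) (.n .i (.w (.p true (.n .a true (.n .e false (.n .g
  true (.n .h true .o .o) .o) (.n .g true .o (.n .h true .o .o))) (.n .e true (.n .h true .o .o) (.n .g true .o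
  .o))) .o) (.n .k (.w (.p false (.n .a false (.n .e false (.n .g true .o (.n .h true .o .o)) (.n .h true .o .o))
  (.n .e true (.n .g true .o .o) .o)) .o) .o) .o)) (.n .j t2_18 (.n .k (.w (.p false (.n .a true (.n .e true (.n
  .h true .o .o) (.n .g false (.n .h true .o .o) (.n .h true .o .o))) (.n .e true (.n .g false (.n .h true .o .o)
  (.n .h true .o .o)) (.n .g true (.n .h true .o .o) (.n .h true .o .o)))) .o) .o) .o)))) (.n .i (.n .k (.w (.p
  false (.n .a true (.n .e false (.n .g false (.n .h true .o .o) (.n .h true .o .o)) (.n .g true .o .o)) (.n .e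
  true (.n .g true (.n .h true .o .o) (.n .h true .o .o)) (.n .g false (.n .h true .o .o) .o))) .o) .o) .o) (.n .j
  (.n .i (.w (.p false (.n .a true (.n .e true (.n .g false (.n .h true .o .o) (.n .h true .o .o)) (.n .g true .o
  .o)) (.n .e false (.n .g false (.n .h true .o .o) .o) (.n .g true .o (.n .h true .o .o)))) (.n .a (.n .c (.n .e
  (.n .g (.w (.n .b (.w (.p false (.n .a false (.n .e true (.n .g true .o (.n .h true .o .o)) (.n .g false (.n .h
  true .o .o) (.n .h true .o .o))) (.n .e true (.n .g false (.n .h true .o .o) .o) (.n .g false (.n .h true .o .o)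
  (.n .h true .o .o)))) .o) t2a_2) .o) .o) .o) .o) .o) .o)) .o) .o) .o)))

def t2a_T : MF :=
  (.p true (.n .a true (.n .e true (.n .g false (.n .h true .o .o) .o) (.n .g true (.n .h true .o .o) (.n .h true
  .o .o))) (.n .e true .o (.n .g true (.n .h true .o .o) (.n .h true .o .o)))) (.n .c (.n .e (.n .g (.w (.n .b (.w
  t2_20 (.n .d (.w (.p false (.n .a true (.n .e true (.n .g true (.n .h true .o .o) (.n .h true .o .o)) (.n .g
  false (.n .h true .o .o) .o)) (.n .e true (.n .g true .o .o) (.n .g false (.n .h true .o .o) (.n .h true .o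
  .o)))) .o) t2a_3) .o)) .o) .o) .o) .o) .o))

def l2a : List ℕ :=
  [120275, 120274, 120278, 120270, 120282, 120266, 120258, 120279, 120283, 120267, 120259, 104284, 104280, 104256,
  104264, 104276, 104260, 104268, 104281, 104265, 104269, 252312, 252317, 252301, 252308, 252304, 252288, 251535,
  251534, 251530, 251538, 251546, 251526, 251542, 251539, 251547, 251527, 251543, 251551, 251100, 251073, 251093,
  251088, 251080, 251084, 10125, 10120, 10112, 10128, 10136, 10121, 10117, 10133, 10141, 252724, 252725, 252721,
  252733, 252720, 252712, 252704, 252732, 252716, 252708, 20288, 20312, 20297, 20289, 20305, 20313, 20309, 20317,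
  18957, 18956, 18952, 18944, 18968, 18945, 18961, 18969, 18965, 18973, 104338, 104343, 104351, 104327, 104331,
  104323, 104342, 104350, 104346, 104330, 104322, 25038, 25054, 25039, 25047, 25027, 20951, 20939, 20958, 20950,
  20946, 91410, 91411, 91423, 91399, 91395, 91406, 91398, 59483, 59475, 59459, 59463, 59466, 59470, 53147, 53131,
  53143, 53127, 53135, 53138, 53130, 53134, 18335, 18307, 18330, 18306, 18326, 86315, 86307, 86335, 86311, 86322,
  86330, 86314, 86306, 86334, 86310, 73971, 73963, 73983, 73959, 73978, 73962, 73954, 73966, 73958, 20726, 20723,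
  20707, 20735, 20722, 20710, 22166, 22167, 22163, 22171, 22151, 22162, 22170, 22154, 22174, 22158, 22150, 20779,
  20778, 20782, 20790, 20798, 20794, 20775, 20791, 20771, 20787, 90648, 90645, 90637, 90625, 90628, 90636, 90640,
  90632, 21706, 21718, 21726, 21698, 21714, 21703, 21719, 21727, 21723, 20174, 20178, 20186, 20167, 20183, 20191,
  20187, 23558, 23574, 23567, 23559, 23583, 23571, 24034, 24046, 24054, 24063, 24055, 24043, 24059, 85878, 85874,
  85882, 85866, 85858, 85870, 85875, 85883, 85871, 85863, 100278, 100274, 100282, 100266, 100258, 100270, 100271,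
  132007, 132006, 132010, 132026, 132014, 132022, 132003, 132019, 132015, 139050, 139058, 139062, 139043, 139051,
  89430, 89426, 89418, 89438, 89422, 89414, 89411, 89439, 89415, 106474, 106490, 106486, 106494, 106475, 106467,
  106483, 106491, 106471, 106487, 106495, 258976, 259004, 258984, 258981, 259005, 258997, 258985, 258993, 258058,
  258059, 258055, 258071, 258079, 258067, 258075, 258070, 258078, 258050, 258074, 260709, 260708, 260704, 260712,
  260728, 260720, 260716, 260732, 260713, 260729, 260721, 260733, 260725, 259465, 259469, 259477, 259457, 259468,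
  259460, 259476, 259472, 259480, 258739, 258742, 258750, 258734, 258730, 258743, 258751, 258735, 258727, 258731,
  258723, 263596, 263608, 263589, 263597, 263593, 263601, 263811, 263814, 263838, 263826, 263815, 263839, 263831,
  263819, 263835, 263507, 263518, 263494, 263514, 263511, 263519, 263503, 263495, 263491, 262561, 262560, 262588,
  262580, 262584, 262576, 262565, 262573, 262589, 262569, 262585, 262577, 127192, 127184, 127176, 127172, 127193,
  127185, 127169, 127177, 127173, 127181, 135709, 135708, 135704, 135696, 135688, 135700, 135684, 135681, 135693,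
  138969, 138961, 138945, 138965, 138949, 138957, 138944, 138952, 138948, 154908, 154881, 154889, 154885, 154893,
  154904, 154896, 154880, 160181, 160180, 160184, 160168, 160160, 160188, 160172, 160164, 160177, 160169, 160161,
  160189, 160165, 170105, 170084, 170092, 170080, 170109, 170101, 170085, 170093, 170097, 170081, 151149, 151148,
  151144, 151136, 151145, 151157, 151165, 181708, 181700, 181720, 181709, 181717, 181697, 181721, 275099, 275091,
  275075, 275083, 275095, 275079, 112471, 112470, 112466, 112450, 112454, 79935, 79934, 79930, 79922, 79906,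
  79919, 106614, 106610, 106594, 106606, 106598, 106611, 106603, 106595, 106623, 106607, 106599, 124326, 124346,
  124338, 124334, 124323, 124331, 124347, 124339, 124351, 102854, 102850, 102874, 102866, 102862, 102875, 102863,
  102871, 90317, 90309, 90333, 90321, 90329, 90316, 90324, 90320, 90328, 9598, 9595, 9571, 9591, 9570, 9574, 9582,
  9788, 9789, 9785, 9777, 9761, 9769, 9781, 9776, 9760, 9768, 9780, 250520, 250521, 250525, 250501, 250509,
  250513, 250497, 250524, 250500, 250508, 250496, 250504, 251697, 251693, 251705, 251708, 251684, 251680, 251315,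
  251319, 251311, 251307, 251299, 251318, 251310, 251302, 251322, 251306, 251298, 9876, 9872, 9880, 9864, 9884,
  9868, 9860, 9873, 9865, 71145, 71157, 71165, 71153, 71161, 71148, 71140, 71156, 71164, 71152, 17848, 17829,
  17841, 17836, 17840, 19416, 19417, 19421, 19413, 19393, 19420, 19396, 19408, 82485, 82493, 82477, 82469, 82484,
  82476, 82468, 82488, 82464, 69398, 69387, 69407, 69383, 69394, 69386, 69378, 69390, 48862, 48863, 48843, 48839,
  48847, 48858, 48850, 48834, 48854, 48838, 48846, 54908, 54905, 54897, 54901, 54893, 54896, 54900, 66524, 66513,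
  66505, 66517, 66501, 66509, 66520, 66496, 66516, 66508, 84110, 84115, 84106, 84122, 84102, 84118, 84126, 62388,
  62393, 62397, 62381, 62384, 62368, 62380, 62372, 71093, 71089, 71097, 71092, 71072, 71088, 71096, 96552, 96544,
  96564, 96545, 96549, 96565, 96573, 86765, 86764, 86760, 86768, 86756, 86780, 86753, 86777, 86757, 86773, 126113,
  126117, 126141, 126137, 126129, 126124, 126136, 114085, 114093, 114084, 114092, 114104, 114096, 103625, 103629,
  103621, 103637, 103645, 103617, 103633, 103641, 103628, 103620, 103616, 103640, 103369, 103373, 103381, 103361,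
  103385, 103372, 103388, 49591, 49590, 49578, 49570, 49574, 49587, 49595, 49571, 49583, 42175, 42170, 42146,
  42154, 42166, 42150, 42147, 42155, 52638, 52627, 52619, 52631, 52623, 52634, 52630, 210167, 210166, 210162,
  210146, 210150, 210163, 210147, 210151, 55671, 55678, 55667, 55663, 55655, 44703, 44698, 44682, 44678, 44686,
  44695, 44679, 49898, 49890, 49918, 49899, 49903, 49895, 63090, 63102, 63094, 63103, 63095, 50042, 50018, 50046,
  50022, 50043, 50027, 50019, 50047, 250680, 250685, 250677, 250684, 250676, 250668, 250672]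

def t2b_0 : MF :=
  (.n .b (.n .d (.n .f (.n .i (.n .k (.w (.p true (.n .a true (.n .e true (.n .g false (.n .h true .o .o) .o) .o)
  (.n .e false (.n .g true .o .o) .o)) .o) .o) .o) (.n .j (.n .i (.w (.p false (.n .a true (.n .e true (.n .h true
  .o .o) (.n .g false (.n .h true .o .o) .o)) (.n .e false (.n .g true (.n .h true .o .o) (.n .h true .o .o)) (.n
  .g true (.n .h true .o .o) .o))) .o) (.n .k (.w (.p true (.n .a false (.n .e true (.n .g true (.n .h true .o .o)
  .o) (.n .g true .o .o)) (.n .e false (.n .g true .o .o) (.n .g true (.n .h true .o .o) .o))) .o) .o) .o)) .o)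
  (.n .k (.w (.p false (.n .a true (.n .e false (.n .g true .o .o) .o) (.n .e false (.n .g false (.n .h true .o
  .o) (.n .h true .o .o)) (.n .h true .o .o))) .o) .o) .o))) (.n .j (.w (.p true (.n .a true (.n .e true (.n .g
  true (.n .h true .o .o) .o) (.n .g true .o .o)) (.n .e true (.n .g true .o (.n .h true .o .o)) .o)) .o) (.n .i
  (.w (.p true (.n .a false (.n .e true (.n .g false (.n .h true .o .o) (.n .h true .o .o)) .o) (.n .e false (.n
  .g false (.n .h true .o .o) (.n .h true .o .o)) (.n .g false (.n .h true .o .o) .o))) .o) .o) .o)) (.n .k (.w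
  (.p true (.n .a false (.n .e false (.n .g false (.n .h true .o .o) (.n .h true .o .o)) (.n .g false (.n .h true
  .o .o) (.n .h true .o .o))) (.n .e false (.n .h true .o .o) (.n .g true .o .o))) .o) .o) .o))) t2_7) (.n .d (.w
  (.p false (.n .a true (.n .e true (.n .g true .o .o) (.n .g true .o .o)) (.n .g false (.n .h true .o .o) (.n .h
  true .o .o))) .o) (.n .f (.w (.p true (.n .a true (.n .e false (.n .g false (.n .h true .o .o) (.n .h true .o
  .o)) (.n .h true .o .o)) (.n .e true (.n .h true .o .o) (.n .h true .o .o))) .o) (.n .i (.n .k (.w (.p false (.n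
  .a true (.n .e true (.n .g true .o .o) (.n .g true .o .o)) (.n .e false (.n .g false (.n .h true .o .o) .o) (.n
  .h true .o .o))) .o) .o) .o) (.n .j (.n .i (.w (.p false (.n .a false (.n .e true (.n .g true .o .o) (.n .g true
  .o (.n .h true .o .o))) (.n .g true (.n .h true .o .o) .o)) .o) .o) .o) .o))) (.n .i (.w (.p true (.n .a true
  (.n .e false (.n .g true .o .o) (.n .g true (.n .h true .o .o) (.n .h true .o .o))) (.n .e false (.n .g false
  (.n .h true .o .o) .o) .o)) .o) .o) (.n .j (.w (.p false (.n .a true (.n .e false (.n .g true .o (.n .h true .o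
  .o)) (.n .g true .o .o)) (.n .e false (.n .g true .o (.n .h true .o .o)) .o)) .o) .o) .o)))) t2_6))

def t2b_1 : MF :=
  (.n .b (.n .j (.n .i (.w (.n .a (.n .h (.w (.n .d (.n .j (.n .k (.w (.n .a (.n .e (.n .g (.w t2b_0 .o) .o) .o)
  .o) .o) .o) (.n .k (.w (.p false (.n .a false (.n .e false (.n .g false (.n .h true .o .o) (.n .h true .o .o))
  (.n .g true (.n .h true .o .o) (.n .h true .o .o))) (.n .e true (.n .g true (.n .h true .o .o) (.n .h true .o
  .o)) (.n .g true .o .o))) .o) .o) .o)) (.n .f (.n .j (.n .i (.n .k (.w (.p false (.n .a true (.n .e false (.n .g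
  false (.n .h true .o .o) (.n .h true .o .o)) (.n .g true (.n .h true .o .o) .o)) (.n .e false (.n .h true .o .o)
  (.n .g true .o .o))) .o) .o) .o) .o) .o) (.n .j (.n .i (.w (.p true (.n .a false (.n .e true (.n .g true .o .o)
  (.n .h true .o .o)) (.n .e false (.n .g false (.n .h true .o .o) .o) (.n .h true .o .o))) .o) .o) (.n .k (.w (.p
  true (.n .a false (.n .e false (.n .g false (.n .h true .o .o) .o) (.n .g true (.n .h true .o .o) (.n .h true .o
  .o))) (.n .e true (.n .g false (.n .h true .o .o) (.n .h true .o .o)) (.n .g false (.n .h true .o .o) .o))) .o)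
  .o) .o)) .o))) .o) .o) .o) .o) .o) .o) (.n .d t2_12 (.n .f (.w (.p false (.n .a false (.n .e false (.n .g false
  (.n .h true .o .o) .o) (.n .g false (.n .h true .o .o) (.n .h true .o .o))) (.n .e false (.n .g true (.n .h true
  .o .o) (.n .h true .o .o)) (.n .g true .o .o))) .o) .o) (.n .j (.w (.p true (.n .a true (.n .e false (.n .g
  false (.n .h true .o .o) (.n .h true .o .o)) (.n .g true (.n .h true .o .o) (.n .h true .o .o))) (.n .g true .o
  (.n .h true .o .o))) .o) (.n .i (.n .k (.w (.p false (.n .a true (.n .e false (.n .g true .o (.n .h true .o .o))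
  (.n .g false (.n .h true .o .o) (.n .h true .o .o))) (.n .e true (.n .h true .o .o) (.n .g true (.n .h true .o
  .o) (.n .h true .o .o)))) .o) .o) .o) .o)) .o))))

def t2b_T : MF :=
  (.n .c (.n .e (.n .g (.w (.n .b (.n .d (.n .j (.n .i (.w (.n .a (.n .c (.n .e (.n .g (.w t2b_1 .o) .o) .o) .o)
  .o) .o) (.n .k (.w (.p false (.n .a true (.n .e false (.n .g true .o .o) (.n .g true (.n .h true .o .o) (.n .h
  true .o .o))) (.n .e true (.n .g true .o .o) .o)) .o) .o) .o)) (.n .k (.w (.p true (.n .a false (.n .e false (.n
  .g true .o (.n .h true .o .o)) (.n .h true .o .o)) (.n .e true (.n .g true .o .o) (.n .g false (.n .h true .o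
  .o) .o))) .o) .o) .o)) t2_19) (.n .d t2_16 t2_15)) .o) .o) .o) .o)

def l2b : List ℕ :=
  [19464, 19465, 19469, 19477, 19460, 72303, 72299, 72315, 72311, 72290, 72306, 72314, 72294, 72310, 20398, 20395,
  20387, 20403, 20391, 20386, 20390, 20406, 18249, 18245, 18260, 18268, 18264, 79288, 79289, 79293, 79285, 79269,
  79281, 79292, 79284, 79276, 105704, 105709, 105717, 105725, 105716, 105724, 105712, 19992, 19973, 19981, 19969,
  19977, 19980, 19984, 9804, 9805, 9801, 9793, 9817, 9813, 9800, 9808, 9816, 9796, 251006, 251007, 250995, 250987,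
  250999, 251002, 250994, 250998, 9903, 9899, 9907, 9915, 9895, 9911, 9890, 9567, 9555, 9539, 9547, 9562, 9554,
  9546, 9558, 9542, 9550, 9500, 9497, 9493, 9477, 9485, 9496, 9488, 9472, 9480, 9476, 251387, 251379, 251371,
  251390, 251382, 251374, 251378, 10180, 10176, 10181, 10197, 10205, 10177, 251706, 251707, 251687, 251699,
  251691, 251702, 251694, 251698, 10210, 10215, 10239, 10235, 10238, 10226, 59163, 59167, 59159, 59155, 59138,
  59146, 49530, 49531, 49511, 49519, 49515, 49534, 49518, 49514, 17320, 17324, 17316, 17312, 17333, 17337, 60907,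
  60899, 60903, 60927, 60902, 60918, 78474, 78475, 78471, 78467, 78483, 78491, 78486, 69689, 69685, 69677, 69681,
  69684, 69676, 41567, 41562, 41554, 41563, 41539, 41547, 41559, 41551, 48130, 48154, 48134, 48139, 48147, 48155,
  48135, 48151, 48159, 15278, 15274, 15282, 15290, 15267, 15283, 15291, 15287, 52762, 52766, 52747, 52763, 52759,
  15598, 15586, 15602, 15610, 15587, 15607, 15615, 14174, 14162, 14154, 14171, 14163, 14151, 14159, 54079, 54063,
  54051, 54059, 54078, 54054, 54062, 54066, 63151, 63139, 63158, 63154, 63138, 15859, 15858, 15862, 15854, 15871,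
  45674, 45666, 45694, 45678, 45670, 45683, 45691, 45675, 45667, 45695, 81260, 81264, 81272, 81252, 81268, 81273,
  81253, 77769, 77772, 77764, 77784, 77781, 77785, 85345, 85372, 85352, 85368, 85360, 85349, 85373, 85365, 85369,
  56188, 56189, 56185, 56181, 56173, 56184, 56176, 56172, 16349, 16348, 16336, 16320, 16328, 16340, 16324, 16345,
  16337, 16329, 16341, 16325, 16333, 18140, 18141, 18137, 18129, 18133, 18120, 18132, 18124, 66776, 66777, 66773,
  66780, 66756, 66764, 66768, 66752, 19249, 19248, 19252, 19236, 19256, 19240, 19253, 19261, 19245, 19257, 19241,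
  19233, 93872, 93861, 93881, 93884, 93868, 93860, 93856, 74484, 74485, 74465, 74480, 74488, 74472, 74476, 19951,
  19950, 19962, 19958, 19939, 19963, 19943, 19967, 21519, 21514, 21506, 21522, 21530, 21534, 21515, 21507, 21523,
  21531, 80629, 80625, 80633, 80612, 80628, 80636, 80608, 123744, 123745, 123773, 123765, 123753, 123769, 123761,
  123752, 123760, 21808, 21820, 21796, 21800, 21792, 21813, 21797, 21817, 21801, 21793, 71678, 71666, 71670,
  71654, 71662, 71675, 71667, 97335, 97338, 97314, 97318, 97331, 97339, 97327, 137733, 137728, 137753, 137741,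
  137749, 126439, 126434, 126458, 126450, 126446, 126462, 126454, 126435, 126443, 126459, 126447, 126463, 115839,
  115838, 115834, 115818, 115830, 115814, 115822, 115827, 115811, 115819, 115831, 115815, 147951, 147950, 147938,
  147954, 147942, 147958, 147966, 147947, 147939, 147943, 121408, 121424, 121436, 121425, 121429, 105165, 105160,
  105172, 105180, 105161, 105153, 105177, 121604, 121600, 121608, 121624, 121612, 121628, 121601, 121617, 121613,
  104202, 104194, 104210, 104218, 104214, 104195, 104199, 104215, 104223, 126375, 126394, 126390, 126395, 126383,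
  126391, 148788, 148777, 148797, 148773, 148792, 148796, 148780, 148772, 167684, 167692, 167708, 167681, 167689,
  167697, 150597, 150596, 150616, 150604, 150593, 150601, 150609, 150605, 150621, 150613, 134676, 134677, 134673,
  134681, 134665, 134685, 134661, 134664, 134668, 134660, 152901, 152900, 152908, 152924, 152897, 152905, 152921,
  152913, 152925, 152917, 119752, 119772, 119764, 119745, 119753, 119769, 119765, 134341, 134360, 134348, 134364,
  134356, 134361, 134353, 151053, 151048, 151064, 151044, 151068, 151049, 151041, 151057, 151065, 151061, 144748,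
  144737, 144761, 144765, 144736, 144752, 144740, 134792, 134808, 134793, 134785, 134801, 134805, 134813, 150725,
  150724, 150720, 150728, 150732, 150748, 150740, 150737, 150733, 150749, 150741, 134277, 134276, 134280, 134296,
  134288, 134292, 134273, 121356, 121360, 121368, 121348, 121364, 121372, 121353, 121345, 121369, 121349, 121373,
  135034, 135030, 135011, 135019, 135023, 185386, 185399, 185407, 185390, 185382, 185378, 185394, 185402, 182785,
  182804, 182792, 182797, 182813, 182809, 168809, 168808, 168812, 168824, 168805, 168825, 179433, 179432, 179436,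
  179428, 179424, 179437, 179429, 179445, 179449, 182668, 182669, 182665, 182657, 182681, 182661, 182685, 182656,
  160326, 160330, 160350, 160323, 160347, 160339, 160335, 160343, 182919, 182923, 182935, 182922, 182930, 182942,
  182934, 174531, 174539, 174555, 174559, 174530, 174538, 174558, 174550, 142934, 142923, 142919, 142930, 142938,
  142926, 142918, 167983, 167982, 167978, 167974, 167990, 167998, 167987, 177063, 177058, 177070, 177071, 177079,
  176260, 176280, 176257, 176265, 176269, 176285, 179300, 179320, 179325, 179305, 179321, 135618, 135626, 135638,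
  135630, 135635, 135619, 152814, 152802, 152818, 152826, 152830, 152811, 152803, 152823, 177794, 177802, 177810,
  177814, 177807, 150562, 150571, 150587, 150579, 150575, 150583, 150358, 150346, 150338, 150366, 150355, 150363,
  162838, 162839, 162835, 162831, 162826, 162830, 118341, 118340, 118336, 118352, 118364, 118356, 118337, 118345,
  118349, 134600, 134608, 134616, 134620, 134601, 134617, 134597, 134613, 134621, 152981, 152976, 152968, 152960,
  152977, 152985, 152969, 152961, 152965, 164836, 164837, 164833, 164841, 164857, 164849, 164845, 164861, 164840,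
  164856, 164848, 164852, 140261, 140260, 140280, 140272, 140268, 140276, 140257, 140281, 140273]

theorem chk2a : chkW xw U [.k, .a, .b, .c, .d, .e, .f, .g, .j, .h, .d, .c, .b, .a, .e, .d, .f, .e, .g, .i, .h, .d, .c, .b, .a, .e, .d, .c, .b, .f, .e, .g, .f, .h, .d, .c, .b, .a, .k] 120275 t2a_T l2a = true := by decide +kernel

theorem chk2b : chkW xw U [.k, .a, .b, .c, .d, .e, .f, .g, .j, .h, .d, .c, .b, .a, .e, .d, .f, .e, .g, .i, .h, .d, .c, .b, .a, .e, .d, .c, .b, .f, .e, .g, .f, .h, .d, .c, .b, .a, .k] 120275 t2b_T l2b = true := by decide +kernel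

theorem mk2 : Nat.beq (mk l2 0) (mk l2a (mk l2b 0)) = true := by decide +kernel

theorem chk2s : ∀ q ∈ l2, Gd U (word xw) q := by
  intro q hq
  have h1 := Nat.eq_of_beq_eq_true mk2
  have h2 : (mk l2 0).testBit q = true := (testBit_mk l2 0 q).2 (Or.inr hq)
  rw [h1, testBit_mk, testBit_mk] at h2
  rcases h2 with (h2 | h2) | h2
  · exact absurd h2 (by simp)
  · exact chkW_spec chk2b q h2
  · exact chkW_spec chk2a q h2

end Cfsg.Agent.H532.PNormTwo.Fi24
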