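import Cfsg.Agent.H532.PNormTwo.Fi24Dat

/-!
# `Fi24`: commuting pairs `(q, x q)`, kernel checks 3 (helper532)

The walk in `t3_T` in three parts (memory of the kernel check).
-/

set_option autoImplicit false
set_option maxRecDepth 100000

namespace Cfsg.Agent.H532.PNormTwo.Fi24

open Cfsg.Agent.Fischer.Fi24RepDef Cfsg.Agent.Fischer.Fi24Rep Cfsg.Agent.Fischer.Fi24RepLib

def t3a_0 : MF :=
  (.n .d (.w (.p false (.n .a false (.n .e false (.n .g false (.n .h true .o .o) (.n .h true .o .o)) (.n .g true
  .o (.n .h true .o .o))) (.n .e false (.n .h true .o .o) .o)) .o) t3_26) (.n .f (.w (.p false (.n .a false (.n .g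
  true .o .o) (.n .e true (.n .g false (.n .h true .o .o) (.n .h true .o .o)) .o)) .o) (.n .i (.w (.p true (.n .a
  false (.n .g true (.n .h true .o .o) .o) (.n .g false (.n .h true .o .o) (.n .h true .o .o))) .o) .o) (.n .j (.n
  .i (.n .k (.w (.p false (.n .a false (.n .e true (.n .h true .o .o) .o) (.n .e true (.n .h true .o .o) .o)) .o)
  .o) .o) .o) (.n .k (.w (.p true (.n .a false (.n .g true .o .o) (.n .e false (.n .h true .o .o) (.n .g true .o
  (.n .h true .o .o)))) .o) .o) .o)))) (.n .i (.w (.p true (.n .a false (.n .e false (.n .h true .o .o) (.n .g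
  true .o .o)) (.n .e false (.n .g false (.n .h true .o .o) .o) .o)) (.n .a (.n .c (.n .e (.n .h (.n .l (.w (.p
  false (.n .b false t3_24 (.n .d false (.n .f false (.n .i false (.w false (.n .a false (.n .g true .o .o) (.n .g
  false (.n .h true .o .o) (.n .h true .o .o))) .o) (.n .j false (.n .i false (.w false (.n .a true .o .o) .o) .o)
  .o)) (.n .i false (.n .k false (.w false (.n .e true (.n .g true .o .o) .o) .o) .o) (.n .j false (.n .i false
  (.n .k false (.w false (.n .g false (.n .h true .o .o) .o) .o) .o) (.n .k false (.w true (.n .e false (.n .g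
  false (.n .h true .o .o) .o) (.n .g true .o .o)) .o) .o)) .o))) (.n .f false (.n .j false (.w false (.n .a false
  (.n .e false (.n .g false (.n .h true .o .o) .o) .o) .o) .o) .o) (.n .j false (.n .k false (.w true (.n .e false
  (.n .h true .o .o) (.n .g true .o .o)) .o) .o) .o)))) .o) .o) .o) .o) .o) .o) .o)) .o) .o)))

def t3a_1 : MF :=
  (.n .f (.n .j (.n .i (.n .k (.w (.p false (.n .a true (.n .e false (.n .g false (.n .h true .o .o) .o) (.n .h
  true .o .o)) (.n .e false (.n .h true .o .o) .o)) .o) .o) .o) .o) .o) (.n .i (.n .k (.w (.p true (.n .a true (.n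
  .e false (.n .h true .o .o) (.n .g true .o .o)) (.n .e true .o (.n .g true (.n .h true .o .o) (.n .h true .o
  .o)))) (.n .a (.n .c (.n .g (.n .h (.n .l (.w (.p false t3_28 (.n .b (.n .d (.n .f (.n .i (.n .k (.w (.p false
  (.n .a true (.n .h true .o .o) (.n .e false (.n .g true .o (.n .h true .o .o)) (.n .g true .o .o))) .o) .o) .o)
  (.n .j (.n .i (.n .k (.w (.p false (.n .a false (.n .e false (.n .g false (.n .h true .o .o) (.n .h true .o .o))
  (.n .g true .o .o)) (.n .e true .o (.n .h true .o .o))) .o) .o) .o) .o) (.n .k (.w (.p false (.n .a true .o (.n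
  .e true (.n .h true .o .o) (.n .g false (.n .h true .o .o) (.n .h true .o .o)))) .o) .o) .o))) (.n .j (.n .k (.w
  (.p false (.n .a true (.n .g false (.n .h true .o .o) .o) (.n .e false (.n .g false (.n .h true .o .o) .o) (.n
  .g true .o (.n .h true .o .o)))) .o) .o) .o) (.n .k (.w (.p true (.n .a false (.n .g true .o .o) (.n .e false
  (.n .g true .o .o) (.n .h true .o .o))) .o) .o) .o))) (.n .f (.n .i (.n .k (.w (.p true (.n .a false (.n .e true
  (.n .g true .o (.n .h true .o .o)) (.n .h true .o .o)) (.n .e false (.n .h true .o .o) .o)) .o) .o) .o) .o) (.n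
  .j (.n .k (.w (.p false (.n .a true (.n .g false (.n .h true .o .o) (.n .h true .o .o)) (.n .g false (.n .h true
  .o .o) .o)) .o) .o) .o) (.n .k (.w (.p true (.n .a false (.n .e false (.n .h true .o .o) (.n .g true (.n .h true
  .o .o) .o)) .o) .o) .o) .o)))) t3a_0)) .o) .o) .o) .o) .o) .o)) .o) .o) .o))

def t3a_2 : MF :=
  (.p false (.n .a false (.n .e false (.n .g false (.n .h true .o .o) .o) (.n .g false (.n .h true .o .o) .o)) (.n
  .e true (.n .g true (.n .h true .o .o) (.n .h true .o .o)) (.n .g false (.n .h true .o .o) (.n .h true .o .o))))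
  (.n .a (.n .c (.n .e (.n .g (.n .l (.w (.p false (.n .b false t3_30 (.n .d false (.w false (.n .a false (.n .e
  false (.n .g false (.n .h true .o .o) .o) .o) (.n .e true .o (.n .g true .o .o))) (.n .f false (.n .j false (.n
  .i false (.w false (.n .a true .o (.n .h true .o .o)) .o) (.n .k false (.w false (.n .e false (.n .g true .o .o)
  .o) .o) .o)) (.n .k false (.w false (.n .a false (.n .e false (.n .g true .o .o) .o) .o) .o) .o)) (.n .i false
  (.w true (.n .a false (.n .g true .o .o) .o) (.n .k false (.w false (.n .a false (.n .e true (.n .g true (.n .h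
  true .o .o) .o) .o) .o) .o) .o)) (.n .j false (.n .i false (.w false (.n .a false (.n .g true .o .o) .o) .o) .o)
  .o)))) (.n .f false (.n .i false (.n .k false (.w false (.n .e true .o .o) .o) .o) (.n .j false (.w false (.n .a
  false (.n .h true .o .o) .o) (.n .k false (.w true (.n .a false (.n .h true .o .o) (.n .g true .o .o)) .o) .o))
  .o)) (.n .i false (.n .k false (.w false (.n .e true .o .o) .o) .o) (.n .j false (.n .i false (.w false (.n .e
  false (.n .g true .o .o) .o) (.n .k false (.w false (.n .a false (.n .e false (.n .g true .o .o) .o) (.n .e true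
  .o .o)) .o) .o)) (.n .k false (.w false (.n .a false (.n .g false (.n .h true .o .o) .o) (.n .e false (.n .g
  false (.n .h true .o .o) .o) (.n .g true .o .o))) .o) .o)) (.n .k false (.w false (.n .a false (.n .e false (.n
  .h true .o .o) (.n .g true .o .o)) (.n .g true .o .o)) .o) .o)))))) (.n .b (.n .d t3a_1 .o) .o)) .o) .o) .o) .o)
  .o) .o))

def t3a_3 : MF :=
  (.n .b (.n .d (.n .f (.w (.p false (.n .a false (.n .g true (.n .h true .o .o) .o) (.n .e false (.n .g false (.n
  .h true .o .o) .o) (.n .g true .o (.n .h true .o .o)))) .o) (.n .i (.w (.p false (.n .a false (.n .e true (.n .g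
  true .o .o) (.n .g true .o .o)) (.n .e false (.n .g true .o .o) .o)) .o) .o) (.n .k (.w (.p false (.n .a true
  (.n .e true .o .o) (.n .e true .o (.n .g false (.n .h true .o .o) .o))) .o) .o) .o))) t3_36) (.n .f (.n .i (.n
  .k (.w (.p false (.n .a false (.n .g false (.n .h true .o .o) (.n .h true .o .o)) (.n .e true (.n .g true .o .o)
  .o)) .o) .o) .o) .o) (.n .j (.n .k (.w (.p true (.n .a true (.n .e false (.n .g false (.n .h true .o .o) .o) (.n
  .g true .o (.n .h true .o .o))) (.n .e true .o (.n .g true (.n .h true .o .o) .o))) (.n .e (.n .g (.n .h (.w (.p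
  false t3_0 .o) .o) .o) .o) .o)) .o) .o) .o))) (.n .d (.w (.p false (.n .a false (.n .g false (.n .h true .o .o)
  (.n .h true .o .o)) (.n .e true (.n .g false (.n .h true .o .o) .o) .o)) .o) (.n .f (.n .j (.w (.p false (.n .a
  false (.n .e true .o (.n .h true .o .o)) (.n .e false (.n .h true .o .o) (.n .h true .o .o))) .o) .o) (.n .k (.w
  (.p false (.n .a false (.n .e true (.n .g true .o .o) (.n .g false (.n .h true .o .o) .o)) (.n .e true (.n .g
  true (.n .h true .o .o) .o) .o)) .o) .o) .o)) (.n .j (.w (.p false (.n .a true (.n .e false (.n .g true (.n .h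
  true .o .o) .o) .o) (.n .e false (.n .h true .o .o) (.n .h true .o .o))) .o) (.n .i (.w (.p false (.n .a true
  (.n .g false (.n .h true .o .o) (.n .h true .o .o)) (.n .e false (.n .h true .o .o) (.n .h true .o .o))) .o) (.n
  .k (.w (.p true (.n .a false (.n .e true .o (.n .g true (.n .h true .o .o) .o)) (.n .e true .o (.n .h true .o
  .o))) (.n .c (.n .e (.n .g (.n .h (.n .l (.w (.p false t3_35 (.n .b (.w (.p false (.n .a true (.n .e true (.n .h
  true .o .o) .o) (.n .e true (.n .h true .o .o) .o)) .o) t3_33) (.n .d (.w (.p false (.n .a false (.n .e false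
  (.n .g false (.n .h true .o .o) .o) .o) (.n .e true (.n .g false (.n .h true .o .o) .o) (.n .g true (.n .h true
  .o .o) .o))) .o) (.n .f (.w t3a_2 .o) .o)) .o))) .o) .o) .o) .o) .o) .o)) .o) .o)) .o)) .o))) .o))

def t3a_T : MF :=
  (.p false (.n .e true (.n .g true .o (.n .h true .o .o)) .o) (.n .a (.n .c (.n .e (.w (.p false t3_38 t3a_3) .o)
  .o) .o) .o))

def l3a : List ℕ :=
  [133079, 133087, 133063, 117577, 117576, 132968, 165916, 221812, 221652, 220612, 220629, 150177, 150200, 219773,
  296087, 146469, 146472, 146492, 120976, 120985, 166453, 223460, 223457, 133236, 133241, 133237, 167073, 167072,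
  167080, 166924, 166929, 222353, 141264, 141256, 141260, 149805, 149821, 149816, 149804, 149812, 166241, 166249,
  166253, 166248, 149376, 149380, 149381, 149401, 149605, 149625, 149629, 149621, 149612, 132612, 132636, 132609,
  132617, 132621, 132637, 132629, 188132, 223639, 223618, 145739, 139689, 139705, 139709, 139696, 156260, 156273,
  156264, 156280, 156272, 137029, 137028, 137048, 137025, 121029, 121049, 121041, 121053, 121045, 117317, 117312,
  117328, 117337, 117341, 117333, 133502, 133494, 133475, 133483, 98645, 98644, 98632, 98652, 98628, 98641, 98653,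
  98637, 124954, 141394, 141451, 109018, 109006, 89638, 94359, 236305, 239749, 239764, 236969, 158384, 62471,
  62483, 62467, 124435, 98454, 108959, 108939, 94231, 94210, 75975, 81671, 81666, 235205, 235228, 235264, 235232,
  238100, 235301, 114189, 118626, 118631, 118643, 141349, 149693, 149685, 149664, 149688, 221801, 221821, 221816,
  221820, 178181, 178189, 178201, 178180, 178188, 178204, 156453, 156457, 156473, 156464, 156468, 166612, 166604,
  166596, 166593, 166597, 146725, 146720, 146732, 146748, 146721, 146741, 290424, 290315, 257180, 257156, 257165,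
  243252, 185467, 185471, 185454, 154278, 154274, 154303, 149123, 165086, 165063, 165071, 198746, 198751, 198739,
  199079, 121711, 237723, 237698, 240387, 243294, 243270, 243279, 242963, 239707, 172106, 172098, 172127, 169803,
  176472, 176476, 176460, 176477, 176461, 255487, 255486, 255466, 255483, 255479, 258864, 258872, 258856, 258877,
  258861, 258857, 261149, 261141, 261137, 261121, 261140, 261124, 261128, 260026, 260015, 260006, 260018, 254884,
  254880, 254888, 254901, 254885, 254881, 245979, 245955, 245978, 245954, 186650, 186655, 186647, 186631, 186643,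
  186627, 186646, 186630, 186638, 185512, 185516, 185532, 185528, 185521, 185529, 181605, 181613, 181601, 181628,
  181604, 181612, 131782, 131807, 131783, 131795, 131779, 148422, 148418, 148447, 148439, 148423, 148431, 148419,
  148427, 279045, 279065, 279069, 279361, 140164, 140180, 279601, 279613, 279277, 280128, 280156, 153529, 153533,
  153528, 135340, 135344, 135348, 276949, 292108, 195864, 195869, 196600, 103200, 109962, 109979, 109983, 292153,
  277033, 277029, 196164, 196161, 196173, 258235, 258210, 258222, 259557, 259572, 255073, 259178, 259558, 259567,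
  258859, 258851, 258867, 259630, 198864, 139237, 121277, 121260, 121269, 199848, 200569, 199369, 199360, 136877,
  136872, 136892, 135273, 135285, 135284, 151724, 151728, 151740, 151737, 151661, 151660, 151672, 151652, 151657,
  151653, 151669, 151677, 280477, 284932, 31337, 31333, 31332, 284412, 284384, 30957, 30960, 30972, 284045,
  284057, 29115, 29094, 29971, 29963, 29983, 265408, 10555, 10530, 10395, 10387, 10378, 10522, 10511, 4171, 10455,
  10451, 10458, 10484, 10489, 181935, 181931, 26875, 26871, 26858, 159227, 159231, 173887, 173863, 173874, 31617,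
  31633, 31628, 31636, 31624, 31509, 31517, 31489, 31500, 31512, 31129, 31132, 31116, 31104, 31112, 31097, 31073,
  31076, 31088, 31080, 30616, 30609, 30612, 30600, 30896, 30901, 30909, 30885, 30881, 30884, 27927, 27919, 27911,
  27918, 28628, 28609, 28637, 28621, 262437, 262445, 262449, 262441, 262444, 264249, 264245, 264233, 264252,
  10562, 10591, 10587, 10579, 10590, 10570, 284596, 31525, 31536, 31068, 27099, 264423, 265197, 265127, 265143,
  265134, 265122, 264628, 264629, 264621, 264632, 264616, 264122, 264123, 264119, 264099, 264107, 264126, 264110,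
  264098, 177015, 177018, 176994, 177002, 185682, 185691, 185675, 185674, 185666, 29151, 29135, 29150, 29134,
  27455, 27446, 27435, 27447, 27439, 168470, 168451, 168479, 168458, 151540, 151536, 238273, 237221, 238341,
  236368, 236376, 236352, 240969, 243408, 243401, 239660, 148385, 148397, 148384, 142172, 142153, 125189, 159001,
  158992, 262350, 263073, 260103, 260116, 264128, 264129, 264133, 263018, 263023, 263015, 234428, 234413, 234405,
  234964, 276857, 276849, 277260, 278548, 278536, 278556, 181124, 282560, 282580, 282568]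

def t3b_0 : MF :=
  (.p false (.n .b false t3_6 (.n .d false (.w false (.n .a true .o .o) (.n .f false (.n .j false (.n .i false (.w
  false (.n .a false (.n .h true .o .o) .o) .o) .o) .o) (.n .i false (.w false (.n .a false (.n .e false (.n .g
  true .o .o) .o) (.n .e false (.n .h true .o .o) .o)) .o) (.n .j false (.w false (.n .a true .o (.n .e false (.n
  .g true .o (.n .h true .o .o)) .o)) .o) .o)))) (.n .f false (.w false (.n .a false (.n .e true .o .o) (.n .e
  true .o .o)) (.n .i false (.n .k false (.w false (.n .a false (.n .e false (.n .h true .o .o) .o) (.n .h true .o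
  .o)) .o) .o) (.n .j false (.w false (.n .a false (.n .e false (.n .g true .o .o) (.n .g true .o .o)) (.n .e
  false (.n .h true .o .o) .o)) (.n .i false (.n .k false (.w false (.n .h true .o .o) .o) .o) .o)) .o))) (.n .j
  false (.w false (.n .a false (.n .g true .o .o) (.n .e false (.n .g false (.n .h true .o .o) .o) (.n .g false
  (.n .h true .o .o) .o))) (.n .i false (.w false (.n .g true (.n .h true .o .o) .o) (.n .k false (.w false (.n .a
  false (.n .e true .o .o) .o) .o) .o)) .o)) .o)))) (.n .b (.n .d (.n .f (.n .i (.n .k (.w (.p false (.n .a true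
  (.n .e true (.n .h true .o .o) .o) (.n .e false (.n .h true .o .o) .o)) .o) .o) .o) (.n .j (.n .i (.w (.p false
  (.n .a false (.n .g true .o (.n .h true .o .o)) (.n .e true .o (.n .g false (.n .h true .o .o) .o))) (.n .a (.n
  .c (.n .e (.n .l (.w (.p false (.n .b false (.n .d false (.n .k false (.w false (.n .e true .o .o) .o) .o) (.n
  .f false (.n .k false (.w false (.n .a true .o .o) .o) .o) (.n .j false (.n .k false (.w false (.n .a true .o
  .o) .o) .o) .o))) (.n .d false (.n .k false (.w true .o .o) .o) (.n .f false (.n .i false (.n .k false (.w false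
  (.n .a false (.n .h true .o .o) .o) .o) .o) .o) .o))) .o) .o) .o) .o) .o) .o)) (.n .k (.w (.p false (.n .a true
  (.n .e true (.n .h true .o .o) .o) (.n .e true .o .o)) (.n .a (.n .e (.n .l (.w (.p false (.n .b false (.n .d
  false (.n .f false (.n .j false (.n .i false (.w false (.n .e false (.n .h true .o .o) .o) .o) .o) .o) (.n .j
  false (.w false (.n .a true .o .o) .o) .o)) .o) .o) .o) .o) .o) .o) .o)) .o) .o)) .o) .o)) .o) (.n .f (.n .j (.n
  .i (.w (.p true (.n .a false (.n .e true (.n .g false (.n .h true .o .o) .o) (.n .g true .o .o)) .o) .o) .o) .o)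
  .o) .o)) (.n .d (.n .f (.n .j (.w (.p false (.n .a false (.n .e true (.n .g true .o .o) .o) (.n .e true (.n .g
  false (.n .h true .o .o) .o) .o)) .o) .o) (.n .k (.w (.p false (.n .a true (.n .e false (.n .h true .o .o) (.n
  .h true .o .o)) (.n .e false (.n .h true .o .o) .o)) .o) .o) .o)) .o) .o)))

def t3b_T : MF :=
  (.n .a (.n .c (.n .e (.w (.n .d (.n .j (.n .i (.n .k (.w (.n .c (.n .e (.n .g (.n .h (.n .l (.w (.n .d (.n .f
  (.w (.n .a (.n .c (.n .e (.n .g (.n .l (.w (.n .b (.n .d (.n .i (.n .k (.w (.n .a (.n .c (.n .g (.n .h (.n .l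
  (.w (.n .i (.w (.n .a (.n .c (.n .e (.n .h (.n .l (.w (.n .b (.w (.p false (.n .a true .o (.n .e true (.n .h
  true .o .o) (.n .g true .o .o))) .o) t3_23) (.n .d (.w (.p true (.n .a false (.n .e false (.n .h true .o .o) (.n
  .g true .o .o)) (.n .e true (.n .g false (.n .h true .o .o) (.n .h true .o .o)) (.n .g true .o .o))) .o) (.n .j
  (.w (.p false (.n .a true (.n .e true (.n .h true .o .o) .o) (.n .e false (.n .g true .o .o) (.n .h true .o
  .o))) (.n .c (.n .e (.n .g (.n .h (.n .l (.w t3b_0 .o) .o) .o) .o) .o) .o)) .o) .o)) .o)) .o) .o) .o) .o) .o)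
  .o) .o) .o) .o) .o) .o) .o) .o) .o) .o) .o) .o) .o) .o) .o) .o) .o) .o) .o) .o) .o) .o) .o) .o) .o) .o) .o) .o)
  .o) .o) .o) .o) .o) .o) .o) .o) .o) .o)

def l3b : List ℕ :=
  [261475, 261478, 261494, 261482, 135217, 135225, 135209, 135201, 135213, 135208, 135200, 135204, 173721, 173701,
  173712, 173704, 173700, 176557, 176552, 179800, 203041, 183249, 186920, 203421, 175168, 175180, 175193, 182577,
  205552, 205553, 205557, 256292, 256288, 304446, 257224, 257232, 257812, 257332, 255217, 255221, 255213, 256331,
  256323, 259659, 207192, 207196, 207189, 205949, 183397, 183400, 181953, 181952, 179996, 179988, 205324, 186972,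
  186968, 186945, 172935, 172947, 141047, 127770, 127758, 140322, 140347, 157314, 157327, 124826, 124806, 122539,
  122543, 120011, 158438, 158435, 158463, 260496, 260508, 260505, 260501, 223029, 143541, 238682, 159735, 150327,
  152235, 242364, 295869, 255114, 254758, 295896, 295900, 261374, 256856, 172909, 172908, 172896, 172920, 172897,
  172913, 172901, 258470, 258471, 258483, 258466, 258494, 258486, 255583, 255554, 255562, 255574, 256523, 256535,
  256514, 256530, 256542, 254917, 254929, 254925, 254936, 254940, 128006, 102231, 102210, 106282, 106298, 218986,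
  216103, 216115, 79803, 150866, 167751, 167759, 167774, 130154, 114746, 95419, 105942, 105923, 92058, 126923,
  126931, 149015, 149023, 171166, 131006, 130995, 111255, 111259, 103686, 103691, 88602, 88586, 217342, 217323,
  69043, 69050, 69046, 135826, 135811, 135835, 168899, 141987, 142006, 122415, 254914, 253851, 295882, 295899,
  295796, 295594, 295615, 252951, 255761, 258499, 261535, 257526, 138467, 138487, 138475, 138474, 238548, 168668,
  161856, 240177, 240176, 242184, 241553, 102806, 219631, 116155, 116135, 150978, 240044, 160725, 155364, 223357,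
  223340, 108259, 90142, 148587, 148579, 258894, 258883, 258907, 258903, 259813, 259812, 259820, 259825, 259829,
  161832, 161828, 161833, 161849, 161829, 182116, 182120, 182136, 182117, 205048, 205049, 205052, 205040, 180045,
  180061, 180053, 180041, 125946, 125930, 125923, 125931, 125943, 125935, 107902, 107874, 107891, 107875, 70609,
  98241, 142110, 142106, 142086, 142099, 142095, 152666, 152670, 152662, 152667, 140447, 140426, 301722, 222652,
  222509, 222504, 220957, 127684, 127700, 127681, 238035, 241893, 241916, 240708, 236744, 236745, 93663, 93642,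
  93638, 107779, 82887, 219282, 154191, 154179, 154182, 127386, 157090, 140807, 127490, 111754, 136001, 221309,
  222940, 223553, 223557, 157460, 237268, 237253, 240964, 107935, 107911, 96458, 93702, 136066, 135527, 140739,
  152537, 152541, 152540, 152528, 144284, 144280, 144261, 144257, 217859, 217863, 217874, 217858, 71391, 71362,
  71374, 71379, 61421, 83240, 212905, 105340, 169165, 169173, 169153, 169156, 187235, 227336, 246225, 180964,
  226446, 151965, 151949, 151964, 151956, 151940, 107991, 107994, 107970, 107982, 141659, 141651, 141635, 141643,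
  164985, 164961, 164965, 164984, 164964, 164972, 260042, 260063, 260039, 260047, 260051, 260035, 260043, 262353,
  262357, 262341, 262364, 264564, 264548, 264556, 264560, 255569, 255572, 255560, 255581, 255561, 119349, 119328,
  119356, 119345, 119337, 119329, 119357, 125652, 125648, 125632, 125657, 125637, 144949, 121540, 121556, 214204,
  214201, 73908, 73909, 78785, 215545, 105221, 105217, 100554, 100574, 100558, 116080, 116069, 116081, 93615,
  93611, 116926, 116919, 116907, 219076, 83181, 83185, 118540, 118536, 128160, 128189, 128177, 112060, 112041,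
  252294, 250046, 251912, 251921, 252066, 252079, 252087, 215392, 215393, 214798, 214795, 71712, 71716, 71737,
  67531, 112424, 112445, 112441, 97257, 97273, 77854, 214430, 214426, 214410, 214411, 63268, 63292, 63273, 63285,
  50589, 211608, 211664, 56665, 214488, 74430, 74426, 74410, 74427, 250829, 304976, 71469, 71464, 71472, 71460,
  250794, 250786, 250795, 250803, 295422, 295402, 295406, 295403]

def t3c_0 : MF :=
  (.n .i (.w (.n .a (.n .c (.n .e (.n .h (.n .l (.w (.n .d (.n .j (.w (.n .c (.n .e (.n .g (.n .h (.n .l (.w (.n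
  .d (.n .f (.n .k (.w (.n .a (.n .h (.w (.p false t3_5 (.n .b t3_4 (.n .j (.n .i (.n .k (.w (.p false (.n .a true
  (.n .e true .o (.n .g false (.n .h true .o .o) .o)) (.n .g true .o .o)) .o) .o) .o) .o) .o))) .o) .o) .o) .o)
  .o) .o) (.n .f (.n .j (.n .i (.w (.p true (.n .a true (.n .e true .o .o) (.n .g true .o (.n .h true .o .o))) (.n
  .a (.n .c (.n .e (.n .h (.w (.p false t3_3 (.n .b (.n .d (.n .i (.w (.p false (.n .a false (.n .e false (.n .h
  true .o .o) (.n .h true .o .o)) (.n .e false (.n .g true .o .o) (.n .h true .o .o))) t3_2) .o) .o) .o) (.n .d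
  (.n .f (.n .j (.n .k (.w (.p false (.n .a true (.n .e true (.n .g false (.n .h true .o .o) .o) .o) (.n .e false
  (.n .g true .o .o) .o)) (.n .a (.n .e (.n .g (.w (.p false t3_1 .o) .o) .o) .o) .o)) .o) .o) .o) .o) .o))) .o)
  .o) .o) .o) .o)) .o) .o) .o) (.n .i (.w (.p false (.n .a false (.n .e false (.n .g true .o (.n .h true .o .o))
  (.n .h true .o .o)) (.n .g true .o .o)) .o) .o) .o))) .o) .o) .o) .o) .o) .o) (.n .i (.w (.p true (.n .a false
  (.n .e true .o (.n .h true .o .o)) (.n .e true .o .o)) .o) .o) .o)) .o) (.n .f (.n .j t3_21 .o) (.n .j (.n .i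
  (.w (.p false (.n .a true (.n .e true (.n .h true .o .o) (.n .g true .o (.n .h true .o .o))) .o) .o) .o) .o)
  .o))) .o) .o) .o) .o) .o) .o) .o) (.n .j (.n .k (.w (.p false (.n .a true (.n .e false (.n .h true .o .o) .o)
  (.n .e true (.n .g false (.n .h true .o .o) .o) .o)) .o) .o) .o) (.n .k (.w (.p false (.n .a true (.n .e false
  (.n .g false (.n .h true .o .o) .o) (.n .h true .o .o)) (.n .e true .o (.n .g true .o .o))) .o) .o) .o)))

def t3c_1 : MF :=
  (.n .f (.w (.n .a (.n .c (.n .e (.n .g (.n .l (.w (.n .b (.n .d (.n .i (.n .k (.w (.n .a (.n .c (.n .g (.n .h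
  (.n .l (.w t3c_0 .o) .o) .o) .o) .o) .o) .o) .o) .o) (.n .j (.n .k (.w (.p true (.n .a false (.n .e false (.n .g
  false (.n .h true .o .o) .o) .o) (.n .g false (.n .h true .o .o) (.n .h true .o .o))) .o) .o) .o) (.n .k (.w (.p
  false (.n .a true (.n .e false (.n .g false (.n .h true .o .o) (.n .h true .o .o)) .o) (.n .e false (.n .g false
  (.n .h true .o .o) .o) (.n .g true .o .o))) (.n .a (.n .c (.n .e (.n .g (.n .l (.w (.p false (.n .b false (.n .d
  false (.n .f false (.w false (.n .a false (.n .e false (.n .g true .o .o) .o) .o) .o) .o) .o) (.n .d false (.n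
  .f false (.n .i false (.n .k false (.w false (.n .a false (.n .h true .o .o) .o) .o) .o) .o) .o) .o)) .o) .o)
  .o) .o) .o) (.n .e (.n .l (.w (.p false (.n .d false (.n .f false (.n .k false (.w false (.n .g true .o .o) .o)
  .o) .o) .o) .o) .o) .o) .o)) .o)) .o) .o))) (.n .d t3_29 (.n .j (.w (.p false (.n .a false (.n .e false (.n .g
  false (.n .h true .o .o) .o) (.n .h true .o .o)) (.n .e true (.n .g true (.n .h true .o .o) (.n .h true .o .o))
  (.n .g true .o (.n .h true .o .o)))) .o) .o) .o))) .o) .o) .o) .o) .o) .o) (.n .i (.w (.p false (.n .a false (.n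
  .e false (.n .g true .o .o) .o) (.n .e true (.n .g true .o .o) (.n .g true .o .o))) .o) .o) (.n .j (.n .i (.n .k
  (.w (.p false (.n .a true (.n .g true .o .o) (.n .e true (.n .g true .o .o) .o)) .o) .o) .o) .o) .o))) (.n .j
  (.n .k (.w (.p false (.n .a false (.n .e true .o (.n .g true (.n .h true .o .o) (.n .h true .o .o))) (.n .e true
  .o (.n .h true .o .o))) .o) .o) .o) (.n .k (.w (.p false (.n .a false (.n .e true (.n .h true .o .o) (.n .h true
  .o .o)) (.n .e false (.n .g false (.n .h true .o .o) .o) (.n .h true .o .o))) .o) .o) .o)))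

def t3c_T : MF :=
  (.n .a (.n .c (.n .e (.w (.n .d (.n .j (.n .i (.n .k (.w (.n .c (.n .e (.n .g (.n .h (.n .l (.w (.n .d t3c_1 (.n
  .i (.n .k (.w (.p false (.n .a true (.n .e false (.n .g true (.n .h true .o .o) .o) (.n .g false (.n .h true .o
  .o) .o)) (.n .g true .o .o)) .o) .o) .o) (.n .j (.n .k (.w (.p false (.n .a true (.n .e true (.n .g true (.n .h
  true .o .o) .o) (.n .g true .o .o)) (.n .h true .o .o)) .o) .o) .o) .o))) .o) .o) .o) .o) .o) .o) .o) .o) (.n .k
  (.w (.p true (.n .a false (.n .e false (.n .g false (.n .h true .o .o) .o) (.n .g true (.n .h true .o .o) .o))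
  (.n .e true .o .o)) .o) .o) .o)) .o) (.n .f (.w (.p true (.n .a false (.n .e false (.n .h true .o .o) .o) (.n .e
  true .o (.n .h true .o .o))) .o) .o) (.n .i (.n .k (.w (.p false (.n .a true (.n .e true (.n .h true .o .o) (.n
  .g true .o .o)) (.n .g true .o .o)) .o) .o) .o) (.n .j (.n .i (.w (.p false (.n .a false (.n .g true .o .o) (.n
  .e false (.n .g false (.n .h true .o .o) .o) (.n .g true (.n .h true .o .o) (.n .h true .o .o)))) .o) .o) (.n .k
  (.w (.p true (.n .a true (.n .e false (.n .g true .o .o) .o) (.n .e false (.n .h true .o .o) (.n .g false (.n .h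
  true .o .o) (.n .h true .o .o)))) .o) .o) .o)) .o)))) .o) .o) .o) (.n .c (.n .g (.n .h (.n .l (.w (.p false (.n
  .d false (.n .f false (.n .j false (.n .k false (.w false (.n .g true .o .o) .o) .o) .o) .o) .o) .o) .o) .o) .o)
  .o) .o))

def l3c : List ℕ :=
  [212026, 100334, 86507, 22363, 22355, 6786, 52947, 52930, 52954, 18214, 6926, 63406, 19162, 78851, 19619, 19623,
  19626, 21186, 21187, 21190, 211443, 6555, 116205, 23146, 23167, 23163, 22314, 24694, 214269, 67456, 12457,
  20960, 7209, 10245, 10241, 10273, 295275, 295290, 2854, 2870, 2906, 17299, 17287, 17290, 17286, 295343, 9828,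
  14935, 18158, 10336, 10357, 10345, 252251, 10283, 295499, 20743, 4695, 4979, 88975, 20915, 68551, 68555, 68558,
  68562, 16515, 16543, 16514, 16518, 16542, 4066, 6175, 6560, 10031, 10027, 10039, 10022, 61805, 61804, 61800,
  61797, 61821, 46707, 46691, 56122, 19127, 17623, 16458, 16451, 211834, 212075, 6642, 6626, 70122, 81010, 81022,
  23652, 21398, 212850, 212838, 250149, 250164, 251519, 251511, 252001, 250606, 295352, 2858, 2823, 9682, 9670,
  97075, 97087, 97058, 128487, 23047, 216830, 7297, 7070, 50283, 50287, 50290, 50286, 69930, 69524, 51075, 55299,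
  56711, 249796, 250891, 303021, 302859, 289754, 307323, 269019, 210970, 210975, 296819, 13984, 7072, 248491,
  1926, 9771, 9786, 1946, 15031, 15019, 10078, 10074, 10050, 10067, 17890, 48205, 45547, 45558, 19491, 8007,
  229670, 18059, 18035, 20533, 20512, 17993, 17992, 99313, 73265, 3404, 3446, 298663, 9979, 9978, 9971, 10163,
  10166, 251251, 251250, 250432, 250751, 95094, 95086, 95082, 95091, 109781, 109776, 109764, 109777, 159376,
  159380, 159364, 159381, 159389, 281655, 281651, 281659, 27511, 27498, 281900, 281908, 281916, 29399, 29403,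
  30360, 303718, 279677, 27872, 282619, 30030, 279544, 28913, 27789, 27793, 27785, 28014, 175975, 175970, 153243,
  153247, 153218, 26399, 26374, 171559, 27655, 27671, 27651, 28191, 28174, 28182, 28055, 28039, 28043, 172519,
  172535, 172531, 179863, 28463, 157879, 157886, 140979, 140966, 26010, 25995, 155774, 155762, 155754, 26811,
  26794, 29928, 29929, 29941, 29937, 29924, 29948, 29944, 27288, 27277, 27265, 27292, 27268, 176895, 176887,
  176886, 176870, 163823, 163831, 163839, 163822, 163838, 163826, 163834, 260957, 260945, 149185, 144584, 144576,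
  161165, 159860, 127888, 258392, 260674, 260695, 260694, 262451, 260285, 255949, 260766, 262509, 262504, 262977,
  262981, 85390, 85395, 99227, 275227, 275203, 275215, 276879, 147021, 162240, 281313, 131699, 120711, 5662,
  112807, 24263, 97445, 23169, 5477, 5622, 181225, 181117, 181113, 171757, 29508, 29521, 106675, 112760, 24233,
  24228, 180369, 180360, 28065, 28376, 25925, 26880, 27255, 27251, 27238, 27258, 27706, 27702, 27682, 27703,
  130679, 130663, 130671, 130674, 24922, 24902, 24923, 24911, 140095, 140075, 140094, 140070, 283125, 283109,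
  283117, 283121, 142416, 142420, 142404, 142424, 142400, 26590, 26570, 26587, 26563, 26110, 26082, 26094, 26107,
  26103, 109719, 109706, 109711, 109703, 95190, 95178, 95170, 95179, 95199, 69815, 19723, 16887, 257159, 257163,
  257171, 257154, 257178, 257166, 256687, 256682, 256690, 256698, 256675, 256691, 256695, 256703, 257872, 256221,
  257129, 257145, 257133, 257149, 258115, 258123, 258139, 258114, 258142, 256619, 256635, 256610, 256618, 256626,
  85776, 94936, 91867, 273091, 274392, 115405, 159241, 121097, 254657, 259228, 259224, 139880, 139876, 139889,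
  139897, 139881, 139873, 139901, 139877, 200406, 200415, 200407, 200403, 200090, 200082, 200095, 200087, 132382,
  132370, 132354, 132362, 132383, 132363, 140026, 140010, 140014, 140003, 140015, 173466, 173462, 173446, 173442,
  173459, 163146, 163150, 163142, 163158, 163138, 163163, 151300, 151321, 151309, 151325, 151296, 150244, 150257,
  150240, 150260, 133164, 133160, 133176, 133156, 133157, 163373, 163384, 163372, 163388, 163380, 124884, 124885,
  124889, 124864, 124876, 124868, 99007]

theorem chk3a : chkW xw U [.k, .l, .a, .b, .c, .d, .e, .f, .g, .h, .d, .c, .b, .e, .d, .f, .i, .h, .d, .c, .b, .a, .e, .d, .c, .b, .f, .e, .h, .d, .c, .b, .a, .e, .f, .i, .h, .d, .c] 133075 t3a_T l3a = true := by decide +kernel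

theorem chk3b : chkW xw U [.k, .l, .a, .b, .c, .d, .e, .f, .g, .h, .d, .c, .b, .e, .d, .f, .i, .h, .d, .c, .b, .a, .e, .d, .c, .b, .f, .e, .h, .d, .c, .b, .a, .e, .f, .i, .h, .d, .c] 133075 t3b_T l3b = true := by decide +kernel

theorem chk3c : chkW xw U [.k, .l, .a, .b, .c, .d, .e, .f, .g, .h, .d, .c, .b, .e, .d, .f, .i, .h, .d, .c, .b, .a, .e, .d, .c, .b, .f, .e, .h, .d, .c, .b, .a, .e, .f, .i, .h, .d, .c] 133075 t3c_T l3c = true := by decide +kernel

theorem mk3 : Nat.beq (mk l3 0) (mk l3a (mk l3b (mk l3c 0))) = true := by decide +kernel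

theorem chk3s : ∀ q ∈ l3, Gd U (word xw) q := by
  intro q hq
  have h1 := Nat.eq_of_beq_eq_true mk3
  have h2 : (mk l3 0).testBit q = true := (testBit_mk l3 0 q).2 (Or.inr hq)
  rw [h1, testBit_mk, testBit_mk, testBit_mk] at h2
  rcases h2 with ((h2 | h2) | h2) | h2
  · exact absurd h2 (by simp)
  · exact chkW_spec chk3c q h2
  · exact chkW_spec chk3b q h2
  · exact chkW_spec chk3a q h2

end Cfsg.Agent.H532.PNormTwo.Fi24
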