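import Cfsg.Agent.H532.PNormTwo.Fi24Dat

/-!
# `Fi24`: commuting pairs `(q, x q)`, kernel check 4 (helper532)
-/

set_option autoImplicit false
set_option maxRecDepth 100000

namespace Cfsg.Agent.H532.PNormTwo.Fi24

theorem chk4 : chkW xw U [] 0 t4_T l4 = true := by decide +kernel

end Cfsg.Agent.H532.PNormTwo.Fi24
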