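import Cfsg.Agent.H532.PNormTwo.Fi24Dat
import Cfsg.Agent.H843.Pat

/-!
# `Fi24`: an element of order 16, kernel checks (helper532)

* the visited points meet all orbits of `⟨x, l, c⟩`, and `U` is invariant under this group and has 32022 points;
* `x` fixes two points, and `x ^ 16 = 1`;
* the number of the points commuting with two given commuting points.
-/

set_option autoImplicit false
set_option maxRecDepth 100000

namespace Cfsg.Agent.H532.PNormTwo.Fi24

open Cfsg Cfsg.Agent.Lib.PermNet Cfsg.Agent.Lib.PermNetPt Cfsg.Agent.Lib.PermNetOrbit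
open Cfsg.Agent.Fischer.Fi24RepDef Cfsg.Agent.Fischer.Fi24Rep
open Cfsg.Agent.Fischer.Fi24RepOrb (UG)
open Cfsg.Agent.Fischer.Fi24RepOrbData (UW)
open Cfsg.Agent.H30.FiE
open Cfsg.Agent.KFacts.FiTF.FixMask (sv bl msk)
open Cfsg.Spor.Fi24 (Gen)

/-- the words for the saturation -/
def sw15 : List (List Gen) := [xw, xw, xw, xw, xw, xw, xw, xw, xw, xw, xw, xw, xw, xw, xw, [.l], [.c]]

theorem cov : seqB (mk l0 0) (fun A => seqB (mk l1 A) fun B => seqB (mk l2 B) fun C => seqB (mk l3 C) fun D =>
    seqB (mk l4 D) fun E => seqB (sq sw15 E) fun V => Nat.beq (Nat.land UG V) UG) = true := by decide +kernel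

theorem inv_x : Nat.beq (appWord (nw xw false) U) U = true := by decide +kernel

theorem inv_l : Nat.beq (appWord (nw [.l] false) U) U = true := by decide +kernel

theorem inv_c : Nat.beq (appWord (nw [.c] false) U) U = true := by decide +kernel

theorem sub_UG : Nat.beq (Nat.land UG U) U = true := by decide +kernel

theorem lt_U : Nat.beq (Nat.shiftRight U (Nat.pow 2 19)) 0 = true := by decide +kernel

theorem pc_U : Nat.beq (pc 19 U) 32022 = true := by decide +kernel

/-- the fixed points -/
theorem fix_x : Nat.beq (sv (nw xw false) bl UG) (msk [0, 2]) = true := by decide +kernel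

theorem fix_0 : chkPt (nw xw false) 0 0 = true := by decide +kernel

theorem fix_2 : chkPt (nw xw false) 2 2 = true := by decide +kernel

theorem ord_x : Cfsg.Agent.H843.Pat.chkEq (rep 16 xw) [] = true := by decide +kernel

/-- a word taking the point 2 to 0 -/
def w2 : List Gen := [.k, .l, .a, .k, .b, .a, .c, .b]

theorem chk_w2 : chkPt (nw w2 false) 2 0 = true := by decide +kernel

theorem pc_lam : seqB (M w2) (fun V => seqB (Nat.land UW V) fun W =>
    and (Nat.beq (pc 19 W) 3510) (Nat.beq (Nat.shiftRight W (Nat.pow 2 19)) 0)) = true := by decide +kernel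

end Cfsg.Agent.H532.PNormTwo.Fi24
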