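import Cfsg.Agent.H532.PNormTwo.Gen
import Cfsg.Agent.H532.PNormTwo.Fi24Chk0
import Cfsg.Agent.H532.PNormTwo.Fi24Chk1
import Cfsg.Agent.H532.PNormTwo.Fi24Chk2
import Cfsg.Agent.H532.PNormTwo.Fi24Chk3
import Cfsg.Agent.H532.PNormTwo.Fi24Chk4
import Cfsg.Agent.H532.PNormTwo.Fi24ChkE
import Cfsg.Agent.H30.GraphFi24A
import Cfsg.Agent.KFacts.FiTF.FrameF

/-!
# `Fi₂₄'`: an element of order a power of 2 at which the characters of degree 57477 and 249458 vanish (helper532)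

The element of order 16 fixes 2 of the 306936 transpositions and moves 32022 of them to transpositions commuting with
them.
-/

set_option autoImplicit false
set_option maxRecDepth 100000

namespace Cfsg.Agent.H532.PNormTwo.Fi24

open Cfsg Cfsg.Agent.Lib.PermNet Cfsg.Agent.Lib.PermNetPt Cfsg.Agent.Lib.PermNetOrbit
open Cfsg.Agent.Fischer.Fi24RepDef Cfsg.Agent.Fischer.Fi24Rep
open Cfsg.Agent.Fischer.Fi24RepOrb (UG)
open Cfsg.Agent.Fischer.Fi24RepOrbData (UW)
open Cfsg.Agent.Fischer.Fi24Spider (word_append word_cons word_nil)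
open Cfsg.Agent.H30.FiE
open Cfsg.Agent.H30.PairFn (papply_inv pinv_apply)
open Cfsg.Agent.H690.Spor.RankThree Cfsg.Agent.H690.Spor.RankThree.R3
open Cfsg.Agent.KFacts.FiTF.Pts
open Cfsg.Agent.KFacts.FiTF.FixMask (sv msk)
open Cfsg.Spor (Fi24)
open Cfsg.Spor.Fi24 (Gen)

universe u

local notation "L" => Cfsg.Agent.R08.FiTwentyFour.L

/-! ### The masks -/

theorem land_of {a b c : ℕ} (h : Nat.beq (Nat.land a b) c = true) : a &&& b = c := Nat.eq_of_beq_eq_true h

theorem cov_of {G : ℕ} {ws : List (List Gen)} {k0 k1 k2 k3 k4 : List ℕ}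
    (h : seqB (mk k0 0) (fun A => seqB (mk k1 A) fun B => seqB (mk k2 B) fun C => seqB (mk k3 C) fun D =>
      seqB (mk k4 D) fun E => seqB (sq ws E) fun V => Nat.beq (Nat.land G V) G) = true) {p : ℕ}
    (hp : G.testBit p = true) : (sq ws (mk k4 (mk k3 (mk k2 (mk k1 (mk k0 0)))))).testBit p = true := by
  rw [seqB_eq, seqB_eq, seqB_eq, seqB_eq, seqB_eq, seqB_eq] at h
  have h1 := land_of h
  rw [← h1, Nat.testBit_and, Bool.and_eq_true] at hp
  exact hp.2

theorem mk_of {k0 k1 k2 k3 k4 : List ℕ} {p : ℕ}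
    (h : (mk k4 (mk k3 (mk k2 (mk k1 (mk k0 0))))).testBit p = true) :
    p ∈ k0 ∨ p ∈ k1 ∨ p ∈ k2 ∨ p ∈ k3 ∨ p ∈ k4 := by
  rw [testBit_mk, testBit_mk, testBit_mk, testBit_mk, testBit_mk] at h
  rcases h with ((((h | h) | h) | h) | h) | h
  · exact absurd h (by simp)
  · exact Or.inl h
  · exact Or.inr (Or.inl h)
  · exact Or.inr (Or.inr (Or.inl h))
  · exact Or.inr (Or.inr (Or.inr (Or.inl h)))
  · exact Or.inr (Or.inr (Or.inr (Or.inr h)))

theorem lam_of {V W m : ℕ} (h : seqB V (fun V => seqB (Nat.land W V) fun W =>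
    and (Nat.beq (pc 19 W) m) (Nat.beq (Nat.shiftRight W (Nat.pow 2 19)) 0)) = true) :
    {p : ℕ | (W &&& V).testBit p = true}.ncard = m := by
  rw [seqB_eq, seqB_eq, Bool.and_eq_true] at h
  exact ncard_testBit h.2 h.1

theorem ncard_of {V m : ℕ} (h : Nat.beq (Nat.shiftRight V (Nat.pow 2 19)) 0 = true)
    (h' : Nat.beq (pc 19 V) m = true) : {p : ℕ | V.testBit p = true}.ncard = m := ncard_testBit h h'

theorem sv_of {w : List Net} {bs l : List ℕ} {G : ℕ}
    (h : Nat.beq (sv w bs G) (msk l) = true) (hw : WOk 327680 w) {p : ℕ} (hG : G.testBit p = true)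
    (hp : wperm w p = p) : p ∈ l := by
  have h1 := Cfsg.Agent.KFacts.FiTF.FixMask.sv_spec hw bs hG hp
  rwa [Nat.eq_of_beq_eq_true h, Cfsg.Agent.KFacts.FiTF.FixMask.testBit_msk] at h1

/-- the element -/
noncomputable def x : Fi24 := word xw

theorem word_one (y : Gen) : word [y] = gen y := by
  rw [word_cons, word_nil, mul_one]

theorem fix0 : rho x 0 = 0 := rho_of_chkPt fix_0

theorem fix2 : rho x 2 = 2 := rho_of_chkPt fix_2

theorem comm_l : x * gen .l = gen .l * x := ((Cfsg.Agent.KFacts.FiTF.FixMask.isPt_gen .l).comm_iff x).2 fix0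

theorem comm_c : x * gen .c = gen .c * x := ((Cfsg.Agent.KFacts.FiTF.FixMask.isPt_gen .c).comm_iff x).2 fix2

/-- the elements commuting with `x` which preserve `U` -/
noncomputable def A : Subgroup Fi24 where
  carrier := {g | g * x = x * g ∧ ∀ p, U.testBit (rho g p) = U.testBit p}
  mul_mem' := by
    rintro g h ⟨h1, h2⟩ ⟨h3, h4⟩
    refine ⟨?_, fun p => ?_⟩
    · rw [mul_assoc, h3, ← mul_assoc, h1, mul_assoc]
    · rw [map_mul, Equiv.Perm.mul_apply, h2, h4]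
  one_mem' := by
    refine ⟨by rw [one_mul, mul_one], fun p => ?_⟩
    rw [map_one]
    rfl
  inv_mem' := by
    rintro g ⟨h1, h2⟩
    refine ⟨?_, fun p => ?_⟩
    · rw [inv_mul_eq_iff_eq_mul, ← mul_assoc, h1, mul_assoc, mul_inv_cancel, mul_one]
    · rw [← h2, map_inv, papply_inv]

theorem pres {w : List Gen} (h : Nat.beq (appWord (nw w false) U) U = true) (p : ℕ) :
    U.testBit (rho (word w) p) = U.testBit p := by
  have h1 := Nat.eq_of_beq_eq_true h
  conv_rhs => rw [← h1]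
  rw [testBit_appWord (wok w false), rho_word]

theorem x_mem : word xw ∈ A := ⟨rfl, pres inv_x⟩

theorem l_mem : word [.l] ∈ A := ⟨by rw [word_one]; exact comm_l.symm, pres inv_l⟩

theorem c_mem : word [.c] ∈ A := ⟨by rw [word_one]; exact comm_c.symm, pres inv_c⟩

theorem sw15_mem : ∀ w ∈ sw15, word w ∈ A := by
  intro w hw
  have h1 : w = xw ∨ w = [.l] ∨ w = [.c] := by
    unfold sw15 at hw
    simp only [List.mem_cons, List.not_mem_nil, or_false] at hw
    tauto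
  rcases h1 with rfl | rfl | rfl
  · exact x_mem
  · exact l_mem
  · exact c_mem

theorem Gd.of_act {g : Fi24} (hg : g ∈ A) {p : ℕ} (h : Gd U x (rho g p)) : Gd U x p := by
  obtain ⟨h1, h2⟩ := h
  obtain ⟨h3, h4⟩ := hg
  have h5 : UG.testBit p = true := by
    have := bit_act g⁻¹ h1
    rwa [map_inv, pinv_apply] at this
  refine ⟨h5, ?_⟩
  rw [← h4 p, ← h2]
  have h6 : rho x (rho g p) = rho g (rho x p) := by
    rw [← Equiv.Perm.mul_apply, ← map_mul, ← h3, map_mul, Equiv.Perm.mul_apply]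
  rw [h6, com_act_iff]

/-- **the mask `U`** -/
theorem all_good {p : ℕ} (hp : UG.testBit p = true) : Gd U x p := by
  obtain ⟨g, hg, h2⟩ := sq_spec sw15_mem (cov_of cov hp)
  apply Gd.of_act hg
  rcases mk_of h2 with h2 | h2 | h2 | h2 | h2
  · exact chkW_spec chk0 _ h2
  · exact chkW_spec chk1 _ h2
  · exact chk2s _ h2
  · exact chk3s _ h2
  · exact chkW_spec chk4 _ h2

theorem ncard_U : {p : ℕ | U.testBit p = true}.ncard = 32022 := by
  rw [ncard_of lt_U pc_U]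

theorem U_sub {p : ℕ} (h : U.testBit p = true) : UG.testBit p = true := by
  have h1 := land_of sub_UG
  rw [← h1, Nat.testBit_and, Bool.and_eq_true] at h
  exact h.1

theorem fix_iff_x {p : ℕ} (hp : UG.testBit p = true) : rho x p = p ↔ p ∈ ({0, 2} : Set ℕ) := by
  constructor
  · intro h
    have h1 := sv_of fix_x (wok xw false) hp (by rw [← rho_word]; exact h)
    simpa using h1
  · rintro (rfl | rfl)
    · exact fix0
    · exact fix2

theorem ncard_lam : {p : ℕ | Com 0 p ∧ Com p 2}.ncard = 3510 := by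
  rw [← lam_of pc_lam]
  congr 1
  ext p
  rw [Set.mem_ofPred_eq, Set.mem_ofPred_eq]
  have h1 : (UW &&& M w2).testBit p = true ↔ Com 0 p ∧ Com p 2 := by
    rw [Nat.testBit_and, Bool.and_eq_true, UW_spec, M_spec chk_w2]
    exact and_congr_right fun _ => ⟨fun h => h.symm, fun h => h.symm⟩
  exact h1.symm

theorem pow_x : x ^ 16 = 1 := by
  have h1 := Cfsg.Agent.H843.Pat.word_eq_of ord_x
  rw [Cfsg.Agent.H843.Pat.word_rep, word_nil] at h1
  exact h1

theorem mem_x : x ∈ commutator Fi24 := by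
  have h1 : ∀ l : List Gen, Cfsg.Agent.Fischer.Fi24Final.sgn (word l) = (-1) ^ l.length := by
    intro l
    induction l with
    | nil => rw [word_nil, map_one]; rfl
    | cons x l ih =>
      rw [word_cons, map_mul, ih, Cfsg.Agent.Fischer.Fi24Final.sgn_gen, List.length_cons, pow_succ']
  rw [← Cfsg.Agent.Fischer.Fi24Final.ker_sgn, MonoidHom.mem_ker]
  unfold x
  rw [h1]
  rfl

/-! ### The points -/

/-- the points as numbers -/
theorem exists_e : ∃ e : (L : Set Fi24) ≃ {p : ℕ // UG.testBit p = true}, ∀ d : (L : Set Fi24), IsPt (d : Fi24) (e d).1 := by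
  have h0 : ∀ d : (L : Set Fi24), ∃ p, IsPt (d : Fi24) p := fun d => exists_pt d.2
  choose f hf using h0
  refine ⟨⟨fun d => ⟨f d, isPt_iff.2 ⟨_, hf d⟩⟩, fun p => ⟨tp p.1, tp_mem p.2⟩, fun d => ?_, fun p => ?_⟩, hf⟩
  · exact Subtype.ext (tp_eq (hf d))
  · exact Subtype.ext ((hf ⟨tp p.1, tp_mem p.2⟩).uniq (isPt_tp p.2))

theorem card_eq {X : Type*} (e : X ≃ {p : ℕ // UG.testBit p = true}) (p : X → Prop) (S : Set ℕ)
    (h : ∀ y, p y ↔ (e y).1 ∈ S) (hS : ∀ n ∈ S, UG.testBit n = true) : Nat.card {y // p y} = S.ncard := by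
  rw [← Nat.card_coe_set_eq]
  refine Nat.card_congr ⟨fun y => ⟨(e y.1).1, (h _).1 y.2⟩, fun n => ⟨e.symm ⟨n.1, hS _ n.2⟩, (h _).2 ?_⟩,
    fun y => ?_, fun n => ?_⟩
  · rw [e.apply_symm_apply]
    exact n.2
  · apply Subtype.ext
    show e.symm ⟨(e y.1).1, _⟩ = y.1
    rw [Subtype.coe_eta, e.symm_apply_apply]
  · apply Subtype.ext
    show (e (e.symm ⟨n.1, _⟩)).1 = n.1
    rw [e.apply_symm_apply]

/-! ### The zero -/

/-- the element of the derived subgroup -/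
noncomputable def x' : Spor.Fi24' := ⟨x, mem_x⟩

theorem com_iff' {d d' : Fi24} {p q : ℕ} (h : IsPt d p) (h' : IsPt d' q) : (d ≠ d' ∧ Commute d d') ↔ Com p q := by
  have e1 := tp_eq h
  have e2 := tp_eq h'
  constructor
  · rintro ⟨h1, h2⟩
    refine ⟨isPt_iff.2 ⟨_, h⟩, isPt_iff.2 ⟨_, h'⟩, fun h3 => h1 ?_, by rw [e1, e2]; exact h2⟩
    subst h3
    exact h.inj h'
  · rintro ⟨-, -, h1, h2⟩
    rw [e1, e2] at h2
    refine ⟨fun h3 => h1 ?_, h2⟩
    subst h3
    exact h.uniq h'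

open Classical in
theorem vz : Cfsg.Agent.H713.VZ Spor.Fi24' x' := by
  have hfin24 : Finite Fi24 := Cfsg.Agent.R08.FiTwentyFour.finite_Fi24
  let _ := Cfsg.Agent.H30.GraphFi24.act
  have h3 : R3 Spor.Fi24' (L : Set Fi24) (fun x y => (x : Fi24) ≠ y ∧ Commute (x : Fi24) y) 31671 275264 :=
    Cfsg.Agent.H30.GraphFi24.r3
  have hfin : Finite Spor.Fi24' := inferInstance
  obtain ⟨e, he⟩ := exists_e
  have := Fintype.ofFinite (L : Set Fi24)
  have hsm : ∀ y : (L : Set Fi24), ((x' • y : (L : Set Fi24)) : Fi24) = x * y * x⁻¹ := fun y => rfl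
  have hact : ∀ y : (L : Set Fi24), (e (x' • y)).1 = rho x (e y).1 := by
    intro y
    refine (he (x' • y)).uniq ?_
    rw [hsm]
    exact (he y).conj x
  set y0 : (L : Set Fi24) := ⟨gen .l, Cfsg.Agent.R08.FiTwentyFour.gen_mem_L .l⟩ with hy0
  set y2 : (L : Set Fi24) := ⟨gen .c, Cfsg.Agent.R08.FiTwentyFour.gen_mem_L .c⟩ with hy2
  have p0 : IsPt (y0 : Fi24) 0 := Cfsg.Agent.KFacts.FiTF.FixMask.isPt_gen .l
  have p2 : IsPt (y2 : Fi24) 2 := Cfsg.Agent.KFacts.FiTF.FixMask.isPt_gen .c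
  have h02 : Com 0 2 := by
    refine ⟨bit_gen .l, bit_gen .c, by norm_num, ?_⟩
    have e1 : tp 0 = gen .l := tp_gen .l
    have e2 : tp 2 = gen .c := tp_gen .c
    rw [e1, e2]
    exact Cfsg.Agent.Fischer.Fi24Final.gen_comm (x := .l) (y := .c) (by decide)
  have hl : com (fun x y : (L : Set Fi24) => (x : Fi24) ≠ y ∧ Commute (x : Fi24) y) y0 y2 = 3510 := by
    rw [← ncard_lam]
    refine card_eq e _ _ (fun z => ?_) fun n hn => hn.1.2.1
    rw [Set.mem_ofPred_eq]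
    exact and_congr (com_iff' p0 (he z)) (com_iff' (he z) p2)
  have hab := Cfsg.Agent.H442.RankVal.params (h := h3) (x₀ := y0) (y₀ := y2)
    ((com_iff' p0 p2).2 h02) (a := 3510) (b := 3240) hl (by norm_num)
  refine vz_of h3 hab (r := -81) (s := 351) (by norm_num) (by norm_num) (by norm_num) (by norm_num) (by norm_num) x'
    (fun β => ?_) (A := 32022) (P := 2) ?_ ?_ (by norm_num)
  · obtain ⟨g, hg⟩ := Cfsg.Agent.KFacts.FiTF.exists_conj β
    refine ⟨⟨fun y => ⟨g * y * g⁻¹, Cfsg.Agent.R08.FiTwentyFour.conj y.2 g⟩,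
      fun y => ⟨g⁻¹ * y * g⁻¹⁻¹, Cfsg.Agent.R08.FiTwentyFour.conj y.2 g⁻¹⟩, fun y => ?_, fun y => ?_⟩, fun y => ?_,
      fun y z => ?_⟩
    · apply Subtype.ext
      show g⁻¹ * (g * (y : Fi24) * g⁻¹) * g⁻¹⁻¹ = y
      group
    · apply Subtype.ext
      show g * (g⁻¹ * (y : Fi24) * g⁻¹⁻¹) * g⁻¹ = y
      group
    · apply Subtype.ext
      show g * (x * (y : Fi24) * x⁻¹) * g⁻¹ = (β x' : Fi24) * (g * (y : Fi24) * g⁻¹) * (β x' : Fi24)⁻¹
      rw [hg]
      show g * (x * (y : Fi24) * x⁻¹) * g⁻¹ = g * x * g⁻¹ * (g * (y : Fi24) * g⁻¹) * (g * x * g⁻¹)⁻¹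
      group
    · show (g * (y : Fi24) * g⁻¹ ≠ g * (z : Fi24) * g⁻¹ ∧ Commute (g * (y : Fi24) * g⁻¹) (g * (z : Fi24) * g⁻¹)) ↔
        ((y : Fi24) ≠ z ∧ Commute (y : Fi24) z)
      rw [com_iff' ((he y).conj g) ((he z).conj g), com_iff' (he y) (he z), com_act_iff]
  · rw [← ncard_U]
    refine card_eq e (fun y : (L : Set Fi24) => (y : Fi24) ≠ (x' • y : (L : Set Fi24)) ∧
      Commute (y : Fi24) (x' • y : (L : Set Fi24))) _ (fun z => ?_) fun n hn => U_sub hn
    rw [com_iff' (he z) (he (x' • z)), hact]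
    exact (all_good (e z).2).2
  · have h4 : ({0, 2} : Set ℕ).ncard = 2 := Set.ncard_pair (by norm_num)
    rw [← h4]
    refine card_eq e (fun y => y ∈ MulAction.fixedBy _ x') _ (fun z => ?_) fun n hn => ?_
    · rw [MulAction.mem_fixedBy, ← e.injective.eq_iff, Subtype.ext_iff, hact]
      exact fix_iff_x (e z).2
    · rcases hn with rfl | rfl
      · exact bit_gen .l
      · exact bit_gen .c

/-- **`Fi₂₄'`, the prime 2.** -/
theorem fi24_2 {K : Type u} [Group K] (h : Spor.IsoFi24' K) : Cfsg.Agent.H620.PNorm.VPow 2 K := by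
  obtain ⟨e⟩ := h
  have h1 : Cfsg.Agent.H620.PNorm.VPow 2 Spor.Fi24' := by
    refine ⟨x', ?_, vz⟩
    have h2 : x' ^ 16 = 1 := Subtype.ext pow_x
    obtain ⟨j, -, hj⟩ := (Nat.dvd_prime_pow Nat.prime_two).1
      (show orderOf x' ∣ 2 ^ 4 from orderOf_dvd_of_pow_eq_one (by norm_num; exact h2))
    exact ⟨j, hj⟩
  exact h1.mulEquiv e.symm

end Cfsg.Agent.H532.PNormTwo.Fi24
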