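import Cfsg.Agent.H532.PNormTwo.Fi24Walk

/-!
# `Fi24`: data for the commuting pairs `(q, x q)` (helper532)

* `xw` : the element of order 16 as a word;
* `U` : the points `q` such that the transpositions of `q` and `x q` are different and commute;
* `t0_T`, ... : trees, `l0`, ... : points visited by the walks.
-/

set_option autoImplicit false
set_option maxRecDepth 100000

namespace Cfsg.Agent.H532.PNormTwo.Fi24

open Cfsg Cfsg.Agent.Fischer.Fi24RepLib
open Cfsg.Spor.Fi24 (Gen)

/-- the element of order 16 -/
def xw : List Gen := [.e, .g, .h, .d, .i, .a, .c, .e, .g, .h, .b, .d, .c, .e, .g, .h, .d, .f, .j, .i]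

/-- the points `q` such that the transpositions of `q` and `x q` are different and commute -/
noncomputable def U : ℕ := asmS 65536 [
  asmS 4096 [nat_lit 0x2004094002000040400081451000024010621a1189000180402d018000a08500000000000000a0050a500000550000f00000500500000000000000000000a000000000a5a505a08810010020a80268c11d000000d0098002800060688602000600a901200800045404000a0000000000000000a0a00000a000a5000a0000f5f000000500a00500a000a00050050aa0000500f0a6044a040842ab28009228d000840339c30302000008c0100c0000090a9024080000020ca00000000055500000000000000500000000a050a00a0000a50000000000000a000a005a00a005a000000000000000000a0000000000000000000a0a00a0000050000000000000a0a00a000510080006014c14419008002200020052121a6494000460680080808000006202021018020000000050000000050500050a055a0050500555000000000000000a000a050a0a00f0f0000a0a00550000000055a000a00000000555aa00500a000a5a00050000a000000000000020c400241a41124492520a54104010a110400090a01004000000500a0000a000a05500050600821200a028001408016000020405110000800190022000000000000a0f0000000f050d041044c11228108040004300000005000a0000000000050a10418000690009041008610000000000000ff0050000ff095e0100000044223102b032a00000f520fd0c00000c2118,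
    nat_lit 0xa00005a0000000a0000000500000050f50555000050000000a0005000000000000000f0000000000500050a000005050000000000000000a0005000050500005050000005000a00000005000000050a000000000000005000000a0a00a000000050000000000000a0000a0000000000000aa0000a500000005a0a0a500000000500a500000000a0000000005a0000000050f000000a05000500000005a005050000050000050a00000005000000000500000a0a00a000000000000000a500a0000050000000000000a005000000000000a000a000000005000afa00000050f0005000000055000000f0005000000a0a00a0f500f000a00000fa0000f000500000a000f0000000000000000050a00000005000000000000000000000000a00000f000a0a5050000aa0000005a00000a00055a050005500f000050500a0a0505000005f00000000000000000a0050050000a00000000a0a00000000a05000aff500000aa000550a050505000050050000000f0000000a0000000a00005a5500000f0005000f00000f0000000a000005000a0000500000a00a00000000000000a00000000a05000005000a0000000a00a0aa00000a0000a00a0aa00000000005aa0000000005050a0000000500000000500000005000f000000000000a0a00000000000000000050000a005000000a00050880000c0000000091020000,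
    nat_lit 0xa00000000000050000000050000000000000a00000000a000000000000000005000000000a00a05000a005000000000000000000000000000000000000000005aa550fa000000000000050000000500000000000a00000000000000000000000a00005050050000000000000a000aaaa0000a00000000505000000000000000000500505f0005050050a0000000000000000050550a500a0000000050000000f0500a0505000000500000000860000688000000800020001a61200000000000008140200d000000e030000004ca000010200000920820400000901290280080100a80409032e1010200921048690a00016518611804400511096401044004045a8218040200010097004084050049000100a08480100104818004224422180a908102012000e1e0809002088290000150043000982cc2d120330000014000042000080000040d000c4a08a00400dc1c500cc0cc440101842000000004800002000300305bc8c30040000c01a00000011000088021000313a000080000a0000000000000000f0000000000000050005050a00050000005fa5f00000000000a00000000500000005005050505000505050000000000000000000000000a0a000a0500f505a000a50000aa000a0a0aa0aaa00a0000a00005000000000000aa0a000,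
    nat_lit 0xa0050a005000a000050055050500aa005000000000a0000000000000000a000a0000000000005f5f00050000a500000000000000500000000005500000a00000005005000500aaa050000055000000000500000500a0000000000a50000000005a050000000505000000000000a50000050000000000000000000a0000a5aaf0a0a000000000a000f5a0000000000000000000a0500050000000000000000000000000000000a050000a00a00000000500a0000000050000fa05a050000000000000050a000aa000f5a00a005000000500050000005000000000000000000a050aa500a00000050000a0000a0a0a0a00000fa0af000a05fa000000000a000000000050000a000050000050000000000000000f00000000005000a000000000a050550000000000000050000050000500000000000a00505000000000000000000000a0000000000a5a000f000a0000000000000000a5000a000000000a00005000f0000a00005000000000f000000000000000000005000500000a00050f0000a00000a0f50000000000aa00aa005000050000af0505000000000000050a00a0a0000000000a50000050005f0a000050000050000050a0a0000a005000005000005050500000a050000a00500a0550005050a0a00a00f05050a000a0000005a000005a00a00000000000a0000050505a5000050000000000000000000000,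
    nat_lit 0xf000aa000a0000000005000000005000000500050000005000000000000500a000000000000000000000000000000a0000000f5000000a05000505aaa00000000000a000000000aa00555000000000000000000a000050000000a000500500000000000faa05a00000000000000000a00500050005a550a005000a0a0000000a000000005000005a000000000000a00aa00050000000000000000a000a00000000000000000aa00aa050a000000000a0f00000000000000050000000000500000a00055a0a00000505000000500000a000000a5000a0000aa0005000000000050000000a0000a00000000aa00000000000a0a0a00000500000000000000a00000000a00000000000aa0500000a0000000500000000000000000a0055000000000500050a0aa5a00a0a00000000050000a0505550a0500000a50000500a000a00a00fa50000000a0000000a50a00a500000050000500005550550000a00005a0000a00fa50000000a00050500a0000a000000000000000a000000000a0000a00000000500a000050000000000050000a0000a0000500500a00a000aa000000000a00fa55a000000a0000000000000000a0000a0a0a0000000000000000aaaa00000000000050000005000a500a50000a0aa00000000000000000000a055aaa0000550000000000050a000a00000000000005000a0050000a00000050050500,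
    nat_lit 0x5500a00000000000000000005500000000a5a000005055f00000000000000000005000a050000f000000000000050000000050000a50000000000000505a0000a00000005a00a000005050500000000a000000000000000000a050f05aaa000000000000a005050550000000000000005000000a0000a00a0000a50005000000000000000000a00a000000000000a00000000000000005a005000000000000000005005500050000000000000a00a00000500050f500500000500000000000050a00000050f00000000000000005000000a00a000a000500aa000a000a0000005a000005000000000a05000000000a5050500000000f500000a00aaa00000005000a000000000000000000500500a000000000000000aa000a50000005000000a005500500a000000005000a500000500000aa000000000aa000000000a00000000500005a00000000000000000000005000000000aa0a00005a00000000000000000a0000000500000000aa50000000005a05000a000aa0a005055000000000000000000000a0000005000050000000000550005050a000000a055000000000000000000505a0aa050000a00a0000000050000000000000005a000000000000000050a00aa0000a00000000000a0000000050005500000a0a00000000050000050a550a55000000050000000a0000000500000505aa0050000a000a00,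
    nat_lit 0xa00a05000f050000055000000a000000000000000a0a000000500000000000050000000a5a000000a0000000a000af0a005f0500a5050000aa000000000000a000000a00505000000000000000005005000000f0000aa000000000000000000f000000a000000000000000005000000000000000005050000aa000000000500000a000000a0000000000a00550000000000000000000000a000000000000000000000005000000000000000a0000000050a0005a500000555000000050000050000050000000000000000000000000000000050a5a0000000000000000050a00aa00a00a0000000000000000005000000000000000000f00a000000000aa000000000a00000000000000000000000055000000000000000000a050000a0000000a00000a00a0a00000000000050000000000000000000000000000000000000000000a000a0a0aa0a000000000000a00500000000005000000000000000000000000005a0a0000000a00a050500000000000000005000000005000000550f0a00000000000000000a050000005000000000000000a0a00000500050000a000000a00000000aaa000000000050500a0000000500000000000000a0500050000505000a0000005000000000a0a0005000000500000000005000000000500000a0a05000000000000a0000000a000000050000000000000a500000a500005000,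
    nat_lit 0x500a00000000000000500000000000000500000050000000000a0a50000000000500a0000005000000000000000000000a0000000000000a0000000000a0a000000000500500000f5a00a5f0000000050500a0005000000000a0000000000000500aa000a00000000550000a000000a00005a50000000000ff55f050a0000a0000005005000000000000a0a000fa0a5000000000a00f0a0000000005a00f0000a500a0000000a50a000000000500aff0000a000000f00000f50f00000aa00000a0000055000500000000a5000000050a0000005000000005000000000000000000000fa000000000500000000005a0000005a00005000500000000000a05550000000000000f000000000a00000005a000500000000f0000000000000000000005000f000005050000000f0000000000000000a5000000505a0550000050000a0000000ff0a00000a5a0000000000000000faa5500000550000f0000f00fa000000005000000000,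
    nat_lit 0x500a0000500a00500000005000000000000000000000000005000000050000000000000000000a0000000a00000000000005000000050f50f0000f50f000500a0050500a0050500555a0500555a00500550005005500000000000000000000000000000000000500000005000000000000a0000000a00f0f00000f0f00000f0000000f0000000000000000000000a0000000a00000000005000000050000000000000000000000000a0000000a000050a0000050a000000000000000000000500a0000500a000a0000500a0000505a0000505a000050a0000000a0000000000000a0000000a0a0005000a00050000a0a000a0a0a000a00a0a50000a0a500000000000000000000000a0000000a000050500000505000000aa050000aa0500000a0000000a00000000000000000005000000050000000000000000000000000000000000000000000005500000055a0000000a00000005050000050500000000000000000000000550550005505500000005000000050000000000000000000000000000000000a0000000a000000a0a00a00a0a00a000000a0000000a000a0000005a00000050a0000500a0000500000000a0000000a0000505000005050000a0a0a000a0a0a0000000000000000500000005000000000000005000000050000000000000000000a0000000a0000a0000005a0000005,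
    nat_lit 0xa0050a55a0050a55a00000a0a00000a0500005055000050500050000000500000500000005000000000000000000000000000000000000000500005505000055000a00a5000a00a5000a0000000a00000000000000000000000000000000000000000000000000000a0000a00a0000a00000a0000000a000055a5005055a50050000000000000000000500000005000000000a0a00000a0a000005a0000005a000000a0000000a00000005a0000005a00000000000000000000a00a0000a00a000000a0000000a000a0000000a0000000000a0000000a000aa0a0a05aa0a0a05000550500005505000500000005000000005000000050000050005000500050005a0a00005a0a0000000000a0000000a0000a0000000a0000a0005050a0005050050000000500000000f0000000f0000005000050050000500000000000000000000500000005000000000a0000000a0a0000a0aa0000a0a000000000000000000000a0000000a00000055050000550505000000050000000000005000000050000000000000000000000000000000000f0050000f00500000000500000005000500055005000550055aa000055aa00000000000000000000000500a0000500a0a00a0000a00a00000a5000000a5000000005500000055005000000050000000a0050500a0050500a000000aa000000a0000000a0000000a,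
    nat_lit 0xa00a05a0a00a05a000000a5000000a5000f0000000f000000000000a0000000a00000000000000000f00000a0f00000a0500500005005000005000a5005000a5005000aa005000aa0050005000500050005000500050005000a0000a00a0000a0000000000000000a0a00a50a0a00a5000a00a0500a00a050a0a00000a0a0000000550000005500000005000000050000a0aaa000a0aaa000000005000000050000005000000050000000050000000500f00000a0f00000aaa0000a0aa0000a05a0000005a0000000000005000000050000a0000000a0000000000a0000000a055000000550000000000500000005000000005050000050550000a0050000a000000000500000005050a5005050a5005a0a0500aa0a0500a00000000000000000000000000000000550000005500000000000000000000000050a5500050a5500000000000000000500000a0500000a000000a0000000a0000000000000000000000000000000000a0005000a0005000000500a0000500a0000000000000000050500005505000055000050050000500055a005a055a005a000000000000000050a0500050a050000a0a00000a0a0000500000005000000050000005500000050000000a0000000a000000a0000000a050000500500005000a0005aa0a0005aa000005a0000005a00aa5a0000aa5a0000000a0000000a0000000000a0000000a,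
    nat_lit 0x500000005a0000a50a0000a5000a0005000a00050500000005000000000500000005000000a0005000a0005000000000000000000000050000000500000a0000000a000000000000000000000a500a005a500a005000000000000000050000000500000005005000050050000a0000000a00000005000000050000000000050a0000050a0000005000000050000055000000550000000000500000005500000a0500000a000000005000000050f0000000f00000000a0500000a0500000000000000000000a5000000a5000000000000000000000005005000050050000000a0000000a000005000500050005050000000500000050000500500005000000500000005000f0000005f0000005000000000000000000a00a0000a00a0050000a0050000a0005aa00a005aa00a00000000000000000a0000000a00000000000000a0000000a05055a0505055a050000000000000000000000a0000000a0000000a0000000a0000000f0000000f0000005050000050500aa050000aa0500000a0000000a00000050500a0050500a0000550a0000550a50000000500000000000000000000000000f000a000f000a000005000000050000a0000000a000000050000000500000aa0500a0aa0500a0a000a000a000a000000000a0000000a00000000f0000000f0f00000a0f00000a05005000050050000000a0000000a000,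
    nat_lit 0xa0a00000a0a0000000000000000000000000050a0000050a0050f0000050f0000a00550a0a00550a05505a0005505a00000000000000000000000000000000000000000000000000a0500005a0500005a00a0050a00a00500000a0000000a000000000000000000000000a5000000a50000a000a000a000a55500a0055500a000000000000000000a0500500a050050000000f5000000f50500f00f0500f00f0000a0000000a000000005000000050000500005005000050a0000000a000000000000a0500000a05000050000000500005500a0005500a00000000050000000500a5500500a5500500550000005500000005000000050000000000000000000000f00f0000f00f00f00000f0f00000f00000000000000000000500000005000000000a0000000a000a0000000a0000005005000050050000a000a000a000a000a5a50000a5a500000500000005000000050000000500000000a0000000a000000a0000000a00000000a000a000a000a000000000000000005000005050000050000a0000000a0000005000000050000000a0000500a000050000000000000000000005000000050005a0000005a0000000000505000005050a05005a0a05005a5050000050500000000000000000000000a0a05000a0a0500000000a0000000a0000550a0000550a00000000000000000500000a0500000a5f0a00055f0a0005,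
    nat_lit 0xa5000000a5000aa000000aa0000000000050500000505a000a0faa000a0fa000f0050000f005000000000000000000000000a0000000a000a0000000a0000000000a0000000a005000a0005000a00000000000000000000000000000000000a0005000a0005000a0000050a00000500000000000000000a0000aa0a0000aa0500000005000000a00000a0a00000a0050a0000050a00000a0005000a00050000000000000000000000a0500000a0500000000a0000000aaa000000aa0000000000000000000000005f0000005f00000050500a0050500a50000005500000050a0000050a0000050000000a0000000a00005000000050000500000005000000000000000000000005000500050005000a5000000a5000000aa000000aa0000000500000005000000000000000000000a0000000a00000000000a0000000a0000050000000500000a00a0000a00a0000000000000000000000a0000000a0000000a0000500a0000500500000005000000500000005000000f505ff00f505ff000000000500000005000000000000000000000000000000005000000050000000a0000005a0000005a00000f0a00000f00500500005005000000f0000000f00000000a0000000a000000aa000000aa000000000a0000000a0a00000a0a00000a000a0050a00a0050aa0005500a000550000000000000000000000000a0000000a,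
    nat_lit 0xa0005000a0005000050aaf00050aaf000000000000000000000f0000000f0000000000000000000050aa005050aa00505000000550000005a0000000a000000005a0000505a00005000050000000500000f00f0000f00f00050000000500000000500000005000000a0000000a000000000000a0000000a00000000000000000000f0000000f000000a0000500a000050f00000a0f00000a0000005000000050000000000000000000000a0000000a0050000000500000000a0005000a00050000a50a0000a50a00a00a0000a00a00000f0000000f000000a0a00050a0a00050000005a0000005a000000a0000000a0000000000000000005a00050a5a00050a0000050a0000050a000f0000000f0000a0000000a00000000a00a5000a00a50000000005000000050a0005000a0005000000000000000000500000a0500000a00a0000500a00005005005000050050000000000000000000000000a0000000a00a0000000a000000a0500000a05000000005050000050500a0000050a000005005000a0a05000a0aa00a0050a00a0050000000000000000000000000000000000000f0a00000f0a0005000a0005000a000000000000000000500005005000050a0000000a000000000000050000000505a50a0005a50a00000a0000000a000000a000aa50a000aa5000505500005055000005005000050050f00f0000f00f000,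
    nat_lit 0xa5500000a5500000000500a0000500a5055a0005055a0000050000000500000000a0000000a000000a0000000a0000050005000500050005050000050500000000000a0000000a00000000a0000000a5000000050000000000000000000000000000000000000000000000000000000000a0050000a005000000000000000000050000000500000000050000000500000000000000000000005000000050000000000af000000af0fa0f0000fa0f0000000000000000000000000a0000000a0050000050500000555a0f00055a0f00000500055005000550000050000000500a0a0f0a0a0a0f0a0000050000000500000000aa500000aa50000500000005000000500000005000050050a0550050a050a0000000a0000000a0050500a005050a000a000a000a0005500af005500af0000050000000500000a0000000a000000000000a0000000a000050000000500000a00000a0a00000a0a00000f0a00000f0000500000005000000a0000000a00000000000000000000f500a000f500a000000000000000000000050000000500000a0000000a000000000000af000000af00a0000000a000000000a5000000a5000000000000000000000000f0000000f00000000000000000500000a0500000a00000050000000500f0000000f0000000000550000005500000000000000000000a0000000a0000000000000000000000],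
  asmS 4096 [nat_lit 0xa0000000a0055000000550000a0000005a0000005a000aa55a000aa550000000000000000aaaa0000aaaa0000000000000000000005000000050000005000500a5000500a00000000000000000a0000000a0000000000000000000000000000000000000000000aa000000aa0000000a0000000a005a5505005a550500500a0000500a00050000a0050000a0005a0000f05a0000f50500000505000000005000500050005000000000000000000000000000000000000005000000050a0000000a0000000a0005500a0005500000a00a0000a00a0a05a0005a05a00050000000500000005000000000000000000000000000000000faf0fa00faf0fa00000a00f0000a00f000f0000000f0000fa000000fa00000055a0000055a000000500000005000000a000000aa000000a0000000000000000a0000000a0000000ffa000a0ffa000a000000000000000000000050000000500500a00aa500a00aa0000a0000000a0000000000000000000000000500000005000aa000000aa0000005050000050500000a0000000a000000000000a0000000a5000050050000500000000050000000500000000000000000a5000000a5000000a0000050a000005a000a000a000a00000000000000000000000a0000000a000050a0000050a0000000aa000000aa000000a0000000a0000500aaa00500aaa000000000000000000,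
    nat_lit 0xaa000000aa0000a0050000a00500a000000aa000000a050500a0050500a000000f5000000f500000000000000000a00a00a0a00a00a000000000000000000a0050500a0050505000000050000000500005505000055000a0000000a000000000a0000000a00000a0000a00a0000a000f0a05000f0a0500000000000000000000000000000000a0f00000a0f000000000000000000000000000a0000000a0000000000000000000f500a000f500a00f0005000f000500a0050005a00500055000a0055000a00550a0000550a0000500a0500000a050000000a0000000a0000000000000000000000a0000000a0000000a0505000a050500000005000000050000a5000000a500050000000500000000000f0000000f000000000a0000000a0a0000000a00000000a0000000a0000000a0000000a0000050050a0050050a00a0500000a050000000500a0000500a0000a0000000a00000000000000000000000a0000000a0000000a0500a00a0500a000000000000000050000000500000005a0000005a000000000000a0000000a000500000005000000000f0000000f0000f0005000f0005000000000000000000000000000000000000a00a5000a00a500000a00f0000a00f0000000000000000000a0000000a00000050000a0050000a0a0000000a0000000a0005000a0005000005f0000005f0000005005a0005005a,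
    nat_lit 0x5a0a00005a0a0000000000000000000000005a0000005a00000005a0000005a0000000000000000000a0000000a00000005005a0005005a000a0500000a050000500000505000005000500000005000000050000000500000500a0000500a000000a0000000a000000000000000000000a0000000a000000000000050000000500050000000500000aa000000aa000000000005000000050a000a500a000a50000000a0500000a050000a0050000a005500000a0500000a000000050000000500055000000550000a0000000a00000000005a0000005a0000000000a0000000a00a0000000a00000000fa500000fa50000000000000000000a00000a0a00000a0a0a00000a0a0000f0000500f000050050a0000050a000000a0000000a0000000000500000005000a0000050a00000500000000000000000000000000000000000005000000050000500000005000000000500a0000500a00050050000500500000a0000000a0000000000500000005000000a0000000a00000500000005000000000000000000000aa000000aa000000000a0000000a00000000000000000000500000005000000a00000f0a00000f0050000a0050000a00aaa00000aaa0000000000000000000000000a0000000a00000000550000005505005000050050000000a0000000a000000a0005000a00050a00000a0a00000a00550a0000550a00,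
    nat_lit 0x50a0000050a0000a0000000a00000000500a0000500a0a0000000a00000005000050050000500000a0000000a0000505500a0505500a500f0000500f00000000f0000000f00000a0050000a00500aa0a5050aa0a5050a5500000a550000000005000000050000050000500500005a5000000a50000000a0000a00a0000a00000a0000000a0000000050500000505a0000000a000000050a0000050a000000000a05a0000a05a000a0500000a050000005000000050000050050000500500a000aa00a000aa000a0555000a0555000a0000000a000000000000000000000000000000000000000000000000000000f0000f00f0000f000005000000050000000a5000000a5000050050000500500000000a0000000a00a0000005a00000050000a0000000a0000000000000000000a0005000a00050000000af500000af50000a0a00000a0a0000000000000000000000a00a0000a00a00000000000000000000000000000000000a050a000a050a000000a0000000a050000000500000000000000000000000f5f00000f5f0000000000000000000000000000000000000000050000000500005000050050000500a0005000a0005000000000000000000000000a0000000a05500a00a5500a00a5000000050000000000050a0000050a0a0050000a00500005a050a005a050a0000000000000000000000000000000000,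
    nat_lit 0xa0000500a0000500050055000500550a0000000a0000000000505000005050000050a0000050a005000000050000000005000000050000000000000000000000000a00a0000a00aa00005a0a00005a0000500000005000000000000000000000000000000000000000000000000000050a0000050a000000050000a0050000a00000000000000000000a0000000a0000a0000000a0000000a0000000a000000500000005000000050a00f0a50a00f0a0a00000a0a00000a000000000000000000000000000000000050000000500000fa000000fa00000000050a5000050a50a00000f0a00000f0000000000000000000000050000000500a0a00a00a0a00a0505055005050550000a00a0000a00a00005a00a0005a00a00000000a0000000a50a0050050a00500050a0000050a0000500000a0500000a000a000a000a000a00000050000000500a5000000a5000000000a0000000a0000000000f0000000f00000a0050000a0050a0000000a0000000000a0000000a000a0000000a00000000a0000000a0000000050000a0050000a00a0000500a000050000000000000000a0500005a050000500a0050000a0050005000000050000000000000000000000a0a05000a0a050000000000a0000000a00000000000000000000000a0000000a00500500005005000000050000000500a000a000a000a0000000000000000000,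
    nat_lit 0x5a0a00005a0a000000000000000000000050000000500000000a0a00000a0a0a00000a0a00000a000a0000000a00000005000500050005a0005000a00050000000000000000000500a00a5500a00a50000000000000000000000050000000500000a5000000a50a0a50500a0a505000000a5000000a500500055005000550000a0a05000a0a050050005000500050000000000000000000a00a0000a00a000000000000000000000a0a55000a0a5500000f0a00000f0a000a0050000a0050000000000000000000a0000050a0000050a0f00000a0f0000000000a0000000a0500000005000000000500000005000000500000005000000005000000050000000050000000500000000f0000000f0000a05a0000a05a0000000a0000000a000000000000000000000f0000000f000000000000500000005000005f0000005f000aaa00500aaa00500000a0000000a0050000000500000000000000000000000055000a0055000a005055000050550000000a0a50000a0a55a0000005a000000000a5a00000a5a000a0000000a000000000050000000500000a00a0500a00a050005a0000005a0000a5000000a5000000000000500000005000a0500000a0500500000505000005000005a0000005a00000a5005000a500500000000000000000000000000000000a0a00050a0a0005050000000500000000005000000050000,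
    nat_lit 0xa5000a00a5000a0a0000aa0a0000aa000000000000000000000005000000050055500a0055500a005a0000005a0000500a0000500a000000000000000000000000aa050000aa050a0000000a0000000005000500050005000000000000000000a0000000a00000500000005000000000055a0000055a00000000000000000000a0000500a000050005a5000005a500a0000500a000050000005000000050000000a5000000a500000000000000000000a0000000a0000000000000000000000005500000055000000a0000000a000000a050f000a050f00000a0000000a000050a0a00050a0a0000000050000000505000000050000000500aa000500aa0000a0000000a0000000000000a0000000aaa0a0005aa0a0005000a0000000a000005000a0505000a050aa000000aa0000000005000000050000500000a0500000a000000000000000000a5000a00a5000a0000000000000000050500000505000000a0000000a00000a00a5000a00a5000550a0000550a0000a0aa0a00a0aa0a0000a00a5000a00a500a0005000a00050000055000000550000aa0a0a00aa0a0a000a0a55000a0a5500000050000000500000055a0000055a0a0000000a000000000000000000000005a0000aa5a0000aa0000000000000000005aa000005aa00000000000000000000000000500000005000a0000000a00000500000005000000,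
    nat_lit 0xa0000000a0050a0050050a0050000000005000000050000000000000000000000000000000005000050050000505500000055000000a000a005a000a0050000050000000500f0000000f000000000000a0000000a000a05ff050a05ff0500a0000000a00000a0000000a00000000f0000000f00000000000000000000005000005a5000005a00000005000000050000050000000500000005000000050000000a0000000a0000000000000000000000a5000000a5000000000a0000000a500aa00a500aa00a005000aa005000aaa00a5000a00a500000a0a05000a0a050000000000000000000005a0000005a000000050a0000050a0a0500500a0500500000000f0000000f00a0050000a00500000000a5000000a505000f0005000f00000000a5000000a50000000000000000000a0050000a0050a0505000a050500000000a0000000a0000a000aa00a000aa000a5000000a5000000500000005000000000a5000000a50005a0050005a00500000000a0000000a0000500000005000a0000050a0000050500000005000000000050000000500000005000000050000000050000000500000000000000000000050000a0050000a0005500000055000000f000a000f000a000000f0000000f000a0000000a0000000000a0a00000a0aa0000000a0000000000a5000000a50005000500050005000000a0000000a0000,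
    nat_lit 0x50500a0050500a0000000000000000505000005050000000a00f0a00a00f0a005000500050005050000000500000000500000005000000a0000a00a0000a0005a0000005a000000a0000050a00000500000500000005000a0005a00a0005a00000000000000000005500000055000000000055000000550f0000500f0000505000000a5000000a05000aa005000aa00005a0000005a0005a0a00005a0a000000a0500000a0500000000000000000000000000000000000000000000000000000000050000000500500050005000500000a0005000a0005a0a00000a0a0000000000a0000000a00005a0000005a000000000000000000000000000000000000a0000000a00000000500000005000000000500050005000500050000000500000a0000000a0000000000000000000000500aa005500aa00500a0050000a005005000550050005500005050000050500050000a0050000a00500a5a00500a5a00000a0000000a000000a000a000a000a00000000000000000000f0500000f05000000a0000000a0000000a0000000a0000500000005000000005a0000005a00000000000a0000000a00000000000000000000050a0000050a00000050000000500000a0000000a00000a0000a00a0000aa0005005a00050050000a0000000a00000000a0000000a0000a0000000a0000000000005000000050000050000000500,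
    nat_lit 0xa000000aa000000a00000aaa00000aaa00000aa000000aa0000500aa000500aa0000005a0000005a0000aa500000aa5000000000000000000000000500000005000000000000000000000000000000000a0000550a00005500000000000000000000000000000000000a000a000a000a0000a0000000a0000a0000000a000000000a5000000a50000000f0000000f0000005000000050000050000000500000000505a0000505a000000000a0000000a00000a0a00000a0a0a0005500a0005505000050050000500a0000000a000000000000050000000500000500a0000500a00000a0000000a0050005050500050500000000000000000a0a5000aa0a5000a000500500005005000000a0500000a05a0a00000a0a000000050000a0050000a0050000000500000000000a0000000a0000000000000000000000aa000000aa0000050aa000050aa0000050000000500000a0005000a000500a5500000a550000000500000005000050000a0050000a050a00a0550a00a050050a00a0050a00a05000a0005000a00005000a0005000a00000000a0000000a000a0000000a0000000000000000000000a0000000a0000000050000000500000000000000000000000000f0000000f00000a0000000a0005000a00a5000a00aa0000000a0000000f00a0000f00a00000500000005000000a0050000a005000000a0005000a00050,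
    nat_lit 0xa0000055a00000550a0000000a000000000000050000000500a000a000a000a00a0a0a000a0a0a000000000000000000005500a0005500a05a0500005a050000500000005000000000050000000500000500000005000000000000a0000000a00050a0000050a0000a0000000a00000000000005000000050000005000000050aa00000aaa00000a000000000000000050050050500500505000000050000000000a0000000a00000000a0000000a00000000005000000050500000a0500000a0000050a0000050a000000000000000005005aa005005aa0000500000005000000500500005005000000000500000005050a0000050a00000000000a0000000a500050005000500000a0000000a000000000000000000000500000fa500000fa00000000000000000000000000000000a5a005a0a5a005a00000a00a0000a00a00a0005000a0005000500000005000000a000a500a000a50000a0000000a000050050005500500050000000000000000a0000000a00000000a0000000a00000000550005005500050000a0000000a000500000005000000000a5000000a500000000000500000005050000a5050000a50000a0000000a000000000000000000000500000005000000050050000500500050000a5050000a50000a0000000a0000005005000050050000a0af0000a0af00000000000000000000f0500000f0500,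
    nat_lit 0x50050a0050050a0000000000000000a0000050a000005000050a5000050a50a00000a0a00000a0000000a0000000a00aa500000aa50000a0a0a000a0a0a0000a0000050a000005000000f0000000f0000000500000005050000000500000005000000050000000500000005000000000050000000500000000000000000000000f000a000f000a00000500000005000a0000000a000000000000a5000000a55000500550005005000a0a00000a0a0000000000000000000050000000500000000a0000000a00000000000000000000a0000005a000000500a0000000a00000000000500000005000000000000000000a0500000a05000000050000000500000000005000000050a0000000a000000050000050500000500f0500000f0500000005005000050050000000000000000000500000005000000a00050a0a00050a5000a0005000a00000a0000000a000000000a0000000a000af000005af000005005055000050550000000a5000000a50000000000000000000a0005000a00050000500000005000000000000000000000000050000000500a0050005a00500050000000000000000aa000005aa000005005a0005005a000500050000000500000a0005000a000500000500a5000500a5000a0050000a0050050000500500005000a0000000a0000000000a0000000a000aa0a0000aa0a000,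
    nat_lit 0x5a0000005a000000000000500000005000000000000000000000000000000000000000000000000000050000000500000500550005005500000a0000000a0000a0000000a000000050000000500000000000500000005000500a0550500a05500000a0000000a0000000000000000000050050a0050050a000000a0000000a000000000000000000000000500000005000500a0000500a0050a000a050a000a500000aa500000aaa0000005a0000005550000005500000000f0000000f0000000505000005050000050055000500550000000000000000005af000005af0000000500000005000005000000050000000a0000a00a0000a00050005000500050000a5050000a505000000a0000000a000000000000000000500050005000500000000000000000000000a5a00000a5a000a0000f00a0000f00005000000050000050000000500000aaa00000aaa000000000000000000000000555a5000555a5000000000000000000055aa000055aa0000000500000005000500a0000500a000000000000000000000500000005000005505aa005505aa00f500a000f500a0000500000005000000f0000000f000000500a0050500a00500000000000000000000000000000000050a5000050a50000000050a0000050a000000a0000000a00505a0000505a0000a0000000a000000000aa00f000aa00f05000500550005005,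
    nat_lit 0xa0000000a0055000000550000005a000a005a000a0a0000000a0000005050a0005050a00000000005000000050000000000000000005000000050000000500005005000050000000000000000005500000055000000000000000000000a00000a0a00000a0000000000000000000a0000000a00005000000550000005a00000a0a00000a00f00aaf00f00aaf0a0000005a000000500500000005000000a5005000a5005000000000000000000000000000000000000000050000000505000000a5000000aa0000000a0000000005000000050000000500000005000000000500000005000f0000050f0000050000fa000000fa00000050050000500500000050f0000050f000a0a00000a0a00a000000aa000000a000000000000000005000a5005000a50550000005500000000000aa000000aa0a0050000a0050000000000050000000550000000500000000050000000500000000000000000000050000000500000005a5000005a5000000000000a0000000a0000a00a0000a00a000000a0000000a0000000000000000050000aa050000aa0000000000000000005a0050005a00500a050a000a050a0000000000000000000a00aa000a00aa0000a0000000a00000050f0000050f0000000000000000000005a0000005a0000000000000000000000000a0500000a05000000a00a0000a00aa0000500a0000500,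
    nat_lit 0xa000f000a000f00000000a0500000a050f0005000f00050000000a0000000a00f0000500f000050000000000000000000000000000000000000f0050000f0050000000050000000500a5000000a50000000000050000000500000050000000505005000050050000000050000000500000055000000550000000000000000000000000500000005000a0005000a00050a0000000a00000000000f0050000f0050a00500a0a00500aa0000000a000000000000000000000000000000000000000a0000500a000050000000000000000000000000000000000050000000500000000000000000000000050a0000050a000050000000500000000a5000000a500000500000005000000000a5a00000a5a000000000000000000050000000500000000a0000000a0000000000050000000500000a0050000a00500aa000a00aa000a050000000500000000000000000000000a0000a00a0000a0a000a000a000a000000500000005000000aa000000aa0000a0000000a00000000000000000000000050000000500000000000000000000000f50fa000f50fa00500a0000500a000005000050050000500000000000000000a0000000a000000000000f0500000f050000f0000000f0000000a0a00000a0a00f0000000f000000050000a0050000a0a0000a00a0000a00000500050005000500000a0000000a00000a0000000a0000,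
    nat_lit 0x500000005000000000a00a0500a00a05050a0000050a00000500005005000050a0000000a00000000000000000000000000000500000005000fa000000fa0000a0000a00a0000a005a0000005a000000000fa000000fa00000000a5000000a5005000a0005000a00a50050a0a50050a000000000000000000a0000000a00000000000000000000000500050a0500050a00a00a5000a00a5000000a0000000a0000aa000000aa0000000a0000000a0000000000a0000000a00005050000050500500000055000000500000000000000000000050500000505a0005a00a0005a00500000005000000000000a5000000a5000000000000000000f0000000f00000000a0500a00a0500a000000000000000000f0000000f00000a0a50a05a0a50a0500000a0000000a0000000a0000000a00000000000000000000000000000000000a0000050a00000500050005000500050000000000000000050f05a0050f05a0000a0000000a000000aa0a0500aa0a05500005a0500005a0000a0000000a0000050f00a0050f00a0000f0000000f0000000a0000000a0000000000000000000000000050000000500500000005000000000000500000005000a0a00000a0a0000000050000000500a0500050a0500050000000a0000000a0000555a5000555a500a50a0500a50a0500a0000000a00000000000000000000000005a0000005a00],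
  asmS 4096 [nat_lit 0x500a0000500a0000000000000000000a0000000a00000a0000500a0000500aa000000aa00000000000000000000000a5000000a5000000050a0000050a00000000005000000050f00000a0f00000aa0000000a000000000050000000500000050a0000050a000000a0000000a00000000000000000000a000055aa000055a0000a0550000a055000000a0000000a000a0a00000a0a0000000000000000000000000000000000000000000000000000000000000000000005000500050005000000000000000000a0000000a00000000000a0000000a000000000500000005000500000005000000000000000000005a0000005a0000000050000500500005000000050000000500a0000000a00000000005000000050050000a0550000a05000000a5000000a500000500000005000aaa00050aaa00050050000000500000000000000000000005000500050005000000005a0000005a00000a0500000a050000a0000000a00000aa000000aa0000050000a0050000a0000a0000000a00000a00000a0a00000a5000050050000500500000055000000500000000000000000a0050000a00500000000500000005000000a0050000a005000000000000000005a0005005a00050000a00a0000a00a00050a0000050a00000005000000050000000000000000000aa00000aaa00000a000005000000050000a0000000a00000,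
    nat_lit 0xa0000000a00000000000a0a00000a0a00000050a0000050a000005050000050500000a0000000a0000000a0000000a000a0000000a000000000000000000000000000a0a00000a0a0000500a0000500a0000000000000000000000000000000000005000000050000000000000000000000000000000000000000000000000000000a0000000a00000000000000000000500005a0500005a00000a0000000a0000000000000000000000000000000000000a0000000a0000050000000500000000005000000050000000a5500000a5505550a0005550a0000000000000000000a0000a00a0000a00000000a0000000a00000000a0000000a000000050000000500000a0000000a0000000f0000000f0050000000500000000000000a0000000aa5000050a500005000a0000000a00000000a0050000a0050000005050000050550000005500000050a00aa0a0a00aa0a000000050000000500000a0000000a000000050000000500000000000000000000050a0000050a0000005005000050050500050a0500050aaaa05000aaa0500000a0000000a000000000a0050000a005000005000000050000000000000000000000000500000005000a00aa000a00aa05000000050000000050000500500005005005000050050000a0000a00a0000a00a50a0000a50a000000000000000000a0000000a00000000500000005000000,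
    nat_lit 0x5a0000005a0000f00aa000f00aa00af000000af00000000000000000000000a0000000a000000500000aa500000aa555000505550005000000000000000000a5000a00a5000a00005000a0005000a0a000a000a000a0050a0500a50a0500a050000a0050000a000a0000a00a0000aa0050000a005000000000000000000000a5050000a50500000050000000500000000500000005000005000050050000500000505000005050000000000000000055000000550000000a0000500a00005a0000000a000000000000055000000550000000000000000000a5a00000a5a0050a0000050a000000000a5000000a500550000005500000005005050050050500000050000000500a0550505a0550505000a0a00000a0a000aa000000aa000000000000500000005000000000000000000a0000000a000000a0000aa0a0000aa0000aa000000aa00a00000ffa00000ff000a0a00000a0a0000500a0000500a0000000a0000000a005a00000a5a00000a0a00000a0a00000aa0000500a0000500a000005aa000005a0a0000000a000000000000000000000050000500500005000a0aa50a0a0aa50a0000000000000000a0000000a00000000000050000000500000005000000050000a000a000a000a0050000000500000000000000000000005a0005005a000500a0000a05a0000a0500000050000000500000000000000000,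
    nat_lit 0x50055000500550000000000000000000050000a0050000a0000000050000000505aaa00005aaa000a0000000a00000000000a00a0000a00a000000a5000000a5000a00a0000a00a00050a0000050a0000000a0000000a000000a0050000a0050050a0000050a0000a0000a00a0000a000500000005000000000050000000500000a0050a00a0050a0000a0050000a00550000a0050000a000000000a0000000a000000000000000000000000000000000a0a05000a0a05000000f0000000f000000500050005000500000a0000000a000000000a0000000a00000a0000000a000af000000af0000000000005000000050000000500000005000005500000055000000550000005500000050000000500000500000005000000a0000000a000000000000000000000050000a0050000a00000050000000500a0005000a00050005000f0005000f0005a50a0505a50a0500000a0000000a00000000000000000000000000a0000000a0000000000000000000a5a00000a5a000000f0000000f00000000000000000005a05050a5a05050a0000a5000000a5000000000000000000a00000a0a00000a0000000a0000000a0000500500005005000a00a0500a00a0550000000500000000050000000500000000f0005000f00050000a0000000a0000a5a00000a5a000000000aa000000aa0a0000a00a0000a000a0000000a000000,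
    nat_lit 0x5000a0055000a0050550000005500000a00a5000a00a500000a0500a00a0500af0050000f005000000000000000000000000000000000000005000000050000000000000000000000005500000055000a0000050a00000500000055000000550a000a000a000a00000000000000000000a0000000a00000000000050000000500a0000000a0000000f0000000f000000055a0000055a0000050000a0050000a0005000a0005000a0000000000000000000000000000000000000000000000000000a0000000a000005000000050000000000a0a00000a0a00000500000005000050000f0050000f00500050505000505000fa500000fa500000a0000000a000000500000005000000aa000000aa00000a0000a00a0000a00a0000500a00005000f000af00f000af0a0500a00a0500a00500000005000000000000a0000000a000005000a0005000a000aa000000aa0000a50aa500a50aa500f0000050f0000050005a0000005a000000000000000000000a5000a00a5000a0000500000005000000aaa05000aaa050000000000000000000000000000000005000000050000000050005000500050005a000a005a000a000000a0000000a0000000050000000500050a0500050a05000000000000000000055a0000055a0000000000000000000000000000000000000005fa000005fa,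
    nat_lit 0xa0000000a00005050a0005050a00000000000000000a0000000a0000000000000500000005a00000a0a00000a00000000000000000055000a0055000a000a5a00000a5a0000005000500050005050a0a00050a0a000000a0000000a00000050550000505500000000a0000000a00005000000050000000000000000000050000050500000505000000050000000000000a0000000a0a0000000a000000000000000000000050000000500000000000aa000000aa005000000050000000a00aa000a00aa000000a0000000a000000a0000000a0000000a0a00000a0a00000000050000000505000500050005000a000a0a0a000a0a0000a50a0000a50a000000a0000000a0000aa000000aa00000500000005000000000a0000000a00000a00a0000a00a000550000a0550000a000000000000000000000a0000000a0000000a0000000a000000500000005000000a0000000a000000000005000000050000a0000000a00000a00a0050a00a00500000000000000000500000505000005000000a0000000a00000a0050000a0050000a5000000a50050000005500000050500000a0500000a005000000050000000000005000000050000000000000000a000000aa000000a0000f0000000f00000000500000005000000000500000005000a0a00000a0a005055000050550000a550a000a550a0000000000000000000,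
    nat_lit 0xa0000005a000000500005000000050000a00000a0a00000a0000000500000005000050000000500055050005550500050a00a00a0a00a00aa0a0a00aa0a0a00a500500a0500500a0000a005a000a005a0aa000000aa0000000000aa000000aa0000000000000000005a0000005a000000a0000000a00000000000000000000000000000000000000000000000000000000a5500000a550000000000000000000000a050a000a050a000000550000005500000a5000000a5000a0000000a000000000000000000000a0000a05a0000a050000f0000000f0005000000050000000a0000000a000000000a05a0500a05a0500000005000000050a5000000a500000000050000000500005000a0005000a000000000a0000000a05000000050000000000000f0000000f0000f0000000f00000000aa000000aa00a500a000a500a00000a0500000a0500a00a0000a00a000000a5000000a500000000000000000000a0055000a00550000000000a0000000a00005a0000005a0050a550a550a550a500000a0000000a0000000000000000000500000005000000000a5000000a50000000000a0000000aaa500500aa5005000000000000000000a0aa00a0a0aa00a000000050000000500055000000550000000055a0000055a0000a0000000a000050a0000050a000000005a0000005a000000aa000000aa0000000000000000000,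
    nat_lit 0xa0000000a000500000005000000050a0000050a000000000000a0000000a0500000a0500000a00a0000000a000000000000000000000a00a5500a00a55000500000005000000aa00a000aa00a00000a005a000a005a0500a00a0500a00a0050005000500050000a00a0000a00a00a000a00aa000a00a00a0000500a0000500000000000000000000a00a0000a00a00a0050000a005000000a0000000a0000a0000500a00005000000050000000500000a0500000a0500000000000000000000555000005550005000a0005000a000005500500055005000f0000000f000000000a0000000a0000a0000a00a0000a0a0005000a0005000aa500000aa50000050000a0050000a000000000000000000000050000000500a0000a00a0000a000000000a0000000a0500000a0500000a00000500000005000000f0a00000f0a00000050a0000050a0000a0000000a0000000000a0000000a00a000a000a000a00000050a0000050a0a0000000a000000000a0000000a000000a0000000a000000000050000000500000050050000500500005500000055000000000000000000500000a0500000a0050000a0050000a00000050a0000050a000a550a000a550a000a50a0000a50a00a0005000a0005000000000000000000f0000000f0000000a5000050a5000050000005000000050005000550050005500505500005055000,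
    nat_lit 0xa0000000a00000000005000000050000500000005000005000000050000000000f0005000f000500a0000000a00000000000a5000000a500500500005005000500000505000005a0005500a000550000000a0000000a000aa500000aa5000005000055050000550000500000005000000000a0000000a0000000500000005055005000550050000050a0000050a00000f0000000f00000000a0050000a005000a00a0000a00a000a0000a00a0000a000000aa000000aa0000faa00000faa005000000050000000000a0050000a0050000500000005000000000005000000050000000000000000000000000000000000000005000000050055a0000055a000000505000005050000f00a0000f00a0005500a5005500a500a0a00000a0a000000000a5000000a50000a0000000a0000000000000000000000000000000000000a0a00000a0a000000000000000000005aa000005aa000000f000af00f000af000000500000005000005000a0005000a55000a0055000a000050000a0050000a00000a0000000a000000000000000000000000000000000000000000000000000500000a0500000a0005000a0005000a0000000000000000a0000000a0000000000000a0000000a050000000500000000a0000000a0000000500000a0500000a000a0000000a000000a0000000a0000000055000000550000000000000000000,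
    nat_lit 0x50000000500000000a0000000a00000050a0000050a000000f0000000f0000000500005005000050aa000000aa0000000050000000500000a5000005a50000050050000000500000000500aa000500aaa0000000a0000000a5aa0500a5aa0500500a0000500a000050000005500000050500000005000000000f0000000f00000000a0500000a050a0000000a0000000000000000000000000a050a000a050a000000000000000000a5000000a5000000a00050a0a00050a000000000000000000000a0000000a0000500500005005000000a0000000a000500050005000500000a000a000a000a000000000000000000000000000000000000050a0000050a00a0000000a000000a0050a00a0050a000000050000000500aa005a00aa005a0000005a0000005a000000055000000550f00a0a0ff00a0a0f0500000505000005000000000000000000505500005055000a0000000a0000005000a0005000a0000050a0000050a0005005000550050005050000000500000050050000500500000000050000000500005000000050000000000000000000000000500000005000a0500000a05000000000050000000500000000000000000000000000000000000000a0000000a0000000000000000000000000a0000000a0000500500005005050000000500000000000000000000000000000000000000000a000a000a000a0,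
    nat_lit 0xaa000000aa0000a0000000a00000000000a0500000a0500000a0000000a00a550000aa550000a0500a0000500a000000a0500000a05000000005a0000005a0000000a0000000a000000a5000000a500000000000000000000000000000000000000500000005000a0000000a00000000000a0000000a05500000055000000500a0000500a000000000a0000000a00000000000000000000a005aa00a005aa00000a0a00000a0a0055000000550000005000000050000000000a0000000a0000a0000000a0000000f500aa00f500aa00050000000500000000000a0000000a000a0000000a0000500000005000000000000500000005000050500000505000005a0000005a00000a0000050a0000050000000000000000000005000000050000050000000500005000000550000005000000000000000000500000005000000a0000000a00000000000000000000000000000000000000005000000050000050050005500500050005000000050000005550000055500000a0500000a05000a5000000a5000000055a0000055a00000f00005a0f00005a0005000500050005000000050000000500000a0000000a0005a0aa0005a0aa0000aa005000aa0050a0500000a0500000050000500500005000000000000000000000000000000000000000000000000000a0000000a0000005000a0005000a00,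
    nat_lit 0xa0000000a0000050f0500050f05000000f00a0000f00a0000aa000000aa00fa00000afa00000a0000500000005000a05a000aa05a000a00a0000000a0000050000000500000000000005a0000005a000a0a00000a0a0000000a0000000a0000a0500000a050005000000550000005a0005050a0005050a0500050a05000505000000050000000000aa000000aa00000a0000000a00000a0000000a00000000005000000050000000000000000000050050a5050050a50a50000a5a50000a5000a5000000a500000000000000000000000000000000000000000000000000000005000000050000000000000000000000000000000000055000000550000000000000000000000a0000000a000000000000000000000000000000000000000500000055000000500a0a0f000a0a0f00000500a0000500a05000000050000000000000a0000000a00a0000000a00000000050a0000050a00a00a5000a00a500a5550000a5550000a0005050a000505000050500000505000a0000000a000000aaaa0000aaaa000050000000500000005000005050000050a5500000a5500000aa500000aa500000a000f000a000f0000f00000a0f00000a0000000000000000a0500000a050000000000000000000000000a0000000a0000000000a0000000a000050000000500000000a0000000a0000000000000000000000000000000000,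
    nat_lit 0x5000000a5000000a0000000a0000000a005050000050500000000000000000000000000a0000000aaf000a00af000a000050000500500005005a5000005a50000000000000000000a0000000a0000000000550050005500500a0000000a00000005a0050005a00500050a0000050a000000000a0000000a00005a5500005a550000000a5000000a500000a0000000a00a0000000a0000000000000050000000550000000500000000000005000000050000a00a0000a00a000000a0000000a00a000a0a0a000a0a00000000500000005000f0005000f0005000a0000000a000000aaaa0000aaaa0050a0550050a055000000a0000000a000000a0000000a00000a0f00000a0f0000000005000000050000000a0000000a0000f00f0000f00f00a0000000a0000000a000500aa000500a00000000000000000000000000000000005005500050055000a0050000a0050000000050000000500a0000500a000050a5000000a500000000000000000000000500500505005005a0500050a0500050a5000000a50000000000000a0000000a00000000000000000000000000000000000a0000000a00000a0000000a0000000000505a0000505a0000005000000050a00000a0a00000a0000000000000000000000005000000050000000a0000000a5000000050000000a0500500a0500500,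
    nat_lit 0xa0000000a000000000000a0000000a50000a0050000a00aa05f000aa05f000000000000000000000005a5000005a500a0500500a0500505000000a5000000a00050a0000050a0050005a5050005a5000050000000500005000000a5000000a0000000a0000000aa0000000a00000000a0000000a000000500000005000000000000000000000000000000000000000000000000000000000aaa00000aaa000000f0000000f000000000a5000000a500a0050000a005000000050000000500000000050000000500000f00a0000f00a000050000000500000a0000000a00000000f0000000f0000a0000005a0000005050050a0050050a0050f0000050f0000a0000000a0000000000000000000000000a0000000a0000000000000000000000000a0000000a000000000f0000000f00000505000005050a0505a00a0505a000000000000000000000000000000000000000000000000000a0500000a0500000a00050a0a00050a00a0000a00a0000a00a0000a00a0000a55aa000a55aa000a500005a0500005a05000005050000050000000000000000000505000005050000000a00a0000a00a0a00aa050a00aa050000000a0000000a0000000a0000000a5000000050000000000550a0000550a05a0000005a0000000000a0f00000a0f00000a0fa0000a0fa00050005000500050a0000000a000000,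
    nat_lit 0xa0000000a000000a0050000a0050000500000005000000500000005000000000a00a0000a00a0000500000005000000000000000000000000000a0000000a00000a5000000a500000a00a0000a00a0000505000005050000a0500000a0500a0000050a00000500005000000050000000500000005000000a0000000a00000000000a0000000a000000500000005000000000000000000050aa550050aa55000000000000000005000505050005050500a0000500a00000000000000000000a5500500a55005000000f5000000f50000000a0500000a0550050000500500005000000a5000000a00000a5000000a500000505000005050000a0005000a000500500a5000500a5000000000000000000000505000005050000000000000000050000000500000000000050000000500a000000aa000000a5000000050000000005000050050000500500000005000000500000505000005000505000005050000a0005000a000500a0050000a00500000a0000000a000000000000500000005a0005500a00055000005a0000005a000000a000a000a000a0000a0a00000a0a00000a0a50000a0a55000000050000000055000000550000050aaf00050aaf0000000000000000000500050505000505000a0000000a00000000500000005000000000a0a00000a0a0000000000000000000f00f0000f00f0050f0000050f0000,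
    nat_lit 0xa0050000a0050000000000000000000050000a0050000a00000a0000000a000000000000000000a0050000a00500005000000050000000000a0005000a0005000000000000000050a0000050a00000050555550505555500500005005000050005000000050000500000005000000000000ff000000ff0a0000000a000000000000050000000500000000000000000a0050000a005000000000aa500000aa50500000005000000000000000000000000000000000000000a5000000a500000050a0050050a00500000000500000005000000000000000000000a0000000a0000000000000000000000000000000000000050000000500000005000000050000a5050000a5050000000055000000550050000000500000000000000000000000000000000000000a0050000a00500000000000000000000000050a0000050a0005a0000005a000000500000005000000a5000050a5000055000a0005000a0000a0000000a0000000000050a0000050a000500000005000000000005000000055000000050000000a000000aa000000a0000000000000000000000a0000000a0000000000000000005a5000505a5000500a0000a00a0000a00000500000005005aa000005aa0000000500000005000000000000000000000a050a500a050a50005a0000005a0000000000000000000005005500a5005500a5000000050000000],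
  asmS 4096 [nat_lit 0xa0000000a000000000000050000000500000a0f00000a0f0000000a0000000a00000000000000000000a5000000a5000000000000000000000aa000000aa00000000000000000000000000000000000005a0000a05a0000a0000000000000000000000000000000000000a0000000a00000000000000000000000000000000000005a0000005a000a0000000a0000000a0550000a055000000000000000000005000050050000500000005050000050500500a5000500a500000a0a00000a0a000000000000000000000005500000055000000f0000000f005a0a00005a0a00000000000000000000a00a0000a00a0000a00a0050a00a0050500000a0500000a0a0500a00a0500a00000a0000000a0000005500000055000555000005550000000000500000005000000000500000005000000050000000500000000000000005aa000005aa000005000a0005000a000a0500a00a0500a0000a0000000a0000000a0000000a000000000f0a00000f0a00000000000000000000000000000000000005a5000005a50a0000a00a0000a0000000500000005000000000a0000000a0000000000000000a0000000a00000000a000a000a000a0000005aa000005aa00a000a000a000a00000000000000000000a0005000a000500050a0050050a005005a0000005a0000050000000500000000000500000005000a000a500a000a50,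
    nat_lit 0x50a5000050a5000000000000000000500000005000000000a0a00000a0a0000a0a00000a0a0000000000000000000000000000000000000000f0000000f0000a0000000a000000500a0000500a00000a0500000a050000000a0050000a00505000000050000000005000aa005000aa000000f5000000f50000000000000000000500a0000500a00000000a0000000aa0000000a0000000500aa005500aa005a0505000a050500000050000000500000005000000050000a00000a5a00000a50005000a0005000a00000000000000000a0000000a00000000a0000000a000000a000aa50a000aa50050aa500050aa50000000000000000000000005000000050000500a0000500a0500a0000500a0000000a0000000a0000000505a0000505a000000000000000000000505000005050a0a00000a0a000005005a0005005a000a50000a0a50000a00000005000000050000000000000000aff50000aff50000f5000000f50000000000000000000000050000000500000000000000000000005000000050000000500a0000500a000000a0500a00a0500a0000000a0000000a0000000a0000000a0a000a000a000a000050a0000050a0000000000000000000000000a0000000a000000a5000000a50000500500005005000000000000000000000000000000000000500000005000050000000500000000000000000000000,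
    nat_lit 0xa05a0000a05a0000a0000000a000000050a0000050a000000000000000000050005000500050000000a0000000a000000000000000000000000000000000000a5000000a5000000000000000000000000000000000000000a0005500a000550000050500000505000000000000000000000000000000000a50a5000a50a50000a5000a00a5000a0050050500500505500000505000005000000000000000000a00a0000a00a00000000000000000005000a0005000a000000000a0000000a000000a0000000a0000aa000000aa000000000000000000000000005000000050000000a0000000a00a0500000a0500005a000a005a000a000a00a0000a00a000500000005000000000000000000000000005a5a50005a5a5a05005a0a05005a000000000000000000a505a5a0a505a5a05a0000005a00000505a0055505a005500000005000000050a0000a00a0000a0000a0000000a00000500000005000000a0000500a0000500000050aa000050aa500000a0500000a000050a0000050a0000000000000000000a0550aa0a0550aa0000000000000000500500005005000000000000000000000000500000005000000a0000000a00000000a0000000a000a0a00000a0a0000050000a0050000a0050500000505000000000050000000500005a5000005a5000000000000000000005a0000005a000000a0000000a000000,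
    nat_lit 0xa0000005a0000005505a0000505a000000005000000050000000000a0000000a00000000000000000f0000000f0000000000500000005000a0000000a0000000000000000000000000500000005000005050a0f05050a0f0000000500000005000050000000500000000000000000000aa00a500aa00a500000050a0000050a0a0000000a00000000f0000aa0f0000aa50a5000050a5000000000000000000000050550500505505005050000050500000500000005000000000000000000000a0a50000a0a5000005500050055000500f00000a0f00000aa00050a0a00050a05000000050000000000000a0000000a00000000000000000000a0000000a000000f000a000f000a0000a0000000a0000f0000500f000050050000000500000000f00000a0f00000a005a0500005a0500000f0000000f00000a0500000a050000a0000000a000000000a0000000a00000000a0000000a0000a0000000a00000000aa0a5a00aa0a5a005a0000005a000000000f0a00000f0a00f00000a0f00000aa0000a0aa0000a0a0500000a0500000a50000000500000005a0a00005a0a0000005a0000005a000000000000000000000a0000000a000000000f0000000f0000a000a000a000a00000a0000000a000000500005005000050000000000000000000000500000005000f0000aa0f0000aa0500500f0500500f00a0000500a00005,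
    nat_lit 0x50055000500555000000050000000000a0000000a000000500000005000000000a0000000a000000000000000000000000000000000000000050a0000050a00000500000005000000050000000500a0050050a005005000000055000000550000a5000000a500500000005000000000000000000000000a0000000a000000000a0000000a000000000000000000000aa505000aa5050000a0000000a000000a0000000a0000000000500500005005000a000a000a000a00000000000000000000a05a0000a05a000005000000050000f0faa000f0faa000000005000000050a000f000a000f0000af000000af00000a5005000a50050000000a5500000a550000000a0000000aa0000000a00000000000005000000050000000a0000000a00000000000000000000fa50a000fa50a0000f0000000f000050000000500000000000000000000000000000f0000000f000000000000000000000a0000000a0000a0a00000a0a0005000a0005000a0000055000000550000550500a0550500a000000f0000000f000050000000500000000000a5000000a5000000000000000000000000000000000000f00a0000f00a000000000000000000000a0000000a0000500f0000500f0000a0000000a000000005000000050000000050050000500550a0000050a000000000000000000000000000000000000000005aa000005aa0,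
    nat_lit 0xa0000500a000050005f0000005f0000000000f0000000f000a0000000a00000000000000000000000000000000000000000000000000000050000a5050000a500050000a0050000a000000050000000500a0f0a000a0f0a050050000500500000000505a0000505a00000a0000000a00a0000000a00000000000000000000000f0a0a000f0a0a0000000000000000000000a0050000a00500a00a0000a00a0000000000000000000000a0a05000a0a050000000000000000050000000500000000a0000500a000050a0000000a00000000a0000000a00000000005a0000005a000005000000050000000000000000000a0a00000a0a000005a00aa0a5a00aa0a0a0000000a000000a0000000a000000000000a0000000a0000a00a0000a00a000f0500000f0500000000000000000000000aa005000aa00500000000000000005a0000a55a0000a50a00a0000a00a00000005000000050000505000005050000fa500000fa5000000a5000000a5000000000a0000000a000005aa000005aa000000fa000000fa000a0a0a005a0a0a00500000050000000500a0050000a0050005500005a5500005a00000000000000000af000000af00000000a0a00000a0a000550000005500000000a0500000a050000055005000550050af050000af05000000a0000000a000000000a0000000a0000a0000a00a0000a0000000000000000,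
    nat_lit 0x50a00aa050a00aa000000000000000000050055000500550000000500000005a0000f00a0000f000050f0000050f00000005a0500005a0500050a5000050a5000a5000000a5000000000000000000005000f0505000f05000a0500000a050005000f5005000f500050005000500050000000a0500000a0500500000005000000000050000000500005000a0005000a0000000aa000000aa0005050000050500500005a0500005a000000a0000000a00a0050a00a0050a00000a0000000a00000a0a50500a0a505000a00a0a00a00a0a0000000000000000000000000000000000a0000000a000000000000000000000000a00aa000a00aa00000500000005000a0050000a0050000000005000000050000000000000000050050000500500000000f5000000f500a0000000a0000000000a5055000a50550000005a0000005a5000000050000000050000a0050000a00055000000550000000005050000050500050000000500000000000000000000000a000a000a000a0a0050000a00500050000aa050000aa0000000a0000000a00000000000000000000000000000000000000a0000000a0000000000000000000000050000000500000000000000000000005050000050500000000000000000050500000505000000555500005555000000000000000000500a0000500a000000000500000005000000050500000505,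
    nat_lit 0x50055000500550f0000a00f0000a000a5000a00a5000a00a5000500a500050500050005000500000500000005000000000000000000000000000000000000a0a0000aa0a0000a00000aa000000aa0a00a0500a00a05000000a0000000a0005000000550000005a000005aa000005a0aa000500aa00050000a0005000a00050a0000000a0000000000a0050000a00500a5000000a5000055000000550000000500a0000500a0005000000050000000000000aa000000aa0000a0000000a0000000000000000000a00a0a00a00a0a00005a0000005a000000a00a0000a00a00a0000500a00005000000000000000000a505a500a505a50000000500000005000505a0a00505a0a00000000000000000000000000000000000055a0500055a05000000000000000000000000000000000000000000000000000aa0a0000aa0a00005000000050000000f0000000f0000000050000000500000a0000000a000000000000000000000000a0000000a00000000000000000000a0005050a0005050000a0000000a000000a0000a00a0000a0000000000000000000000500000005000000a0000000a000005005000050050000a0000000a0000000a0000000a000000000a0000000a0000a050a000a050a050000500500005005005000050050000a0500a00a0500a00000050000000500000000055000000550000000000000000,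
    nat_lit 0xa005a000a005a00000000000000000000f0555a00f0555a00f5a0a000f5a0a00aaa0a500aaa0a5000a00000a0a00000a0005000500050005000005a0000005a00500050005000500000000050000000500000aa000000aa00000000500000005000000a0000000a000a0500500a0500550000000500000000a0000000a000000500a5000500a5000000000a0000000a00000000500000005a0a00000a0a00000a0000005a0000005000000000000000000a0000000a0000000000000000000005000000050000000000000000000000000a0000000a000000aaa00000aaa0000000aa000000aa000050000000500000000000a0000000a0000005a0000005a0000005000000050000000000000000000000a0000000a000000000000000000000000000000000000000005000000050050500005505000050005aa000005aa000000000000000000aa00a00aaa00a00a0005000000050000050a0000050a0000000a0a00000a0a005550000055500000000a0000000a000055000000550000005a000a505a000a5000000000000000000a0000000a00000000a5a50000a5a50000a0000000a000000a5a000a0a5a000a0005000000050000000000a0000000a00a0000000a00000000500aa000500aa00000f0000000f000000000f5000000f50000050000000500000000a0000000a00000000f0000000f,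
    nat_lit 0xa0000500a00005000005000000050000a0000000a000000050000a0050000a00000a0000000a00000500a5000500a5055000000550000005000a0aa5000a0aa05000000050000000050a5500050a550000000500000005005000000050000000a050a050a050a0500005000000050000a0000a00a0000a000500000005000005000000a5000000a00a0000000a00000000500a0000500a000a0a00000a0a00000a5000000a500000a0000000a00000050a0500a50a0500aa0000005a000000500000000000000005505a00a5505a00a000500000005000000000a0000000a0000f0000000f0000000000000000000000050000000500000000000000000000000a00a0a00a00a0a000000000000000005005005050050050a000f000a000f0005000000050000000000a0000000a0000000000000000000000000000000000005000000050000000000000000000000055500a0055500a005000a0a05000a0a000a0500000a0500000a0000000a000000000000000000000000000000000000500000005000000000005500000055000000000000000000a0000050a00000500000500000005000000000000000000000000005000000050000000000000000a0a00a00a0a00a00000000a0000000a00005000000050000aa0a000aaa0a000a0000a0000000a00000000005000000050000a0000000a000a0000000a0000000,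
    nat_lit 0xf0000000f000000000000000000050000050500000500a00a0050a00a00505000000050000000005550000055500000a0000000a000000000000000000000a0050000a00500000500a0500500a0550000a5050000a5005050a0005050a00000a0550000a055000050005000500050000500a0000500a0a0505000a050500000055000000550000000000000000000000aa050000aa050050a0500050a0500a0000000a00000000050a0000050a00000000a0000000a000050000000500000000000000000000500050005000500000000500000005000005a0000005a000aa0a0000aa0a000005000000050000000500500a0500500a0000050000000500000000000000000000a00a0000a00a0000050005000500055005000a5005000aa000500fa000500f00005a0000005a0000000000000000000a0000000a0000000a0000aa0a0000aa0aa000000aa00000000000a0000000a00000005000000050050aaa50050aaa500005005000050050050a0000050a00000aa050000aa0500000000000000000000000000a0000000a50a5050550a50505a0000005a00000050a0000f00a0000f00f0a00000f0a000005000000050000000500055a0500055a0000a0000000a00000500a0000500a0000a050a000a050a0000000000000000000a0000000a00000000050000000500000000000000000000050a0000050a000,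
    nat_lit 0x500000005005a0aa0a55a0aa0a5f0500000f0500000000a0050000a0050000000a0000000a0000500000005000000a0000000a00000000000000000000050000a0a50000a0aa050a000a050a0000000000000000000000000000000000000a000aa00a000aa0000500000005000000000000000000005000505050005050000000000000000005005050050050500a000a000a000a000a0000000a000005000a0005000a000a0000000a00000000005000000050000000000000000000000500faa00500faa000aa055000aa0550550000005500000a0a00500a0a005000f0500a00f0500a000000000000000000000000000000000000000050000000550a0a00050a0a000000a0000000a0000f0000000f00000000000550a0000550a00050a0000050a0000000000000000000a0000050a00000500000000000000000005005000050050000000000000000000a0000000a0000000a0000000a00000f0a00000f0a000000500000005000000000000000000000050a0500550a0500500a0500000a0500005500000055000000000000000000000000005050000050500050000000500000a005a000a005a0000500a0500500a0550f0000050f000000000000a0000000a050005a5050005a500000500000005000000000000000000000000aa000000aa00005000000050000a0000000a0000000000005000000050,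
    nat_lit 0x10000100100001000000040000000410000002100000020000000000000000000000810000008100040081000400811000000010000000000000800000008000000000000000000000110800001108000000000000000080000100800001008000000080000000401000024010000200000001000000010800040008000400c0000000c0000000002000000020000022000022220000221000080010000800800004008000040000000008000000080020000000200000008000000080000000002000000020004000080140000801008000000080000000000080000000800040440000404400800800208008002050000408500004080000000100000001000000000000000000400200004002000000000000000000002000000020000060210100602101000c8008000c8008000000000000000000004008c0004008c00000000000000000000000000000000000000080000000800020000000200000020c0208020c020800100000001000008000200880002008800001448000014480020402800204022000000420000004000008c4000008c400000000000000000000000000000000000a0000000a000000550050005500500000f0050000f0050000000000000000a000005aa000005a5000a5a05000a5a0000000550000005500a0a05500a0a055000a0000000a0000000a0000000a00000050000000500000,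
    nat_lit 0x20000408200004080040020000400200000000200000002000400000004000000040200000402000000000020000000200000000000000000840440c0840440c00000004000000040304360403043604600204006002040000040000000400000800440008004400000000200000002080140451801404516d4c00006d4c0000080801000808010000040800000408000180010101800101880001608800016020280000202800000008100000081000000400000004000008c0000c08c0000c0008000000080000080001400800014008000101080001010088090000880900000000010000000100000000000000000c02c9000c02c900000000000000000000000000000000000c0000000c000000004000430040004300000000000000000060260000602600000080400000804000800080008000800000030000000300000000000000000004102020041020200004000400040004069104890691048980001010800010101804020018040200008000010080000128000030280000300000500000005000000010000000100020011000200110000080900400809004000000000000000000080022000800228020901880209018000000000000000001000000010000000002200300022003000000000000000048682401486824018000200080002000000000000000000030001020300010200010082800100828,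
    nat_lit 0x2a1222822a12228280100000801000000089d3000089d300a6824142a6824142008800a2008800a20100040001000400a0804000a08040000400008004000080006420200064202004014109040141094080810040808100120902281209022800000010000000100040004000400040001000000010000000002000000020000000800800008008a00012a0a00012a0004000000040000020004841200048410020000000200000000040260000402600002108000021080200080002000800000000000000000001484000014840001049051010490510c8010000c80100000001000000010000000001010000010100000400000004001000000010000000800100008001000044c04c4044c04c400002400400024004803015008030150040046c1040046c10000000100000001000000000000000000820000808200008000800000008000044081000440810000100001001000010000000200000002000000000000000000100000401000004100080001000800000200000002000000102004001020040000000040000000400100264001002646000000060000000020082000200820000020000000200002002901120029011020004000200040008000220080002202012004820120048000400000004000004000000040000000800000008000000000020000000200089100800891008000404000404040004,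
    nat_lit 0x210a0000210a00000100200001002000012a2202012a220201000000010000000000040000000400011141910111419148002000480020004a8c01004a8c010000008438000084380000000000000000c8000028c80000280012300600123006400410004004100021040040210400400220160002201600000040000000400000016426000164268800010088000100000218010002180180a8280080a8280000419200004192008092000080920000122e022a122e022a022084800220848000024202000242020089080000890800020200000202000002400511024005112404a0002404a0002100000021000000001000000010000000000000000000000001400000014000900080c0900080c00000000400000004000000640000006444404400444044000000a3120000a3128048040880480408400400004004000001114500011145000000002100000021020010000200100000100010001000100004040a0004040a200022002000220010000404100004040084408800844088200008002000080000510e2000510e2000000000000000001002233110022331900480059004800500012120000121200110000001100000800000948000009440400202404002020000000a0000000a280000112800001181840100818401000000002000000020a0180080a018008044801880448018800424484004244840],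
  asmS 4096 [nat_lit 0x55550000555500000000a0000000a0005000000050000000300000303000003000000000000000004000040040000400000000000000000004400880044008800000000000000000a3af0500a3af0500006001010060010120001000200010000000000200000002580c0802580c0802243818002438180000410800004108000901001709010017000000280000002800244400002444000000000000000000101002021010020204040000040400000020023000200230200008042000080410000084100000840101000001010000088002a0088002a04020020240200202c0e180ccc0e180cc0014001800140018000000000000000000008044000080440001080000010800400000004000000000240000002400000000100000001000102456401024564000000000000000000800000008000000310040003100400022012020220120200080d1040080d1040002c00a0002c00a100048c0100048c0150b0010150b001000100040001000402200400122004001014400020144000280501000805010000000000100000001500000c0500000c020400004204000040101110001011100041004100410041081a8c08081a8c08092808185928081850010450000104500080000010800000108808880088088800000200000002000008001800080018010034000100340002000408420004084,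
    nat_lit 0xa0000000aaa000050aa00005055a0000055a000000000005a0000005a00000005000000050000005000000050a0000a05a0000a0500000000000000005000a5505000a550000000a0000000a000000aa000000aa0000000a0000000a000a0000a00a0000a05000a0505000a050000000000000000a0000500a0000500a00000a0a00000a00000000000000000500055a0500055a00a0050000a00500050000500500005000000000000000000a000a500a000a500000005000000050000000000000000000000a0050000a005a5000000a5000000005000000050000000000000000000000000a0000000a000a0000000a00000000000055500000555a00a0000a00a0000000000550000005500aa000000aa000000000a0000000a005000000050000000f00a5000f00a5000000a0000000a00000050000000500000000000a0000000a005a0000005a0000000000000000000000000a50a0000a50a050a00f0050a00f0000500000005000000000000000000000005005a0005005a0005a0000005a0000f000a000f000a000505000005050000000000000000000000a0000000a00000005000000050000000000000000000000000000a0000000a0000000000000000000aa000000aa000000000000000000000a0000000a00000505000005050000000000a0000000a0000000f0000000f000000000500000005,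
    nat_lit 0x500000005005000500a5000500a0000500a0000500aa00000a5a00000a50050000000500000000000000000000000a0000000a00000500000005000000000000005000000050050000000500000a0000000a0000000005000000050000000005000000050000a0a0a500a0a0a50000000000000000000500000005000000000a0000000a000000000000000000000000000000000000000000000000000000000000000000000500a0000500a000050000a0050000a500000005000000005500000055000000000050000000500000f0000000f000000a000a000a000a000000a0000000a000a0005000a0005005000500050005000000000500000005000f0000000f000000000000500000005050005000500050000af000500af0005a000a000a000a000a00000a0a00000a000a000a000a000a0000005000000050000000000000000000550000005500000000a0000000a0000a5000a00a5000a00000000000000000000000000000000000fa000000fa00000000a0000000a0000000a500a000a500a0005000000050000f0000000f000000000000000000000000000000000000000000000000000000000050f5000050f5000000000000000000000a0500000a05000000500000005000500000005000000a00a0000a00a0000000050000000500000500a0500500a0500000aa000000aa0050500a0050500a0,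
    nat_lit 0xa0000000a0a0000050a000005005a0000005a00000050000a0050000a0000000000000000000a0000000a00000500000a0500000a00000500000005000a0000000a00000050aa000050aa00000050050000500500050000000500000000a000a000a000a00000000a0000000aa00a0f00a00a0f0000000a0500000a05f0000000f0000000000005000000050000f05a0000f05a0000000000000000000000000000000000000000050000000550000a0050000a0000000050000000500f00a0000f00a0000000000000000000050000000500000005a0500005a05000000fa000000fa000000000500000005000000000000000000050005a0050005a000f5000000f50000000000000000000f00000a5f00000a5000000050000000500000000000000000005000a0005000a0aa00a050aa00a0500000000000000000000a0000000a000a0050000a00500005005000050050000050005000500050000000050000000500000000000000000aa000000aa000000005000000050000000a00a0a00a00a0a00000000000000000000a0000000a000000000500000005005a00a0505a00a05a0000000a00000005000000a5000000a0000a0000000a0000a50a0000a50a00000055000000550000a0000a00a0000a00000aa0a0000aa0a500005005000050000005000000050000050000f0050000f0050000a0050000a,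
    nat_lit 0xaa00a050aa00a0500000000000000000000000500000005000005a0a00005a0a0000000000000000005a00a0005a00a000000a0000000a00a0f00000a0f00000a000000aa000000a00000000000000000050a0050050a00500a005a500a005a550a0050050a00500000000000000000050000000500000000aa000000aa00000000a0000000a00000000000a0000000a500000005000000000000000000000000000a0050000a005500005005000050000000000000000000000005a0000005a000a0000000a0000000000000000000000000000000000000f0a00000f0a000000000050000000500005000000050000aaa00000aaa000000000000000000000500005005000050005000f0005000f0000000a5500000a55000000a0000000a000050a0000050a00000000000000000000000a0000000a000000000000000000a0005000a000500000000a0000000a000000000000000000a0000a50a0000a50a0a00000a0a00000000a00a0000a00a000000000000000000000000500000005550a05aa550a05aa0005f00a0005f00a50500000505000000000000000000000a0505050a05050500005000000050000000000500000005000a0000000a000000000a0000000a000000050a0000050a000000005000000050000000000000000005000500050005000000a0500000a0500000000000000005000000050000000,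
    nat_lit 0x500a0000500a000500550555005505500f0aaaa00f0aaaaa0a00000a0a000000a0000000a0000000000500000005000000000a0000000a00000550000005500000000000000000000500000005000000000005000000050000000000000000000050a5000050a50000000a5000000a5000a0a00000a0a005000050050000500500000505000005000000000000000000000a5000000a5000a0000000a0000000000000000000000050005000500050000000005000000055a0050005a0050000000005a0000005aa00000a0a00000a000a0a00000a0a00000af000500af000500000000000000000000550a0000550a00000f0a00000f0a000000000000000000000000000000000a5000f00a5000f00000a0000000a0000a5faaaa0a5faaaa0a0000a00a0000a000000a0000000a000000050000000500500af000500af0000550005005500050000aa050000aa0500005f00a0005f00aa0a00000a0a0000050a5000050a5000000000000000000000500a0000500a000a500ff50a500ff5000505000005050000a0000000a0000000f0fa5f50f0fa5f505f0050005f0050000000000000000000005000000050000005000000050000000500f0000500f000000aa0a0000aa0aa000a005a000a005a0a00000a0a000000000000000000000500000a0500000a0505a0000505a000050000aa550000aa50000050000000500,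
    nat_lit 0x80626000806260026054800260548004200010042000100220000002200000020040000200400000000000000000024160202241602022102824a2102824a00000000000000000000000400000004200080032000800300020006000200060040824100408241600000006000000000000010000000104000040440000404110840011108400100040010000400102020020020200200000000040000000400201000002010000000020000000200000800040008000400001000000010000000000000000000000000f0000000f00000000f0000000f000000f0000000f000000000000000000000000000000000005a0500005a0500f0000000f0000000000f0000000f00000000000000000000aa005000aa0050000a50000f0a50000f00000000000000005000000050000000000000a0000000a00a0000000a00000000000500000005000000000000000000000000000000000000f00a0500f00a050000000500000005050a0000050a0000000500000005000050a0a05050a0a0500a0000000a00000000000aa000000aa0500a0a00500a0a00aa000050aa00005000a0000000a000000000000000000000000a0000000a0000000000000000000000550000005500005a00000a5a00000a50f0000050f0000000a0a00500a0a0050500000f0500000f00000a0000000a000050000000500000,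
    nat_lit 0xd0004000d0004000000180000001800000000000000000000000000000000080c8000080c8000020c0004020c00040010000000100000000000000000000000000000000000000000000000000000005000a0005000a000005000500050005005000000050000000a5000500a500050000000a0000000a00050a0500050a050000a0500000a0500a0500050a050005a0500000a050000000000000000000000050000000500000000a0050000a00500000000a0000000a000000a0000000a00500050005000500050000000500000000000005000000050a0050000a005000000aa000000aa00000000500000005005000500050005000000a00a0000a00a05a0000005a000000050aaa00050aaa000a0000af0a0000af00005005000050050000005a0000005a0050000000500000505005a0505005a000aa000500aa00050a00a0000a00a00000500a0000500a00005aa000005aa00000000f0000000f00005000000050000000000000000000005000a0005000a00050000000500000000000000000000000000a0000000a0000000a0000000a000000000f5000000f500050f0000050f0005005a0505005a05000050000000500000005000a0005000a000f0000000f0000000005000000050050a00a0050a00a00a0505000a050500000a0a00000a0a000000000000000000000000000000000000000000000000000,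
    nat_lit 0x50200012502000123c0046003c004600208c1004208c1004c0320000c032000040101020401010200101400001014000020000000200000000000080000000808100014081000140000000000000000000000c0000000c0040018002400180020484144204841442f000a000f000a0000000000a0000000a0000000000000000500050a0500050a000aa00a000aa00a000000000000000000050000000500000a5000050a50000505000000050000000000005000000050050005a5a50005a5a00000a0000000a000a0000000a0000000055000000550000005a0000005a0000000000050000000500505f0000505f0000500000005000005a0050005a0050000000500f0000500f00550000005500000000000000000000a0a005a0a0a005a0000000000000000000a000a000a000a050050005500500050a0500a00a0500a0000000a0000000a00000a0f00000a0f00500f0000500f0005000000a5000000a004000040040000400b3003b00b3003b008100020081000200080008000800088104210081042100140000001400000008001060080010600800081b0800081b4000124040001240000010a0000010a0080b1000080b100010028020100280201500802015008020000088000000880000010400000104000084301800843018804c8000804c8000008000e1008000e100000010000000102102000021020000,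
    nat_lit 0x8080000080800040408000404080009000042490000424008002000080020000000000000000000000020200000202000000080000000800800000008000000000010200000102800001088000010880600401806004010020200000202000100001001000010080080000800800001000000210000002309401093094010900000000000000000050000000500000f0000000f000000000000000000000000000000000000000050000000500000005000a0005000a00a0000000a00000000000000a0000000aa0a00000a0a000000000000500000005a0000a05a0000a0500000a0000000a00000000a0000000a0a0a50500a0a505000000000000000000005a0050005a005000a5000000a500000000000000000000a000000aa000000a00a0000000a0000000050af000050af0000005a0000005a00000a0000000a00000000500000005000000050000000500000000000000000000050050000500500f50a0000f50a000000050000000500000500500005005000050550a0050550a000a00a0000a00a0020000020200000200000c0400000c04404020624040206200405a8500405a8500006020000060200000000000000000000041000000410000900000009000004200082042000820008000010080000182008000820080000000000200000002000100000001000000460008004600080a0000000a000000,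
    nat_lit 0x5400310054003100212b0000212b00f05a0000f05a00005a0000005a00000000500a0000500a00000000a0000000a00000000f0000000f001c0010001c0010400042904000429040062002400620020800010408000104000604000006040000002000000020009339000193390001000080000000800000000111000001110004001000040010000001100000011000a5500000a5500050a0500a50a0500a0000000000000000000000000000000000000a0a00000a0a0000c48d0000c48d80000002800000026880482068804820210000002100000020140400201404000000000a0000000aa0005aa0a0005aa00a00000a0a00000a0000a0000000a00000a0000000a000000000800000008000040024030400240310e0000010e00000101200021012000204808008048080080000000000000000000f0500000f0500050000a0050000a0000a50a0000a50a000a0005000a000500058040200580402202000202020002011000060110000600000002c0000002c253105132531051389000800890008004081814040818140008080000080800000500005005000050000100100001001430620304306203000000000000000000000030000000300010832020108320228440804284408040000144400001444130402101304021080000020800000202000c1002000c10008090800080908008090410080904100,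
    nat_lit 0x861000008610000400000004000024004058240040580000000100000001808800018088000100000001000000010000006400000064000005500000055000aa000000aa00000000040000000400300800003008000008220208082202080200020002000200094001400940014080880408808804080900090109000901220284032202840300020000000200002100121c2100121c06000652060006529080841090808410,
    nat_lit 0,
    nat_lit 0,
    nat_lit 0,
    nat_lit 0]]

def t0_0 : MF :=
  (.n .f (.w (.p true (.n .a true (.n .e true (.n .g true (.n .h true .o .o) (.n .h true .o .o)) (.n .g true (.n
  .h true .o .o) (.n .h true .o .o))) (.n .e true (.n .g true (.n .h true .o .o) (.n .h true .o .o)) (.n .g true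
  (.n .h true .o .o) (.n .h true .o .o)))) .o) (.n .i (.w (.p false (.n .a true (.n .e true (.n .g true (.n .h
  true .o .o) (.n .h true .o .o)) (.n .g true (.n .h true .o .o) (.n .h true .o .o))) (.n .e true (.n .g true .o
  (.n .h true .o .o)) (.n .g true (.n .h true .o .o) (.n .h true .o .o)))) .o) (.n .k (.w (.p true (.n .a true (.n
  .e true (.n .g true (.n .h true .o .o) (.n .h true .o .o)) (.n .g true (.n .h true .o .o) (.n .h true .o .o)))
  (.n .e true (.n .g true (.n .h true .o .o) (.n .h true .o .o)) (.n .g true (.n .h true .o .o) (.n .h true .o
  .o)))) .o) .o) .o)) (.n .j (.n .i (.w (.p true (.n .a true (.n .e true (.n .g true .o (.n .h true .o .o)) (.n .g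
  true (.n .h true .o .o) (.n .h true .o .o))) (.n .e true (.n .g false (.n .h true .o .o) (.n .h true .o .o)) (.n
  .g true (.n .h true .o .o) (.n .h true .o .o)))) .o) .o) (.n .k (.w (.p true (.n .a true (.n .e true (.n .g true
  (.n .h true .o .o) (.n .h true .o .o)) (.n .g true (.n .h true .o .o) (.n .h true .o .o))) (.n .e true (.n .g
  true (.n .h true .o .o) (.n .h true .o .o)) (.n .g true (.n .h true .o .o) (.n .h true .o .o)))) .o) .o) .o))
  .o))) (.n .i (.w (.p true (.n .a true (.n .e true (.n .g true (.n .h true .o .o) (.n .h true .o .o)) (.n .g true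
  .o (.n .h true .o .o))) (.n .e true (.n .g true (.n .h true .o .o) (.n .h true .o .o)) (.n .g true (.n .h true
  .o .o) .o))) .o) .o) (.n .j (.w (.p true (.n .a true (.n .e true (.n .g true (.n .h true .o .o) (.n .h true .o
  .o)) (.n .g true (.n .h true .o .o) (.n .h true .o .o))) (.n .e true (.n .g true (.n .h true .o .o) (.n .h true
  .o .o)) (.n .g true (.n .h true .o .o) .o))) .o) (.n .i (.w (.p true (.n .a true (.n .e true (.n .g true (.n .h
  true .o .o) (.n .h true .o .o)) (.n .g true (.n .h true .o .o) (.n .h true .o .o))) (.n .e true (.n .g true (.n
  .h true .o .o) (.n .h true .o .o)) (.n .g true (.n .h true .o .o) (.n .h true .o .o)))) .o) .o) (.n .k (.w (.p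
  true (.n .a true (.n .e true (.n .g true (.n .h true .o .o) (.n .h true .o .o)) (.n .g true (.n .h true .o .o)
  (.n .h true .o .o))) (.n .e true (.n .g true (.n .h true .o .o) (.n .h true .o .o)) (.n .g true (.n .h true .o
  .o) .o))) .o) .o) .o))) .o)))

def t0_1 : MF :=
  (.n .f (.n .i (.w (.p true (.n .a true (.n .e true (.n .g true (.n .h true .o .o) .o) (.n .g true .o (.n .h true
  .o .o))) (.n .e true (.n .g true (.n .h true .o .o) (.n .h true .o .o)) (.n .g true (.n .h true .o .o) (.n .h
  true .o .o)))) .o) (.n .k (.w (.p true (.n .a true (.n .e true (.n .g true (.n .h true .o .o) (.n .h true .o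
  .o)) (.n .g true (.n .h true .o .o) (.n .h true .o .o))) (.n .e true (.n .g true (.n .h true .o .o) (.n .h true
  .o .o)) (.n .g true (.n .h true .o .o) (.n .h true .o .o)))) .o) .o) .o)) (.n .j (.n .i (.w (.p true (.n .a true
  (.n .e true (.n .g true (.n .h true .o .o) (.n .h true .o .o)) (.n .g true (.n .h true .o .o) (.n .h true .o
  .o))) (.n .e true (.n .g true (.n .h true .o .o) (.n .h true .o .o)) (.n .g true (.n .h true .o .o) (.n .h true
  .o .o)))) .o) .o) (.n .k (.w (.p false (.n .a true (.n .e true (.n .h true .o .o) (.n .g true (.n .h true .o .o)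
  (.n .h true .o .o))) (.n .e true (.n .g true (.n .h true .o .o) (.n .h true .o .o)) (.n .g true (.n .h true .o
  .o) (.n .h true .o .o)))) .o) .o) .o)) (.n .k (.w (.p true (.n .a true (.n .e true (.n .g true (.n .h true .o
  .o) (.n .h true .o .o)) (.n .g true (.n .h true .o .o) (.n .h true .o .o))) (.n .e true (.n .g true (.n .h true
  .o .o) (.n .h true .o .o)) (.n .g true (.n .h true .o .o) (.n .h true .o .o)))) .o) .o) .o))) (.n .i (.w (.p
  true (.n .a true (.n .e true (.n .g false (.n .h true .o .o) (.n .h true .o .o)) (.n .g true (.n .h true .o .o)
  (.n .h true .o .o))) (.n .e true (.n .g true (.n .h true .o .o) (.n .h true .o .o)) (.n .g false (.n .h true .o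
  .o) (.n .h true .o .o)))) .o) (.n .k (.w (.p true (.n .a true (.n .e true (.n .g true (.n .h true .o .o) (.n .h
  true .o .o)) (.n .g true (.n .h true .o .o) (.n .h true .o .o))) (.n .e false (.n .g true (.n .h true .o .o) (.n
  .h true .o .o)) (.n .g true .o (.n .h true .o .o)))) .o) .o) .o)) (.n .j (.n .i (.n .k (.w (.p true (.n .a true
  (.n .e true (.n .g true (.n .h true .o .o) (.n .h true .o .o)) (.n .g true .o (.n .h true .o .o))) (.n .e true
  (.n .g true (.n .h true .o .o) (.n .h true .o .o)) (.n .g true (.n .h true .o .o) (.n .h true .o .o)))) .o) .o)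
  .o) (.n .k (.w (.p true (.n .a true (.n .e true (.n .g true (.n .h true .o .o) (.n .h true .o .o)) (.n .g true
  (.n .h true .o .o) (.n .h true .o .o))) (.n .e true (.n .g true (.n .h true .o .o) (.n .h true .o .o)) (.n .g
  true (.n .h true .o .o) .o))) .o) .o) .o)) (.n .k (.w (.p true (.n .a true (.n .e true (.n .g true (.n .h true
  .o .o) (.n .h true .o .o)) (.n .g true (.n .h true .o .o) (.n .h true .o .o))) (.n .e true (.n .g true (.n .h
  true .o .o) (.n .h true .o .o)) (.n .g true (.n .h true .o .o) (.n .h true .o .o)))) .o) .o) .o))))

def t0_2 : MF :=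
  (.w (.p true (.n .a true (.n .e true (.n .g false (.n .h true .o .o) (.n .h true .o .o)) (.n .g true (.n .h true
  .o .o) (.n .h true .o .o))) (.n .e true (.n .g true (.n .h true .o .o) (.n .h true .o .o)) (.n .g true (.n .h
  true .o .o) .o))) .o) (.n .i (.n .k (.w (.p true (.n .a true (.n .e true (.n .g true (.n .h true .o .o) (.n .h
  true .o .o)) (.n .g true (.n .h true .o .o) (.n .h true .o .o))) (.n .e true (.n .g true (.n .h true .o .o) (.n
  .h true .o .o)) (.n .g true (.n .h true .o .o) (.n .h true .o .o)))) .o) .o) .o) (.n .j (.w (.p true (.n .a true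
  (.n .e false (.n .g false (.n .h true .o .o) (.n .h true .o .o)) (.n .g true (.n .h true .o .o) (.n .h true .o
  .o))) (.n .e true (.n .g true (.n .h true .o .o) (.n .h true .o .o)) (.n .g true (.n .h true .o .o) (.n .h true
  .o .o)))) .o) (.n .i (.w (.p true (.n .a false (.n .e true (.n .g true .o (.n .h true .o .o)) (.n .g true (.n .h
  true .o .o) (.n .h true .o .o))) (.n .e true (.n .g true (.n .h true .o .o) (.n .h true .o .o)) (.n .g true (.n
  .h true .o .o) (.n .h true .o .o)))) .o) .o) (.n .k (.w (.p true (.n .a true (.n .e true (.n .g true (.n .h true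
  .o .o) (.n .h true .o .o)) (.n .g true (.n .h true .o .o) (.n .h true .o .o))) (.n .e true (.n .g true (.n .h
  true .o .o) (.n .h true .o .o)) (.n .g true (.n .h true .o .o) (.n .h true .o .o)))) .o) .o) .o))) (.n .k (.w
  (.p true (.n .a true (.n .e true (.n .g true (.n .h true .o .o) (.n .h true .o .o)) (.n .g true (.n .h true .o
  .o) (.n .h true .o .o))) (.n .e true (.n .g true (.n .h true .o .o) (.n .h true .o .o)) (.n .g true (.n .h true
  .o .o) (.n .h true .o .o)))) .o) .o) .o))))

def t0_3 : MF :=
  (.n .f (.n .i (.w (.p true (.n .a true (.n .e true (.n .g true (.n .h true .o .o) (.n .h true .o .o)) (.n .g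
  true (.n .h true .o .o) (.n .h true .o .o))) (.n .e true (.n .g true (.n .h true .o .o) (.n .h true .o .o)) (.n
  .g true (.n .h true .o .o) (.n .h true .o .o)))) .o) (.n .k (.w (.p true (.n .a true (.n .e true (.n .g true .o
  (.n .h true .o .o)) (.n .g true (.n .h true .o .o) .o)) (.n .e true (.n .g true (.n .h true .o .o) (.n .h true
  .o .o)) (.n .g true (.n .h true .o .o) (.n .h true .o .o)))) .o) .o) .o)) (.n .j (.w (.p true (.n .a true (.n .e
  true (.n .g true (.n .h true .o .o) (.n .h true .o .o)) (.n .g true .o (.n .h true .o .o))) (.n .e true (.n .g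
  true (.n .h true .o .o) (.n .h true .o .o)) (.n .g true .o .o))) .o) (.n .i (.w (.p false (.n .a true (.n .e
  true (.n .g true (.n .h true .o .o) (.n .h true .o .o)) (.n .g true (.n .h true .o .o) (.n .h true .o .o))) (.n
  .e true (.n .g true (.n .h true .o .o) (.n .h true .o .o)) (.n .g true (.n .h true .o .o) (.n .h true .o .o))))
  .o) (.n .k (.w (.p true (.n .a true (.n .e true (.n .g true (.n .h true .o .o) (.n .h true .o .o)) (.n .g true
  (.n .h true .o .o) (.n .h true .o .o))) (.n .e true (.n .g true .o (.n .h true .o .o)) (.n .g false (.n .h true
  .o .o) (.n .h true .o .o)))) .o) .o) .o)) .o)) .o)) (.n .i (.w (.p true (.n .a true (.n .e true (.n .g true (.n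
  .h true .o .o) (.n .h true .o .o)) (.n .g true (.n .h true .o .o) (.n .h true .o .o))) (.n .e true (.n .g true
  .o (.n .h true .o .o)) (.n .g true (.n .h true .o .o) (.n .h true .o .o)))) .o) (.n .k (.w (.p true (.n .a true
  (.n .e true (.n .g true (.n .h true .o .o) (.n .h true .o .o)) (.n .g true (.n .h true .o .o) (.n .h true .o
  .o))) (.n .e true (.n .g true (.n .h true .o .o) (.n .h true .o .o)) (.n .g true (.n .h true .o .o) (.n .h true
  .o .o)))) .o) .o) .o)) .o))

def t0_4 : MF :=
  (.n .d (.n .f (.n .j (.n .k (.w (.p true (.n .a true (.n .e true (.n .g true (.n .h true .o .o) (.n .h true .o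
  .o)) (.n .g true (.n .h true .o .o) (.n .h true .o .o))) (.n .e true (.n .g true (.n .h true .o .o) (.n .h true
  .o .o)) (.n .g true (.n .h true .o .o) (.n .h true .o .o)))) .o) .o) .o) (.n .k (.w (.p false (.n .a true (.n .e
  true (.n .g true (.n .h true .o .o) (.n .h true .o .o)) (.n .g false (.n .h true .o .o) (.n .h true .o .o))) (.n
  .e true (.n .g true (.n .h true .o .o) (.n .h true .o .o)) (.n .g true (.n .h true .o .o) (.n .h true .o .o))))
  .o) .o) .o)) (.n .j (.n .i (.w (.p true (.n .a false (.n .e true (.n .g true (.n .h true .o .o) (.n .h true .o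
  .o)) (.n .g true (.n .h true .o .o) .o)) (.n .e true (.n .g true (.n .h true .o .o) (.n .h true .o .o)) (.n .g
  true (.n .h true .o .o) (.n .h true .o .o)))) .o) .o) .o) (.n .k (.w (.p true (.n .a true (.n .e true (.n .g
  true (.n .h true .o .o) (.n .h true .o .o)) (.n .g true .o (.n .h true .o .o))) (.n .e true (.n .g false (.n .h
  true .o .o) (.n .h true .o .o)) (.n .g true (.n .h true .o .o) (.n .h true .o .o)))) .o) .o) .o))) (.n .f (.w
  (.p true (.n .a true (.n .e true (.n .g true (.n .h true .o .o) (.n .h true .o .o)) (.n .g true (.n .h true .o
  .o) (.n .h true .o .o))) (.n .e false (.n .g true (.n .h true .o .o) (.n .h true .o .o)) (.n .g false (.n .h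
  true .o .o) (.n .h true .o .o)))) .o) (.n .i (.w (.p true (.n .a true (.n .e true (.n .g true (.n .h true .o .o)
  (.n .h true .o .o)) (.n .g true (.n .h true .o .o) (.n .h true .o .o))) (.n .e true (.n .g true (.n .h true .o
  .o) (.n .h true .o .o)) (.n .g true (.n .h true .o .o) (.n .h true .o .o)))) .o) .o) (.n .j (.w (.p true (.n .a
  true (.n .e true (.n .g true (.n .h true .o .o) (.n .h true .o .o)) (.n .g true (.n .h true .o .o) (.n .h true
  .o .o))) (.n .e true (.n .g true (.n .h true .o .o) (.n .h true .o .o)) (.n .g true (.n .h true .o .o) (.n .h
  true .o .o)))) .o) (.n .i (.w (.p true (.n .a true (.n .e false (.n .g true (.n .h true .o .o) (.n .h true .o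
  .o)) (.n .g false (.n .h true .o .o) (.n .h true .o .o))) (.n .e true (.n .g true (.n .h true .o .o) (.n .h true
  .o .o)) (.n .g true .o (.n .h true .o .o)))) .o) .o) .o)) .o))) (.n .i (.n .k (.w (.p true (.n .a true (.n .e
  true (.n .g true (.n .h true .o .o) (.n .h true .o .o)) (.n .g true (.n .h true .o .o) (.n .h true .o .o))) (.n
  .e true (.n .g true .o (.n .h true .o .o)) (.n .g true (.n .h true .o .o) (.n .h true .o .o)))) .o) .o) .o)
  .o)))

def t0_5 : MF :=
  (.n .d (.n .f (.w (.p true (.n .a false (.n .e true (.n .g true (.n .h true .o .o) (.n .h true .o .o)) (.n .g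
  true (.n .h true .o .o) (.n .h true .o .o))) (.n .e true (.n .g true (.n .h true .o .o) (.n .h true .o .o)) (.n
  .g false (.n .h true .o .o) (.n .h true .o .o)))) .o) (.n .i (.w (.p true (.n .a true (.n .e true (.n .g true
  (.n .h true .o .o) (.n .h true .o .o)) (.n .g true (.n .h true .o .o) (.n .h true .o .o))) (.n .e true (.n .g
  true (.n .h true .o .o) (.n .h true .o .o)) (.n .g true (.n .h true .o .o) (.n .h true .o .o)))) .o) .o) (.n .j
  (.n .i (.w (.p true (.n .a true (.n .e true (.n .g true (.n .h true .o .o) (.n .h true .o .o)) (.n .g true (.n
  .h true .o .o) (.n .h true .o .o))) (.n .e true (.n .g true (.n .h true .o .o) (.n .h true .o .o)) (.n .g true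
  (.n .h true .o .o) (.n .h true .o .o)))) .o) (.n .k (.w (.p true (.n .a true (.n .e true (.n .g true (.n .h true
  .o .o) (.n .h true .o .o)) (.n .g true (.n .h true .o .o) (.n .h true .o .o))) (.n .e true (.n .g true (.n .h
  true .o .o) (.n .h true .o .o)) (.n .g true (.n .h true .o .o) .o))) .o) .o) .o)) .o) .o))) (.n .j (.n .i (.w
  (.p false (.n .a true (.n .e true (.n .g false (.n .h true .o .o) (.n .h true .o .o)) (.n .g true (.n .h true .o
  .o) (.n .h true .o .o))) (.n .e true (.n .g true (.n .h true .o .o) (.n .h true .o .o)) (.n .g true (.n .h true
  .o .o) (.n .h true .o .o)))) .o) .o) .o) .o)) (.n .f (.n .j (.w (.p true (.n .a true (.n .e true (.n .g true (.n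
  .h true .o .o) (.n .h true .o .o)) (.n .g true (.n .h true .o .o) (.n .h true .o .o))) (.n .e true (.n .g true
  (.n .h true .o .o) (.n .h true .o .o)) (.n .g true (.n .h true .o .o) .o))) .o) (.n .i (.w (.p false (.n .a true
  (.n .e true (.n .g true (.n .h true .o .o) (.n .h true .o .o)) (.n .g true (.n .h true .o .o) (.n .h true .o
  .o))) (.n .e true (.n .g true (.n .h true .o .o) .o) (.n .g true (.n .h true .o .o) (.n .h true .o .o)))) .o)
  .o) .o)) .o) (.n .j (.w (.p true (.n .a true (.n .e true (.n .g true (.n .h true .o .o) .o) (.n .g true (.n .h
  true .o .o) (.n .h true .o .o))) (.n .e true (.n .g true (.n .h true .o .o) (.n .h true .o .o)) (.n .g true (.n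
  .h true .o .o) (.n .h true .o .o)))) .o) .o) .o)))

def t0_6 : MF :=
  (.n .i (.n .k (.w (.p true (.n .a true (.n .e true (.n .g true (.n .h true .o .o) (.n .h true .o .o)) (.n .g
  true (.n .h true .o .o) (.n .h true .o .o))) (.n .e true (.n .g true (.n .h true .o .o) (.n .h true .o .o)) (.n
  .g true (.n .h true .o .o) (.n .h true .o .o)))) .o) .o) .o) (.n .j (.w (.p true (.n .a true (.n .e true (.n .g
  true (.n .h true .o .o) (.n .h true .o .o)) (.n .g true (.n .h true .o .o) (.n .h true .o .o))) (.n .e true (.n
  .g true (.n .h true .o .o) (.n .h true .o .o)) (.n .g true (.n .h true .o .o) (.n .h true .o .o)))) .o) (.n .i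
  (.w (.p true (.n .a true (.n .e true (.n .g true (.n .h true .o .o) (.n .h true .o .o)) (.n .g true (.n .h true
  .o .o) (.n .h true .o .o))) (.n .e true (.n .g true (.n .h true .o .o) (.n .h true .o .o)) (.n .g true (.n .h
  true .o .o) (.n .h true .o .o)))) .o) (.n .k (.w (.p true (.n .a true (.n .e false (.n .g true (.n .h true .o
  .o) (.n .h true .o .o)) (.n .g true (.n .h true .o .o) (.n .h true .o .o))) (.n .e true (.n .g false (.n .h true
  .o .o) (.n .h true .o .o)) (.n .g true (.n .h true .o .o) (.n .h true .o .o)))) .o) .o) .o)) (.n .k (.w (.p true
  (.n .a true (.n .e true (.n .g true (.n .h true .o .o) (.n .h true .o .o)) (.n .g true (.n .h true .o .o) (.n .h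
  true .o .o))) (.n .e true (.n .g true (.n .h true .o .o) (.n .h true .o .o)) (.n .g true (.n .h true .o .o) (.n
  .h true .o .o)))) .o) .o) .o))) (.n .k (.w (.p true (.n .a true (.n .e true (.n .g true (.n .h true .o .o) (.n
  .h true .o .o)) (.n .g true (.n .h true .o .o) (.n .h true .o .o))) (.n .e true (.n .g true (.n .h true .o .o)
  (.n .h true .o .o)) (.n .g true (.n .h true .o .o) (.n .h true .o .o)))) .o) .o) .o)))

def t0_7 : MF :=
  (.n .f (.n .i (.w (.p true (.n .a true (.n .e true (.n .g true (.n .h true .o .o) .o) (.n .g true (.n .h true .o
  .o) (.n .h true .o .o))) (.n .e false (.n .g true (.n .h true .o .o) (.n .h true .o .o)) (.n .g true (.n .h true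
  .o .o) (.n .h true .o .o)))) .o) (.n .k (.w (.p true (.n .a true (.n .e true (.n .g true (.n .h true .o .o) (.n
  .h true .o .o)) (.n .g true (.n .h true .o .o) (.n .h true .o .o))) (.n .e true (.n .g true (.n .h true .o .o)
  (.n .h true .o .o)) (.n .g true (.n .h true .o .o) (.n .h true .o .o)))) (.n .c (.n .e (.n .l (.w (.n .b t0_5
  t0_4) .o) .o) .o) .o)) .o) .o)) (.n .j (.n .i (.w (.p true (.n .a true (.n .e true (.n .g true (.n .h true .o
  .o) (.n .h true .o .o)) (.n .g true (.n .h true .o .o) (.n .h true .o .o))) (.n .e true (.n .g true (.n .h true
  .o .o) (.n .h true .o .o)) (.n .g true (.n .h true .o .o) (.n .h true .o .o)))) .o) .o) .o) (.n .k (.w (.p true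
  (.n .a true (.n .e true (.n .g true (.n .h true .o .o) (.n .h true .o .o)) (.n .g true (.n .h true .o .o) (.n .h
  true .o .o))) (.n .e true (.n .g false (.n .h true .o .o) (.n .h true .o .o)) (.n .g true .o (.n .h true .o
  .o)))) .o) .o) .o))) (.n .i (.w (.p true (.n .a true (.n .e true (.n .g true (.n .h true .o .o) (.n .h true .o
  .o)) (.n .g true (.n .h true .o .o) (.n .h true .o .o))) (.n .e true (.n .g true (.n .h true .o .o) (.n .h true
  .o .o)) (.n .g true (.n .h true .o .o) (.n .h true .o .o)))) .o) (.n .k (.w (.p true (.n .a true (.n .e true (.n
  .g true (.n .h true .o .o) (.n .h true .o .o)) (.n .g false (.n .h true .o .o) (.n .h true .o .o))) (.n .e true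
  (.n .g true (.n .h true .o .o) (.n .h true .o .o)) (.n .g true .o (.n .h true .o .o)))) .o) .o) .o)) (.n .j (.w
  (.p true (.n .a true (.n .e true (.n .g true (.n .h true .o .o) (.n .h true .o .o)) (.n .g true (.n .h true .o
  .o) (.n .h true .o .o))) (.n .e true (.n .g true (.n .h true .o .o) (.n .h true .o .o)) (.n .g true (.n .h true
  .o .o) (.n .h true .o .o)))) .o) (.n .k (.w (.p true (.n .a true (.n .e true (.n .g false (.n .h true .o .o) (.n
  .h true .o .o)) (.n .g true (.n .h true .o .o) (.n .h true .o .o))) (.n .e true (.n .g true (.n .h true .o .o)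
  .o) (.n .g true (.n .h true .o .o) (.n .h true .o .o)))) .o) .o) .o)) (.n .k (.w (.p true (.n .a false (.n .e
  true (.n .g true (.n .h true .o .o) (.n .h true .o .o)) (.n .g true (.n .h true .o .o) (.n .h true .o .o))) (.n
  .e true (.n .g true (.n .h true .o .o) (.n .h true .o .o)) (.n .g true (.n .h true .o .o) (.n .h true .o .o))))
  .o) .o) .o))))

def t0_8 : MF :=
  (.n .i (.w (.p false (.n .a true (.n .e true (.n .g true (.n .h true .o .o) (.n .h true .o .o)) (.n .g true (.n
  .h true .o .o) (.n .h true .o .o))) (.n .e true (.n .g true (.n .h true .o .o) (.n .h true .o .o)) (.n .g true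
  .o (.n .h true .o .o)))) .o) (.n .k (.w (.p false (.n .a true (.n .e true (.n .g true (.n .h true .o .o) (.n .h
  true .o .o)) (.n .g true (.n .h true .o .o) (.n .h true .o .o))) (.n .e true (.n .g true (.n .h true .o .o) (.n
  .h true .o .o)) (.n .h true .o .o))) .o) .o) .o)) (.n .j (.w (.p true (.n .a true (.n .e true (.n .g true (.n .h
  true .o .o) (.n .h true .o .o)) (.n .g true (.n .h true .o .o) (.n .h true .o .o))) (.n .e true (.n .g true (.n
  .h true .o .o) (.n .h true .o .o)) (.n .g true (.n .h true .o .o) (.n .h true .o .o)))) .o) (.n .i (.w (.p true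
  (.n .a true (.n .e true (.n .g false (.n .h true .o .o) (.n .h true .o .o)) (.n .g true (.n .h true .o .o) (.n
  .h true .o .o))) (.n .e false (.n .g true (.n .h true .o .o) (.n .h true .o .o)) (.n .g true (.n .h true .o .o)
  (.n .h true .o .o)))) .o) (.n .k (.w (.p true (.n .a true (.n .e true (.n .g true (.n .h true .o .o) (.n .h true
  .o .o)) (.n .g true (.n .h true .o .o) (.n .h true .o .o))) (.n .e true (.n .g true (.n .h true .o .o) (.n .h
  true .o .o)) (.n .g true (.n .h true .o .o) (.n .h true .o .o)))) .o) .o) .o)) (.n .k (.w (.p true (.n .a true
  (.n .e true (.n .g true (.n .h true .o .o) (.n .h true .o .o)) (.n .g true (.n .h true .o .o) (.n .h true .o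
  .o))) (.n .e true (.n .g true (.n .h true .o .o) (.n .h true .o .o)) (.n .g true (.n .h true .o .o) (.n .h true
  .o .o)))) .o) .o) .o))) .o))

def t0_9 : MF :=
  (.n .i (.w (.p true (.n .a true (.n .e true (.n .g true (.n .h true .o .o) (.n .h true .o .o)) (.n .g true (.n
  .h true .o .o) (.n .h true .o .o))) (.n .e true (.n .g true (.n .h true .o .o) (.n .h true .o .o)) (.n .g true
  (.n .h true .o .o) (.n .h true .o .o)))) .o) (.n .k (.w (.p true (.n .a true (.n .e true (.n .g true (.n .h true
  .o .o) (.n .h true .o .o)) (.n .g false (.n .h true .o .o) (.n .h true .o .o))) (.n .e true (.n .g true (.n .h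
  true .o .o) (.n .h true .o .o)) (.n .g true (.n .h true .o .o) (.n .h true .o .o)))) .o) .o) .o)) (.n .j (.w (.p
  true (.n .a true (.n .e true (.n .g true (.n .h true .o .o) (.n .h true .o .o)) (.n .g true (.n .h true .o .o)
  (.n .h true .o .o))) (.n .e true (.n .g true (.n .h true .o .o) (.n .h true .o .o)) (.n .g true (.n .h true .o
  .o) (.n .h true .o .o)))) .o) (.n .i (.w (.p true (.n .a true (.n .e true (.n .g true (.n .h true .o .o) (.n .h
  true .o .o)) (.n .g true (.n .h true .o .o) (.n .h true .o .o))) (.n .e true (.n .g true (.n .h true .o .o) (.n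
  .h true .o .o)) (.n .g true (.n .h true .o .o) (.n .h true .o .o)))) .o) .o) (.n .k (.w (.p true (.n .a true (.n
  .e true (.n .g true (.n .h true .o .o) (.n .h true .o .o)) (.n .g true (.n .h true .o .o) (.n .h true .o .o)))
  (.n .e true (.n .g true (.n .h true .o .o) (.n .h true .o .o)) (.n .g true (.n .h true .o .o) (.n .h true .o
  .o)))) .o) .o) .o))) (.n .k (.w (.p true (.n .a true (.n .e true (.n .g true (.n .h true .o .o) (.n .h true .o
  .o)) (.n .g true (.n .h true .o .o) (.n .h true .o .o))) (.n .e true (.n .g true (.n .h true .o .o) (.n .h true
  .o .o)) (.n .g true (.n .h true .o .o) (.n .h true .o .o)))) .o) .o) .o)))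

def t0_10 : MF :=
  (.n .f (.w (.p true (.n .a true (.n .e true (.n .g true (.n .h true .o .o) (.n .h true .o .o)) (.n .g true (.n
  .h true .o .o) (.n .h true .o .o))) (.n .e true (.n .g true (.n .h true .o .o) (.n .h true .o .o)) (.n .g true
  .o (.n .h true .o .o)))) .o) t0_8) (.n .i (.n .k (.w (.p true (.n .a true (.n .e true (.n .g true (.n .h true .o
  .o) (.n .h true .o .o)) (.n .g true (.n .h true .o .o) (.n .h true .o .o))) (.n .e true (.n .g true (.n .h true
  .o .o) (.n .h true .o .o)) (.n .g true (.n .h true .o .o) (.n .h true .o .o)))) .o) .o) .o) (.n .j (.w (.p true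
  (.n .a true (.n .e true (.n .g true .o (.n .h true .o .o)) (.n .g true .o (.n .h true .o .o))) (.n .e true (.n
  .g true (.n .h true .o .o) (.n .h true .o .o)) (.n .g true (.n .h true .o .o) (.n .h true .o .o)))) .o) (.n .i
  (.w (.p true (.n .a true (.n .e true (.n .g true (.n .h true .o .o) .o) (.n .g true (.n .h true .o .o) (.n .h
  true .o .o))) (.n .e true (.n .g true (.n .h true .o .o) (.n .h true .o .o)) (.n .g true (.n .h true .o .o) (.n
  .h true .o .o)))) .o) (.n .k (.w (.p true (.n .a true (.n .e true (.n .g false (.n .h true .o .o) (.n .h true .o
  .o)) (.n .g true (.n .h true .o .o) (.n .h true .o .o))) (.n .e true (.n .g true (.n .h true .o .o) (.n .h true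
  .o .o)) (.n .g true (.n .h true .o .o) (.n .h true .o .o)))) .o) .o) .o)) .o)) (.n .k (.w (.p true (.n .a true
  (.n .e true (.n .g true (.n .h true .o .o) (.n .h true .o .o)) (.n .g true (.n .h true .o .o) (.n .h true .o
  .o))) (.n .e true (.n .g true (.n .h true .o .o) (.n .h true .o .o)) (.n .g true (.n .h true .o .o) (.n .h true
  .o .o)))) .o) .o) .o))))

def t0_11 : MF :=
  (.n .f (.w (.p true (.n .a true (.n .e true (.n .g true (.n .h true .o .o) (.n .h true .o .o)) (.n .g true (.n
  .h true .o .o) (.n .h true .o .o))) (.n .e true (.n .g true (.n .h true .o .o) (.n .h true .o .o)) (.n .g true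
  (.n .h true .o .o) (.n .h true .o .o)))) .o) t0_9) (.n .i (.n .k (.w (.p true (.n .a true (.n .e true (.n .g
  true (.n .h true .o .o) (.n .h true .o .o)) (.n .g true (.n .h true .o .o) (.n .h true .o .o))) (.n .e true (.n
  .g true (.n .h true .o .o) (.n .h true .o .o)) (.n .g true (.n .h true .o .o) (.n .h true .o .o)))) .o) .o) .o)
  (.n .j (.w (.p true (.n .a true (.n .e true (.n .g true (.n .h true .o .o) (.n .h true .o .o)) (.n .g true (.n
  .h true .o .o) (.n .h true .o .o))) (.n .e true (.n .g true (.n .h true .o .o) (.n .h true .o .o)) (.n .g true
  (.n .h true .o .o) (.n .h true .o .o)))) .o) (.n .i (.w (.p true (.n .a false (.n .e true (.n .g true (.n .h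
  true .o .o) (.n .h true .o .o)) (.n .g true (.n .h true .o .o) (.n .h true .o .o))) (.n .e true (.n .g false (.n
  .h true .o .o) (.n .h true .o .o)) (.n .g true (.n .h true .o .o) (.n .h true .o .o)))) .o) (.n .k (.w (.p true
  (.n .a true (.n .e true (.n .g true (.n .h true .o .o) (.n .h true .o .o)) (.n .g false (.n .h true .o .o) (.n
  .h true .o .o))) (.n .e true (.n .g true (.n .h true .o .o) (.n .h true .o .o)) (.n .g false (.n .h true .o .o)
  (.n .h true .o .o)))) .o) .o) .o)) (.n .k (.w (.p true (.n .a true (.n .e true (.n .g true (.n .h true .o .o)
  (.n .h true .o .o)) (.n .g true (.n .h true .o .o) (.n .h true .o .o))) (.n .e true (.n .g true (.n .h true .o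
  .o) (.n .h true .o .o)) (.n .g true (.n .h true .o .o) (.n .h true .o .o)))) .o) .o) .o))) .o)))

def t0_12 : MF :=
  (.n .b (.w (.p true (.n .a true (.n .e true (.n .g true (.n .h true .o .o) (.n .h true .o .o)) (.n .g true (.n
  .h true .o .o) (.n .h true .o .o))) (.n .e true (.n .g true (.n .h true .o .o) (.n .h true .o .o)) (.n .g true
  (.n .h true .o .o) (.n .h true .o .o)))) (.n .a (.n .g (.n .h (.w (.n .b (.n .d (.w (.p false (.n .a true (.n .e
  true (.n .g true (.n .h true .o .o) (.n .h true .o .o)) (.n .g true (.n .h true .o .o) (.n .h true .o .o))) (.n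
  .e true (.n .g true (.n .h true .o .o) (.n .h true .o .o)) (.n .h true .o .o))) .o) (.n .f t0_2 (.n .j (.n .k
  (.w (.p true (.n .a true (.n .e true (.n .g true .o (.n .h true .o .o)) (.n .g true (.n .h true .o .o) .o)) (.n
  .e true (.n .g true (.n .h true .o .o) (.n .h true .o .o)) (.n .g true (.n .h true .o .o) .o))) .o) .o) .o) (.n
  .k (.w (.p false (.n .a true (.n .e true (.n .g true (.n .h true .o .o) (.n .h true .o .o)) (.n .g false (.n .h
  true .o .o) .o)) (.n .e true (.n .g true (.n .h true .o .o) (.n .h true .o .o)) (.n .g true (.n .h true .o .o)
  (.n .h true .o .o)))) .o) .o) .o)))) t0_3) (.n .d (.w (.p true (.n .a true (.n .e true (.n .g true (.n .h true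
  .o .o) (.n .h true .o .o)) (.n .g true (.n .h true .o .o) (.n .h true .o .o))) (.n .e true (.n .g true (.n .h
  true .o .o) (.n .h true .o .o)) (.n .g true (.n .h true .o .o) (.n .h true .o .o)))) .o) t0_0) t0_1)) .o) .o)
  .o) .o)) (.n .d t0_11 t0_10)) (.n .d (.w (.p true (.n .a false (.n .e true (.n .g true (.n .h true .o .o) (.n .h
  true .o .o)) (.n .g false (.n .h true .o .o) (.n .h true .o .o))) (.n .e true (.n .g true (.n .h true .o .o) (.n
  .h true .o .o)) (.n .g true .o (.n .h true .o .o)))) .o) (.n .f (.w (.p true (.n .a false (.n .e true (.n .g
  true (.n .h true .o .o) (.n .h true .o .o)) (.n .g true (.n .h true .o .o) (.n .h true .o .o))) (.n .e true (.n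
  .g true (.n .h true .o .o) (.n .h true .o .o)) (.n .g true .o (.n .h true .o .o)))) .o) t0_6) (.n .i (.w (.p
  true (.n .a false (.n .e true (.n .g true (.n .h true .o .o) (.n .h true .o .o)) (.n .g true (.n .h true .o .o)
  (.n .h true .o .o))) (.n .e true (.n .g true (.n .h true .o .o) (.n .h true .o .o)) (.n .g true (.n .h true .o
  .o) (.n .h true .o .o)))) .o) .o) (.n .j (.w (.p true (.n .a true (.n .e true (.n .g true (.n .h true .o .o) (.n
  .h true .o .o)) (.n .g true (.n .h true .o .o) (.n .h true .o .o))) (.n .e true (.n .g true (.n .h true .o .o)
  (.n .h true .o .o)) (.n .g true (.n .h true .o .o) (.n .h true .o .o)))) .o) (.n .i (.n .k (.w (.p true (.n .a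
  true (.n .e true (.n .g true (.n .h true .o .o) (.n .h true .o .o)) (.n .g true (.n .h true .o .o) (.n .h true
  .o .o))) (.n .e true (.n .g true (.n .h true .o .o) (.n .h true .o .o)) (.n .g true (.n .h true .o .o) (.n .h
  true .o .o)))) .o) .o) .o) .o)) .o)))) t0_7))

def t0_T : MF :=
  (.p true (.n .a true (.n .e true (.n .g true (.n .h true .o .o) (.n .h true .o .o)) (.n .g true (.n .h true .o
  .o) (.n .h true .o .o))) (.n .e true (.n .g true (.n .h true .o .o) (.n .h true .o .o)) (.n .g true (.n .h true
  .o .o) (.n .h true .o .o)))) (.n .h (.w t0_12 .o) .o))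

def l0 : List ℕ :=
  [84704, 84705, 84708, 84709, 84712, 84713, 84716, 84717, 84720, 84721, 84724, 84725, 84728, 84729, 84732, 84733,
  38914, 38915, 38918, 38919, 38922, 38923, 38926, 38927, 38930, 38931, 38934, 38935, 38938, 38939, 38942, 38943,
  40034, 40035, 40038, 40039, 40042, 40043, 40046, 40047, 40050, 40051, 40054, 40055, 40058, 40059, 40062, 40063,
  40482, 40483, 40486, 40487, 40490, 40491, 40494, 40495, 40498, 40499, 40502, 40503, 40506, 40507, 40510, 40511,
  42242, 42243, 42246, 42247, 42250, 42251, 42254, 42255, 42258, 42259, 42262, 42263, 42266, 42267, 42270, 42271,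
  44002, 44003, 44006, 44007, 44010, 44011, 44014, 44015, 44018, 44019, 44022, 44023, 44026, 44027, 44030, 44031,
  46114, 46115, 46118, 46119, 46122, 46123, 46126, 46127, 46130, 46131, 46134, 46135, 46138, 46139, 46142, 46143,
  46240, 46241, 46244, 46245, 46248, 46249, 46252, 46253, 46256, 46257, 46260, 46261, 46264, 46265, 46268, 46269,
  49666, 49667, 49670, 49671, 49674, 49675, 49678, 49679, 49682, 49683, 49686, 49687, 49690, 49691, 49694, 49695,
  50146, 50147, 50150, 50151, 50154, 50155, 50158, 50159, 50162, 50163, 50166, 50167, 50170, 50171, 50174, 50175,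
  52258, 52259, 52262, 52263, 52266, 52267, 52270, 52271, 52274, 52275, 52278, 52279, 52282, 52283, 52286, 52287,
  54626, 54627, 54630, 54631, 54634, 54635, 54638, 54639, 54642, 54643, 54646, 54647, 54650, 54651, 54654, 54655,
  55520, 55521, 55524, 55525, 55528, 55529, 55532, 55533, 55536, 55537, 55540, 55541, 55544, 55545, 55548, 55549,
  57250, 57251, 57254, 57255, 57258, 57259, 57262, 57263, 57266, 57267, 57270, 57271, 57274, 57275, 57278, 57279,
  58114, 58115, 58118, 58119, 58122, 58123, 58126, 58127, 58130, 58131, 58134, 58135, 58138, 58139, 58142, 58143,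
  62688, 62689, 62692, 62693, 62696, 62697, 62700, 62701, 62704, 62705, 62708, 62709, 62712, 62713, 62716, 62717,
  9376, 9377, 9380, 9381, 9384, 9385, 9388, 9389, 9392, 9393, 9396, 9397, 9400, 9401, 9404, 9405, 9730, 9731,
  9734, 9735, 9738, 9739, 9742, 9743, 9746, 9747, 9750, 9751, 9754, 9755, 9758, 9759, 14274, 14275, 14278, 14279,
  14282, 14283, 14286, 14287, 14290, 14291, 14294, 14295, 14298, 14299, 14302, 14303, 15138, 15139, 15142, 15143,
  15146, 15147, 15150, 15151, 15154, 15155, 15158, 15159, 15162, 15163, 15166, 15167, 16032, 16033, 16036, 16037,
  16040, 16041, 16044, 16045, 16048, 16049, 16052, 16053, 16056, 16057, 16060, 16061, 16386, 16387, 16390, 16391,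
  16394, 16395, 16398, 16399, 16402, 16403, 16406, 16407, 16410, 16411, 16414, 16415, 17920, 17921, 17924, 17925,
  17928, 17929, 17932, 17933, 17936, 17937, 17940, 17941, 17944, 17945, 17948, 17949, 19040, 19041, 19044, 19045,
  19048, 19049, 19052, 19053, 19056, 19057, 19060, 19061, 19064, 19065, 19068, 19069, 21600, 21601, 21604, 21605,
  21608, 21609, 21612, 21613, 21616, 21617, 21620, 21621, 21624, 21625, 21628, 21629, 59074, 59075, 59078, 59079,
  59082, 59083, 59086, 59087, 59090, 59091, 59094, 59095, 59098, 59099, 59102, 59103, 61088, 61089, 61092, 61093,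
  61096, 61097, 61100, 61101, 61104, 61105, 61108, 61109, 61112, 61113, 61116, 61117, 248096, 248097, 248100,
  248101, 248104, 248105, 248108, 248109, 248112, 248113, 248116, 248117, 248120, 248121, 248124, 248125, 250274,
  250275, 250278, 250279, 250282, 250283, 250286, 250287, 250290, 250291, 250294, 250295, 250298, 250299, 250302,
  250303, 251296, 251297, 251300, 251301, 251304, 251305, 251308, 251309, 251312, 251313, 251316, 251317, 251320,
  251321, 251324, 251325, 9858, 9862, 9863, 9866, 9867, 9870, 9871, 9874, 9875, 9878, 9879, 9882, 9883, 9886,
  9887, 19523, 19526, 19527, 19530, 19531, 19534, 19535, 19538, 19539, 19542, 19543, 19546, 19547, 19550, 19551,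
  21920, 21921, 21924, 21925, 21928, 21929, 21932, 21933, 21936, 21937, 21940, 21941, 21945, 21948, 21949, 62880,
  62881, 62884, 62885, 62889, 62892, 62893, 62896, 62897, 62900, 62901, 62904, 62905, 62908, 62909, 94880, 94881,
  94884, 94885, 94888, 94889, 94892, 94893, 94896, 94897, 94900, 94901, 94904, 94905, 94909, 250913, 250916,
  250917, 250920, 250921, 250924, 250925, 250928, 250929, 250932, 250933, 250936, 250937, 250940, 250941, 17760,
  17769, 17764, 17765, 17768, 17772, 17773, 17776, 17777, 17780, 17784, 17785, 17788, 17789, 18720, 18721, 18724,
  18725, 18728, 18729, 18732, 18733, 18736, 18740, 18741, 18744, 18745, 18748, 21984, 21985, 21989, 21992, 21993,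
  21996, 21997, 22000, 22001, 22004, 22005, 22009, 22012, 22013, 40418, 40419, 40422, 40423, 40426, 40427, 40430,
  40431, 40434, 40438, 40439, 40442, 40446, 40447, 42594, 42598, 42599, 42602, 42603, 42606, 42607, 42610, 42611,
  42614, 42615, 42618, 42619, 42622, 43938, 43939, 43942, 43943, 43946, 43947, 43951, 43954, 43958, 43959, 43962,
  43963, 43966, 43967, 55392, 55393, 55396, 55397, 55400, 55401, 55404, 55405, 55408, 55409, 55412, 55416, 55420,
  55421, 85472, 85473, 85476, 85477, 85481, 85484, 85488, 85489, 85492, 85493, 85496, 85497, 85500, 85501, 249056,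
  249060, 249061, 249064, 249065, 249068, 249069, 249080, 249073, 249076, 249077, 249081, 249084, 249085, 249442,
  249443, 249446, 249447, 249450, 249451, 249455, 249459, 249462, 249463, 249466, 249467, 249470, 249471, 251488,
  251489, 251492, 251493, 251496, 251497, 251500, 251501, 251505, 251508, 251509, 251512, 251516, 251517, 16006,
  16007, 16010, 16011, 16015, 16018, 16019, 16022, 16023, 16026, 16027, 16030, 16031, 16482, 16486, 16487, 16490,
  16491, 16494, 16495, 16498, 16502, 16503, 16506, 16507, 16511, 16803, 16806, 16807, 16810, 16811, 16814, 16815,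
  16818, 16822, 16823, 16827, 16830, 16831, 57120, 57121, 57124, 57125, 57128, 57129, 57132, 57133, 57140, 57141,
  57145, 57148, 57149, 57186, 57187, 57190, 57191, 57195, 57198, 57199, 57203, 57206, 57207, 57211, 57214, 57215,
  62752, 62753, 62756, 62757, 62760, 62761, 62764, 62765, 62768, 62769, 62772, 62773, 62776, 62777, 62780, 62781,
  66464, 66465, 66468, 66469, 66472, 66473, 66476, 66477, 66480, 66481, 66484, 66485, 66488, 66489, 66492, 66493,
  67008, 67009, 67012, 67013, 67016, 67017, 67020, 67021, 67024, 67025, 67028, 67029, 67032, 67033, 67036, 67037,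
  67840, 67841, 67844, 67845, 67848, 67849, 67852, 67853, 67856, 67857, 67860, 67861, 67864, 67865, 67868, 67869,
  90914, 90915, 90918, 90919, 90922, 90923, 90926, 90927, 90930, 90931, 90934, 90935, 90938, 90939, 90942, 90943,
  115010, 115011, 115014, 115015, 115018, 115019, 115022, 115023, 115026, 115027, 115030, 115031, 115034, 115035,
  115038, 115039, 129570, 129571, 129574, 129575, 129578, 129579, 129582, 129583, 129586, 129587, 129590, 129591,
  129594, 129595, 129598, 129599, 254240, 254241, 254244, 254245, 254248, 254249, 254252, 254253, 254256, 254257,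
  254260, 254261, 254264, 254265, 254268, 254269, 254818, 254819, 254822, 254823, 254826, 254827, 254830, 254831,
  254834, 254835, 254838, 254839, 254842, 254843, 254846, 254847, 81794, 81795, 81798, 81799, 81802, 81803, 81806,
  81807, 81810, 81811, 81814, 81815, 81819, 81822, 81823, 84194, 84195, 84198, 84199, 84202, 84203, 84206, 84207,
  84211, 84214, 84215, 84218, 84219, 84222, 84223, 125122, 125123, 125126, 125127, 125130, 125131, 125134, 125135,
  125138, 125142, 125143, 125146, 125147, 125150, 125151, 254976, 254977, 254980, 254981, 254984, 254988, 254989,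
  254992, 254993, 254996, 254997, 255000, 255001, 255004, 255005, 80066, 80070, 80071, 80074, 80075, 80078, 80079,
  80082, 80083, 80087, 80090, 80091, 80094, 80095, 86402, 86403, 86406, 86407, 86411, 86414, 86415, 86418, 86419,
  86422, 86423, 86427, 86430, 86431, 104866, 104867, 104870, 104874, 104878, 104879, 104882, 104883, 104886,
  104887, 104890, 104891, 104894, 104895, 109250, 109254, 109255, 109258, 109259, 109262, 109263, 109266, 109267,
  109270, 109274, 109275, 109278, 109279, 123074, 123078, 123079, 123083, 123086, 123087, 123090, 123091, 123094,
  123095, 123098, 123099, 123102, 123103, 252482, 252483, 252487, 252490, 252494, 252495, 252498, 252499, 252502,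
  252503, 252506, 252507, 252510, 252511, 256418, 256422, 256423, 256427, 256430, 256431, 256434, 256435, 256438,
  256439, 256442, 256443, 256446, 256447, 98882, 98883, 98887, 98891, 98894, 98895, 98898, 98899, 98902, 98903,
  98906, 98910, 98911, 75586, 75587, 75590, 75591, 75594, 75595, 75598, 75599, 75602, 75603, 75606, 75607, 75610,
  75611, 75614, 75615, 77056, 77057, 77060, 77061, 77064, 77065, 77068, 77069, 77072, 77073, 77076, 77077, 77080,
  77081, 77084, 77085, 81602, 81603, 81606, 81607, 81610, 81611, 81614, 81615, 81618, 81619, 81622, 81623, 81626,
  81627, 81630, 81631, 84546, 84547, 84550, 84551, 84554, 84555, 84558, 84559, 84562, 84563, 84566, 84567, 84570,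
  84571, 84574, 84575, 98592, 98593, 98596, 98597, 98600, 98601, 98604, 98605, 98608, 98609, 98612, 98613, 98616,
  98617, 98620, 98621, 101856, 101857, 101860, 101861, 101864, 101865, 101868, 101869, 101872, 101873, 101876,
  101877, 101880, 101881, 101884, 101885, 114400, 114401, 114404, 114405, 114408, 114409, 114412, 114413, 114416,
  114417, 114420, 114421, 114424, 114425, 114428, 114429, 44482, 44483, 44487, 44490, 44491, 44494, 44495, 44498,
  44499, 44502, 44503, 44506, 44507, 44510, 44511, 55584, 55585, 55588, 55589, 55592, 55593, 55596, 55597, 55600,
  55604, 55605, 55608, 55609, 55612, 55613, 78337, 78340, 78341, 78344, 78345, 78348, 78349, 78352, 78353, 78356,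
  78357, 78360, 78361, 78364, 78365, 84832, 84833, 84836, 84837, 84840, 84844, 84845, 84848, 84849, 84852, 84853,
  84856, 84857, 84860, 84861, 85536, 85537, 85540, 85541, 85544, 85545, 85549, 85552, 85553, 85556, 85557, 85560,
  85561, 85564, 85565, 99488, 99489, 99492, 99493, 99496, 99497, 99500, 99501, 99504, 99505, 99509, 99512, 99513,
  99516, 99517, 49090, 49091, 49095, 49098, 49099, 49102, 49103, 49106, 49107, 49110, 49111, 49114, 49115, 49118,
  56032, 56036, 56037, 56041, 56044, 56045, 56048, 56049, 56052, 56053, 56056, 56057, 56060, 56061, 58944, 58945,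
  58948, 58952, 58953, 58956, 58957, 58960, 58964, 58965, 58968, 58969, 58972, 58973, 62816, 62817, 62820, 62821,
  62824, 62828, 62829, 62832, 62836, 62837, 62840, 62841, 62844, 62845, 63010, 63011, 63014, 63015, 63022, 63023,
  63026, 63027, 63030, 63031, 63034, 63035, 63038, 63039, 74147, 74150, 74151, 74154, 74155, 74158, 74162, 74163,
  74166, 74167, 74170, 74171, 74174, 74175, 76192, 76193, 76197, 76200, 76201, 76204, 76208, 76209, 76212, 76213,
  76216, 76217, 76220, 76221, 84768, 84769, 84772, 84773, 84776, 84777, 84781, 84784, 84785, 84788, 84789, 84792,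
  84793, 84796, 85088, 85089, 85092, 85093, 85096, 85097, 85101, 85104, 85105, 85108, 85112, 85113, 85116, 85117,
  85664, 85665, 85668, 85669, 85672, 85673, 85676, 85677, 85680, 85681, 85684, 85685, 85689, 85693, 90816, 90817,
  90820, 90821, 90825, 90828, 90829, 90832, 90833, 90836, 90837, 90840, 90844, 90845, 58816, 58820, 58821, 58824,
  58828, 58829, 58832, 58836, 58837, 58840, 58841, 58844, 58845, 64481, 64484, 64485, 64488, 64489, 64492, 64493,
  64496, 64500, 64501, 64504, 64508, 64509]

def t1_0 : MF :=
  (.n .b (.n .d (.n .f (.n .j (.w (.p false (.n .a true (.n .e false (.n .g true (.n .h true .o .o) (.n .h true .o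
  .o)) (.n .g true (.n .h true .o .o) (.n .h true .o .o))) (.n .e true (.n .g true .o (.n .h true .o .o)) (.n .g
  false (.n .h true .o .o) (.n .h true .o .o)))) .o) .o) .o) .o) (.n .f (.n .i (.w (.p false (.n .a true (.n .e
  false (.n .g true (.n .h true .o .o) (.n .h true .o .o)) (.n .g true .o (.n .h true .o .o))) (.n .e false (.n .g
  true (.n .h true .o .o) (.n .h true .o .o)) (.n .g true (.n .h true .o .o) (.n .h true .o .o)))) .o) .o) (.n .k
  (.w (.p true (.n .a false (.n .e true (.n .g true (.n .h true .o .o) (.n .h true .o .o)) (.n .g true (.n .h true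
  .o .o) (.n .h true .o .o))) (.n .e false (.n .g true (.n .h true .o .o) (.n .h true .o .o)) (.n .g false (.n .h
  true .o .o) (.n .h true .o .o)))) .o) .o) .o)) .o)) (.n .d (.n .f (.n .i (.w (.p false (.n .a true (.n .e true
  (.n .g false (.n .h true .o .o) (.n .h true .o .o)) (.n .g true (.n .h true .o .o) (.n .h true .o .o))) (.n .e
  false (.n .g false (.n .h true .o .o) (.n .h true .o .o)) (.n .g true (.n .h true .o .o) (.n .h true .o .o))))
  .o) .o) .o) (.n .i (.n .k (.w (.p true (.n .a true (.n .e false (.n .g true (.n .h true .o .o) (.n .h true .o
  .o)) (.n .g true .o .o)) (.n .e true (.n .g true (.n .h true .o .o) (.n .h true .o .o)) (.n .g true .o (.n .h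
  true .o .o)))) .o) .o) .o) (.n .j (.n .i (.n .k (.w (.p false (.n .a true (.n .e true (.n .g true .o (.n .h true
  .o .o)) (.n .g true .o (.n .h true .o .o))) (.n .e false (.n .g true (.n .h true .o .o) (.n .h true .o .o)) (.n
  .g false (.n .h true .o .o) (.n .h true .o .o)))) .o) .o) .o) .o) .o))) (.n .f (.n .j (.n .i (.w (.p true (.n .a
  false (.n .e true (.n .g true (.n .h true .o .o) (.n .h true .o .o)) (.n .g true (.n .h true .o .o) (.n .h true
  .o .o))) (.n .e true (.n .g true (.n .h true .o .o) (.n .h true .o .o)) (.n .g true .o (.n .h true .o .o)))) .o)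
  .o) .o) .o) .o)))

def t1_1 : MF :=
  (.n .f (.w (.p false (.n .a true (.n .e true (.n .g true (.n .h true .o .o) (.n .h true .o .o)) (.n .g true (.n
  .h true .o .o) (.n .h true .o .o))) (.n .e true (.n .g true .o (.n .h true .o .o)) (.n .g true (.n .h true .o
  .o) .o))) .o) (.n .i (.w (.p true (.n .a true (.n .e false (.n .g true (.n .h true .o .o) (.n .h true .o .o))
  (.n .g false (.n .h true .o .o) (.n .h true .o .o))) (.n .e false (.n .g true .o (.n .h true .o .o)) (.n .g true
  .o (.n .h true .o .o)))) .o) .o) (.n .j (.n .i (.n .k (.w (.p false (.n .a true (.n .e true (.n .g true (.n .h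
  true .o .o) .o) (.n .g true (.n .h true .o .o) (.n .h true .o .o))) (.n .e false (.n .g true .o .o) (.n .g true
  .o (.n .h true .o .o)))) .o) .o) .o) .o) (.n .k (.w (.p true (.n .a true (.n .g true (.n .h true .o .o) (.n .h
  true .o .o)) (.n .e true (.n .g true .o (.n .h true .o .o)) (.n .g true .o (.n .h true .o .o)))) .o) .o) .o))))
  (.n .i (.n .k (.w (.p true (.n .a false (.n .e true (.n .g true (.n .h true .o .o) (.n .h true .o .o)) (.n .g
  true .o (.n .h true .o .o))) (.n .e true (.n .g true .o (.n .h true .o .o)) (.n .g true .o (.n .h true .o .o))))
  (.n .a (.n .c (.n .g (.n .h (.w t1_0 .o) .o) .o) .o) .o)) .o) .o) (.n .j (.n .i (.n .k (.w (.p true (.n .a false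
  (.n .e true (.n .g true (.n .h true .o .o) (.n .h true .o .o)) (.n .g false (.n .h true .o .o) (.n .h true .o
  .o))) (.n .e false (.n .g true .o .o) (.n .g true .o (.n .h true .o .o)))) .o) .o) .o) (.n .k (.w (.p true (.n
  .a true (.n .e true (.n .g true .o (.n .h true .o .o)) (.n .g true .o (.n .h true .o .o))) (.n .e false (.n .g
  true (.n .h true .o .o) .o) (.n .g true .o (.n .h true .o .o)))) .o) .o) .o)) (.n .k (.w (.p true (.n .a true
  (.n .e true (.n .g true (.n .h true .o .o) (.n .h true .o .o)) (.n .g true .o .o)) (.n .e true (.n .g false (.n
  .h true .o .o) .o) (.n .h true .o .o))) .o) .o) .o))))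

def t1_2 : MF :=
  (.n .f (.n .j (.n .k (.w (.p true (.n .a true (.n .e true (.n .g true .o .o) (.n .g false (.n .h true .o .o)
  .o)) (.n .e true (.n .g true (.n .h true .o .o) (.n .h true .o .o)) (.n .g true .o .o))) .o) .o) .o) (.n .k (.w
  (.p true (.n .a true (.n .e true (.n .g false (.n .h true .o .o) .o) (.n .g true (.n .h true .o .o) (.n .h true
  .o .o))) (.n .e true (.n .g false (.n .h true .o .o) .o) (.n .g true (.n .h true .o .o) (.n .h true .o .o))))
  .o) .o) .o)) (.n .i (.w (.p false (.n .a true (.n .e true (.n .g true (.n .h true .o .o) (.n .h true .o .o)) (.n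
  .g true .o .o)) (.n .e false (.n .g true (.n .h true .o .o) (.n .h true .o .o)) (.n .h true .o .o))) .o) (.n .k
  (.w (.p true (.n .a true (.n .e false (.n .g false (.n .h true .o .o) (.n .h true .o .o)) (.n .g true (.n .h
  true .o .o) (.n .h true .o .o))) (.n .e false (.n .g true (.n .h true .o .o) .o) (.n .g false (.n .h true .o .o)
  .o))) .o) .o) .o)) (.n .j (.n .k (.w (.p true (.n .a true (.n .e true (.n .g true (.n .h true .o .o) (.n .h true
  .o .o)) (.n .g false (.n .h true .o .o) (.n .h true .o .o))) (.n .e false (.n .g true (.n .h true .o .o) (.n .h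
  true .o .o)) (.n .g true (.n .h true .o .o) (.n .h true .o .o)))) .o) .o) .o) (.n .k (.w (.p true (.n .a true
  (.n .e true (.n .g true (.n .h true .o .o) (.n .h true .o .o)) (.n .g true (.n .h true .o .o) (.n .h true .o
  .o))) (.n .e true (.n .g true (.n .h true .o .o) (.n .h true .o .o)) (.n .g false (.n .h true .o .o) (.n .h true
  .o .o)))) .o) .o) .o))))

def t1_3 : MF :=
  (.w (.p true (.n .a false (.n .e true (.n .g true (.n .h true .o .o) (.n .h true .o .o)) (.n .g false (.n .h
  true .o .o) (.n .h true .o .o))) (.n .e true (.n .g true .o (.n .h true .o .o)) (.n .g true .o (.n .h true .o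
  .o)))) .o) (.n .f (.n .i (.w (.p true (.n .a true (.n .e true (.n .g false (.n .h true .o .o) .o) (.n .g true
  (.n .h true .o .o) (.n .h true .o .o))) (.n .e true (.n .g true (.n .h true .o .o) (.n .h true .o .o)) (.n .g
  true (.n .h true .o .o) (.n .h true .o .o)))) .o) .o) (.n .k (.w (.p true (.n .a false (.n .e true (.n .g true
  (.n .h true .o .o) (.n .h true .o .o)) (.n .g true .o (.n .h true .o .o))) (.n .e true (.n .g true .o (.n .h
  true .o .o)) (.n .g false (.n .h true .o .o) .o))) .o) .o) .o)) (.n .j (.n .i (.w (.p true (.n .a false (.n .e
  false (.n .h true .o .o) (.n .g true (.n .h true .o .o) .o)) (.n .e true (.n .g true (.n .h true .o .o) (.n .h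
  true .o .o)) (.n .g true (.n .h true .o .o) (.n .h true .o .o)))) .o) (.n .k (.w (.p true (.n .a true (.n .e
  false (.n .g true (.n .h true .o .o) (.n .h true .o .o)) (.n .g true (.n .h true .o .o) (.n .h true .o .o))) (.n
  .e true (.n .g true (.n .h true .o .o) (.n .h true .o .o)) (.n .g false (.n .h true .o .o) (.n .h true .o .o))))
  .o) .o) .o)) (.n .k (.w (.p true (.n .a false (.n .e true (.n .g true (.n .h true .o .o) (.n .h true .o .o)) (.n
  .g true (.n .h true .o .o) (.n .h true .o .o))) (.n .e false (.n .g true (.n .h true .o .o) .o) (.n .g true .o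
  (.n .h true .o .o)))) .o) .o) .o)) .o)))

def t1_4 : MF :=
  (.w (.n .b (.n .d t1_3 t1_2) (.n .d (.w (.p true (.n .a false (.n .e false (.n .g true .o (.n .h true .o .o))
  (.n .g false (.n .h true .o .o) (.n .h true .o .o))) (.n .e true (.n .g true (.n .h true .o .o) (.n .h true .o
  .o)) (.n .g false (.n .h true .o .o) (.n .h true .o .o)))) .o) t1_1) (.n .f (.n .i (.n .k (.w (.p true (.n .a
  false (.n .e false (.n .g true (.n .h true .o .o) (.n .h true .o .o)) (.n .h true .o .o)) (.n .e true (.n .g
  true .o (.n .h true .o .o)) (.n .g true (.n .h true .o .o) .o))) .o) .o) .o) (.n .j (.w (.p true (.n .a true (.n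
  .e true (.n .g true (.n .h true .o .o) .o) (.n .g true .o .o)) (.n .e true (.n .g true .o (.n .h true .o .o))
  (.n .g true (.n .h true .o .o) .o))) .o) .o) (.n .k (.w (.p true (.n .a true (.n .e true (.n .g true (.n .h true
  .o .o) .o) (.n .g true (.n .h true .o .o) .o)) (.n .e true (.n .g true .o .o) (.n .g false (.n .h true .o .o)
  (.n .h true .o .o)))) .o) .o) .o))) (.n .i (.w (.p true (.n .a true (.n .e true (.n .g true (.n .h true .o .o)
  .o) (.n .h true .o .o)) (.n .e true (.n .g true (.n .h true .o .o) (.n .h true .o .o)) (.n .g true (.n .h true
  .o .o) (.n .h true .o .o)))) .o) .o) (.n .j (.n .k (.w (.p true (.n .a true (.n .e true (.n .g false (.n .h true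
  .o .o) (.n .h true .o .o)) (.n .g true (.n .h true .o .o) (.n .h true .o .o))) (.n .e true (.n .h true .o .o)
  (.n .g true .o (.n .h true .o .o)))) .o) .o) .o) .o))))) .o)

def t1_5 : MF :=
  (.w (.p true (.n .a true (.n .e true (.n .g true (.n .h true .o .o) (.n .h true .o .o)) (.n .g true (.n .h true
  .o .o) (.n .h true .o .o))) (.n .e true (.n .g true (.n .h true .o .o) (.n .h true .o .o)) (.n .g false (.n .h
  true .o .o) (.n .h true .o .o)))) .o) (.n .i (.w (.p true (.n .a false (.n .e false (.n .g false (.n .h true .o
  .o) .o) (.n .g true (.n .h true .o .o) (.n .h true .o .o))) (.n .e true (.n .g true (.n .h true .o .o) (.n .h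
  true .o .o)) (.n .g true (.n .h true .o .o) (.n .h true .o .o)))) .o) (.n .k (.w (.p false (.n .a true (.n .e
  true (.n .g true .o (.n .h true .o .o)) (.n .g false (.n .h true .o .o) (.n .h true .o .o))) (.n .e false (.n .g
  true (.n .h true .o .o) (.n .h true .o .o)) (.n .g true (.n .h true .o .o) (.n .h true .o .o)))) .o) .o) .o))
  (.n .j (.w (.p false (.n .a true (.n .e true (.n .g true .o (.n .h true .o .o)) (.n .g false (.n .h true .o .o)
  (.n .h true .o .o))) (.n .e true (.n .g true (.n .h true .o .o) (.n .h true .o .o)) (.n .g false (.n .h true .o
  .o) (.n .h true .o .o)))) .o) (.n .i (.w (.p false (.n .a true (.n .e true (.n .g true (.n .h true .o .o) (.n .h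
  true .o .o)) (.n .g true (.n .h true .o .o) (.n .h true .o .o))) (.n .e true (.n .g false (.n .h true .o .o) .o)
  (.n .g true (.n .h true .o .o) (.n .h true .o .o)))) .o) (.n .k (.w (.p true (.n .a true (.n .e false (.n .g
  true (.n .h true .o .o) (.n .h true .o .o)) (.n .g true (.n .h true .o .o) (.n .h true .o .o))) (.n .e true (.n
  .g true (.n .h true .o .o) .o) (.n .g true (.n .h true .o .o) (.n .h true .o .o)))) (.n .c (.n .e (.n .g (.n .h
  t1_4 .o) .o) .o) .o)) .o) .o)) .o)) .o)))

def t1_6 : MF :=
  (.n .d (.n .f (.n .j (.n .k (.w (.p true (.n .a true (.n .e true (.n .g true (.n .h true .o .o) .o) (.n .g true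
  (.n .h true .o .o) .o)) (.n .e true (.n .g true (.n .h true .o .o) (.n .h true .o .o)) (.n .g false (.n .h true
  .o .o) (.n .h true .o .o)))) .o) .o) .o) .o) (.n .j (.w (.p true (.n .a true (.n .e true (.n .g true .o .o) (.n
  .g true (.n .h true .o .o) (.n .h true .o .o))) (.n .e false (.n .h true .o .o) (.n .g true (.n .h true .o .o)
  .o))) .o) (.n .i (.w (.p true (.n .a true (.n .e true (.n .g false (.n .h true .o .o) .o) (.n .g false (.n .h
  true .o .o) (.n .h true .o .o))) (.n .e true (.n .g true (.n .h true .o .o) .o) (.n .g true (.n .h true .o .o)
  (.n .h true .o .o)))) .o) (.n .k (.w (.p false (.n .a true (.n .e true (.n .g false (.n .h true .o .o) (.n .h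
  true .o .o)) (.n .g false (.n .h true .o .o) (.n .h true .o .o))) (.n .e true (.n .g false (.n .h true .o .o)
  (.n .h true .o .o)) (.n .g true (.n .h true .o .o) .o))) .o) .o) .o)) .o)) (.n .k (.w (.p true (.n .a true (.n
  .e true (.n .g false (.n .h true .o .o) (.n .h true .o .o)) (.n .g true (.n .h true .o .o) (.n .h true .o .o)))
  (.n .e true (.n .g true (.n .h true .o .o) (.n .h true .o .o)) (.n .g true (.n .h true .o .o) (.n .h true .o
  .o)))) .o) .o) .o))) (.n .f t1_5 (.n .i (.w (.p true (.n .a false (.n .e true (.n .g false (.n .h true .o .o)
  (.n .h true .o .o)) (.n .g true (.n .h true .o .o) (.n .h true .o .o))) (.n .e true (.n .g true (.n .h true .o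
  .o) (.n .h true .o .o)) (.n .g true (.n .h true .o .o) (.n .h true .o .o)))) .o) (.n .k (.w (.p true (.n .a true
  (.n .e true (.n .g true (.n .h true .o .o) (.n .h true .o .o)) (.n .g true .o (.n .h true .o .o))) (.n .e true
  (.n .g true .o (.n .h true .o .o)) (.n .g true (.n .h true .o .o) .o))) .o) .o) .o)) (.n .j (.n .k (.w (.p true
  (.n .a true (.n .e true (.n .g true (.n .h true .o .o) (.n .h true .o .o)) (.n .g true (.n .h true .o .o) (.n .h
  true .o .o))) (.n .e true (.n .g false (.n .h true .o .o) (.n .h true .o .o)) (.n .g true (.n .h true .o .o) (.n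
  .h true .o .o)))) .o) .o) .o) .o))))

def t1_7 : MF :=
  (.n .d (.n .f (.n .j (.n .k (.w (.p false (.n .a true (.n .e true .o (.n .g true (.n .h true .o .o) (.n .h true
  .o .o))) (.n .e true (.n .g true .o (.n .h true .o .o)) (.n .g true (.n .h true .o .o) (.n .h true .o .o)))) .o)
  .o) .o) .o) (.n .i (.n .k (.w (.p true (.n .a true (.n .e true (.n .g true (.n .h true .o .o) (.n .h true .o
  .o)) (.n .g true (.n .h true .o .o) (.n .h true .o .o))) (.n .e false (.n .g true (.n .h true .o .o) (.n .h true
  .o .o)) (.n .g true (.n .h true .o .o) .o))) .o) .o) .o) (.n .j (.n .k (.w (.p true (.n .a true (.n .e true (.n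
  .g true (.n .h true .o .o) (.n .h true .o .o)) (.n .g true (.n .h true .o .o) (.n .h true .o .o))) (.n .e true
  (.n .g true (.n .h true .o .o) (.n .h true .o .o)) (.n .g true (.n .h true .o .o) (.n .h true .o .o)))) .o) .o)
  .o) .o))) (.n .f (.n .j (.n .i (.n .k (.w (.p false (.n .a true (.n .e true (.n .g true (.n .h true .o .o) (.n
  .h true .o .o)) (.n .g true (.n .h true .o .o) (.n .h true .o .o))) (.n .e false (.n .g true .o (.n .h true .o
  .o)) (.n .g false (.n .h true .o .o) .o))) .o) .o) .o) .o) (.n .k (.w (.p false (.n .a true (.n .e true (.n .g
  true .o (.n .h true .o .o)) (.n .g false (.n .h true .o .o) (.n .h true .o .o))) (.n .e true (.n .g true .o (.n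
  .h true .o .o)) (.n .g true (.n .h true .o .o) .o))) .o) .o) .o)) (.n .i (.n .k (.w (.p false (.n .a true (.n .e
  true (.n .g true (.n .h true .o .o) (.n .h true .o .o)) (.n .g true (.n .h true .o .o) (.n .h true .o .o))) (.n
  .e true (.n .g false (.n .h true .o .o) .o) (.n .g true (.n .h true .o .o) (.n .h true .o .o)))) .o) .o) .o) (.n
  .k (.w (.p true (.n .a false (.n .e true (.n .g true .o (.n .h true .o .o)) (.n .g true .o (.n .h true .o .o)))
  (.n .e true (.n .g true (.n .h true .o .o) (.n .h true .o .o)) (.n .g true (.n .h true .o .o) (.n .h true .o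
  .o)))) .o) .o) .o))))

def t1_8 : MF :=
  (.w (.p true (.n .a true (.n .e true (.n .g true .o (.n .h true .o .o)) (.n .g true (.n .h true .o .o) (.n .h
  true .o .o))) (.n .e true (.n .g true (.n .h true .o .o) (.n .h true .o .o)) (.n .g true (.n .h true .o .o) (.n
  .h true .o .o)))) .o) (.n .i (.w (.p true (.n .a true (.n .e false (.n .g true (.n .h true .o .o) (.n .h true .o
  .o)) (.n .g true (.n .h true .o .o) .o)) (.n .e true (.n .g true (.n .h true .o .o) (.n .h true .o .o)) (.n .g
  true .o (.n .h true .o .o)))) .o) (.n .k (.w (.p false (.n .a true (.n .e true (.n .g true (.n .h true .o .o)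
  .o) (.n .g true .o (.n .h true .o .o))) (.n .e true (.n .g true (.n .h true .o .o) (.n .h true .o .o)) (.n .g
  true .o (.n .h true .o .o)))) .o) .o) .o)) (.n .j (.n .i (.w (.p true (.n .a true (.n .e true (.n .g true (.n .h
  true .o .o) (.n .h true .o .o)) (.n .g true (.n .h true .o .o) .o)) (.n .e false (.n .g false (.n .h true .o .o)
  (.n .h true .o .o)) (.n .g true .o (.n .h true .o .o)))) .o) .o) (.n .k (.w (.p true (.n .a true (.n .e false
  (.n .g true .o (.n .h true .o .o)) (.n .g true (.n .h true .o .o) (.n .h true .o .o))) (.n .e true .o (.n .g
  true (.n .h true .o .o) .o))) .o) .o) .o)) (.n .k (.w (.p true (.n .a false (.n .e true (.n .g true (.n .h true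
  .o .o) (.n .h true .o .o)) (.n .g true (.n .h true .o .o) (.n .h true .o .o))) (.n .e true (.n .g false (.n .h
  true .o .o) (.n .h true .o .o)) (.n .g false (.n .h true .o .o) (.n .h true .o .o)))) .o) .o) .o))))

def t1_9 : MF :=
  (.n .d (.n .f t1_8 (.n .i (.n .k (.w (.p true (.n .a true (.n .e true (.n .g true (.n .h true .o .o) (.n .h true
  .o .o)) (.n .h true .o .o)) (.n .e true (.n .g true (.n .h true .o .o) (.n .h true .o .o)) (.n .g true (.n .h
  true .o .o) (.n .h true .o .o)))) .o) .o) .o) (.n .j (.n .k (.w (.p true (.n .a true (.n .e true (.n .g true .o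
  .o) (.n .g true (.n .h true .o .o) .o)) (.n .e true (.n .g true .o .o) (.n .g true .o (.n .h true .o .o)))) .o)
  .o) .o) .o))) (.n .f (.w (.p true (.n .a true (.n .e false (.n .g true (.n .h true .o .o) .o) (.n .g true (.n .h
  true .o .o) .o)) (.n .e true (.n .g true (.n .h true .o .o) .o) (.n .g true .o (.n .h true .o .o)))) .o) (.n .k
  (.w (.p true (.n .a true (.n .e true (.n .g true (.n .h true .o .o) (.n .h true .o .o)) (.n .g false (.n .h true
  .o .o) .o)) (.n .e false (.n .g true (.n .h true .o .o) (.n .h true .o .o)) (.n .g true (.n .h true .o .o) .o)))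
  .o) .o) .o)) (.n .i (.n .k (.w (.p true (.n .a true (.n .e true (.n .g true (.n .h true .o .o) (.n .h true .o
  .o)) (.n .g true (.n .h true .o .o) (.n .h true .o .o))) (.n .e true (.n .g true (.n .h true .o .o) (.n .h true
  .o .o)) (.n .g true (.n .h true .o .o) (.n .h true .o .o)))) .o) .o) .o) (.n .j (.n .i (.n .k (.w (.p true (.n
  .a true (.n .e true (.n .g true (.n .h true .o .o) .o) (.n .g true (.n .h true .o .o) (.n .h true .o .o))) (.n
  .e true (.n .g false (.n .h true .o .o) (.n .h true .o .o)) (.n .g true .o .o))) .o) .o) .o) .o) (.n .k (.w (.p
  true (.n .a true (.n .e true (.n .g true (.n .h true .o .o) .o) (.n .g true (.n .h true .o .o) .o)) (.n .e true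
  (.n .g true (.n .h true .o .o) .o) (.n .g true (.n .h true .o .o) (.n .h true .o .o)))) .o) .o) .o)))))

def t1_10 : MF :=
  (.n .d (.n .f (.n .i (.n .k (.w (.p true (.n .a false (.n .e true (.n .g true (.n .h true .o .o) (.n .h true .o
  .o)) (.n .g true (.n .h true .o .o) (.n .h true .o .o))) (.n .e false (.n .g true (.n .h true .o .o) .o) (.n .g
  true .o .o))) .o) .o) .o) (.n .j (.n .i (.n .k (.w (.p true (.n .a false (.n .e true (.n .g true (.n .h true .o
  .o) .o) (.n .g true (.n .h true .o .o) .o)) (.n .e true (.n .g true (.n .h true .o .o) (.n .h true .o .o)) (.n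
  .h true .o .o))) .o) .o) .o) .o) (.n .k (.w (.p true (.n .a true (.n .e true (.n .g true (.n .h true .o .o) (.n
  .h true .o .o)) (.n .g false (.n .h true .o .o) (.n .h true .o .o))) (.n .e true (.n .g true (.n .h true .o .o)
  (.n .h true .o .o)) (.n .g true .o (.n .h true .o .o)))) (.n .a (.n .c (.n .e (.n .h (.n .l (.w (.n .b t1_7
  t1_6) .o) .o) .o) .o) .o) .o)) .o) .o))) (.n .i (.n .k (.w (.p true (.n .a true (.n .e true (.n .g false (.n .h
  true .o .o) .o) (.n .g false (.n .h true .o .o) (.n .h true .o .o))) (.n .e true (.n .g true (.n .h true .o .o)
  (.n .h true .o .o)) (.n .g false (.n .h true .o .o) .o))) .o) .o) .o) .o)) (.n .f (.n .i (.n .k (.w (.p true (.n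
  .a true (.n .e false (.n .g false (.n .h true .o .o) .o) (.n .g true .o (.n .h true .o .o))) (.n .e true (.n .g
  true (.n .h true .o .o) .o) (.n .g true .o (.n .h true .o .o)))) .o) .o) .o) .o) (.n .i (.n .k (.w (.p false (.n
  .a true (.n .e true (.n .g true .o (.n .h true .o .o)) (.n .g true (.n .h true .o .o) (.n .h true .o .o))) (.n
  .e true (.n .g true (.n .h true .o .o) (.n .h true .o .o)) (.n .g false (.n .h true .o .o) (.n .h true .o .o))))
  .o) .o) .o) (.n .j (.n .i (.n .k (.w (.p true (.n .a true (.n .e false (.n .g false (.n .h true .o .o) (.n .h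
  true .o .o)) (.n .g true (.n .h true .o .o) (.n .h true .o .o))) (.n .e true (.n .g false (.n .h true .o .o) (.n
  .h true .o .o)) (.n .h true .o .o))) .o) .o) .o) (.n .k (.w (.p false (.n .a true (.n .e false (.n .g true (.n
  .h true .o .o) (.n .h true .o .o)) (.n .g true (.n .h true .o .o) .o)) (.n .e true (.n .g true (.n .h true .o
  .o) (.n .h true .o .o)) (.n .g true (.n .h true .o .o) (.n .h true .o .o)))) .o) .o) .o)) (.n .k (.w (.p true
  (.n .a true (.n .e true (.n .g true (.n .h true .o .o) .o) (.n .h true .o .o)) (.n .e true (.n .g true .o .o)
  (.n .g true (.n .h true .o .o) (.n .h true .o .o)))) .o) .o) .o)))))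

def t1_11 : MF :=
  (.n .d (.n .f (.n .i (.n .k (.w (.p true (.n .a true (.n .e true (.n .g true (.n .h true .o .o) (.n .h true .o
  .o)) (.n .g true (.n .h true .o .o) (.n .h true .o .o))) (.n .e true (.n .g true (.n .h true .o .o) .o) (.n .g
  true (.n .h true .o .o) (.n .h true .o .o)))) .o) .o) .o) (.n .j (.n .i (.w (.p true (.n .a true (.n .e true (.n
  .g true (.n .h true .o .o) (.n .h true .o .o)) (.n .g false (.n .h true .o .o) .o)) (.n .e false (.n .g true (.n
  .h true .o .o) (.n .h true .o .o)) (.n .g true .o (.n .h true .o .o)))) .o) .o) .o) .o)) (.n .i (.n .k (.w (.p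
  true (.n .a false (.n .e true (.n .g true (.n .h true .o .o) .o) (.n .h true .o .o)) (.n .e true (.n .g true .o
  (.n .h true .o .o)) (.n .g true (.n .h true .o .o) (.n .h true .o .o)))) .o) .o) .o) (.n .j (.n .i (.n .k (.w
  (.p true (.n .a true (.n .e false (.n .g true (.n .h true .o .o) (.n .h true .o .o)) (.n .g true (.n .h true .o
  .o) (.n .h true .o .o))) (.n .e true (.n .h true .o .o) (.n .g true (.n .h true .o .o) (.n .h true .o .o)))) .o)
  .o) .o) (.n .k (.w (.p true (.n .a true (.n .e true (.n .g true .o (.n .h true .o .o)) (.n .g true .o (.n .h
  true .o .o))) (.n .e false (.n .g true (.n .h true .o .o) (.n .h true .o .o)) (.n .g true (.n .h true .o .o)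
  .o))) .o) .o) .o)) .o))) (.n .f (.w (.p true (.n .a false (.n .e true (.n .g true (.n .h true .o .o) (.n .h true
  .o .o)) (.n .g true .o (.n .h true .o .o))) (.n .e true (.n .g true (.n .h true .o .o) (.n .h true .o .o)) (.n
  .g true (.n .h true .o .o) (.n .h true .o .o)))) .o) (.n .j (.w (.p true (.n .a true (.n .e true (.n .g true (.n
  .h true .o .o) (.n .h true .o .o)) (.n .g true (.n .h true .o .o) (.n .h true .o .o))) (.n .e true (.n .g true
  (.n .h true .o .o) (.n .h true .o .o)) (.n .g true (.n .h true .o .o) (.n .h true .o .o)))) .o) .o) .o)) (.n .j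
  (.w (.p true (.n .a false (.n .e false (.n .g true (.n .h true .o .o) (.n .h true .o .o)) (.n .g true (.n .h
  true .o .o) (.n .h true .o .o))) (.n .e false (.n .g false (.n .h true .o .o) (.n .h true .o .o)) (.n .g true
  (.n .h true .o .o) (.n .h true .o .o)))) .o) (.n .k (.w (.p true (.n .a true (.n .e true (.n .g true .o (.n .h
  true .o .o)) (.n .g true (.n .h true .o .o) (.n .h true .o .o))) (.n .e false (.n .g true (.n .h true .o .o) (.n
  .h true .o .o)) (.n .g false (.n .h true .o .o) (.n .h true .o .o)))) .o) .o) .o)) (.n .k (.w (.p true (.n .a
  true (.n .e true (.n .g true .o (.n .h true .o .o)) (.n .g true (.n .h true .o .o) .o)) (.n .e true (.n .g true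
  .o .o) (.n .g true .o (.n .h true .o .o)))) .o) .o) .o))))

def t1_12 : MF :=
  (.n .d (.n .f (.n .i (.w (.p true (.n .a true (.n .e true (.n .g true (.n .h true .o .o) (.n .h true .o .o)) (.n
  .g true (.n .h true .o .o) .o)) (.n .e true (.n .g true (.n .h true .o .o) .o) (.n .g true (.n .h true .o .o)
  (.n .h true .o .o)))) .o) .o) (.n .j (.n .i (.w (.p true (.n .a false (.n .e true (.n .g true (.n .h true .o .o)
  (.n .h true .o .o)) (.n .g true (.n .h true .o .o) (.n .h true .o .o))) (.n .e true (.n .g false (.n .h true .o
  .o) (.n .h true .o .o)) (.n .g false (.n .h true .o .o) (.n .h true .o .o)))) .o) .o) .o) (.n .k (.w (.p true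
  (.n .a false (.n .e true (.n .g true (.n .h true .o .o) (.n .h true .o .o)) (.n .g true (.n .h true .o .o) (.n
  .h true .o .o))) (.n .e true (.n .g true (.n .h true .o .o) (.n .h true .o .o)) (.n .h true .o .o))) (.n .a (.n
  .c (.n .e (.n .g (.n .h (.w (.n .b t1_10 t1_9) .o) .o) .o) .o) .o) .o)) .o) .o))) (.n .i (.w (.p true (.n .a
  true (.n .e false (.n .g true (.n .h true .o .o) .o) (.n .g true .o .o)) (.n .e true (.n .g true .o (.n .h true
  .o .o)) (.n .g false (.n .h true .o .o) (.n .h true .o .o)))) .o) .o) .o)) (.n .f (.n .i (.w (.p true (.n .a
  true (.n .e true (.n .g true (.n .h true .o .o) (.n .h true .o .o)) (.n .g true .o (.n .h true .o .o))) (.n .e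
  false (.n .g false (.n .h true .o .o) .o) (.n .g true (.n .h true .o .o) (.n .h true .o .o)))) .o) .o) (.n .j
  (.n .i (.n .k (.w (.p false (.n .a true (.n .e true (.n .g true (.n .h true .o .o) (.n .h true .o .o)) (.n .g
  true (.n .h true .o .o) (.n .h true .o .o))) (.n .e false (.n .g true (.n .h true .o .o) (.n .h true .o .o)) (.n
  .g true (.n .h true .o .o) .o))) .o) .o) .o) .o) (.n .k (.w (.p true (.n .a false (.n .e true (.n .g true .o (.n
  .h true .o .o)) (.n .g true (.n .h true .o .o) (.n .h true .o .o))) (.n .e false (.n .g true (.n .h true .o .o)
  (.n .h true .o .o)) (.n .g true .o (.n .h true .o .o)))) .o) .o) .o))) (.n .i (.w (.p true (.n .a false (.n .e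
  true (.n .g true (.n .h true .o .o) (.n .h true .o .o)) (.n .g true (.n .h true .o .o) (.n .h true .o .o))) (.n
  .e true (.n .g true (.n .h true .o .o) (.n .h true .o .o)) (.n .g false (.n .h true .o .o) (.n .h true .o .o))))
  .o) .o) (.n .k (.w (.p true (.n .a true (.n .e true (.n .g true (.n .h true .o .o) (.n .h true .o .o)) (.n .g
  false (.n .h true .o .o) (.n .h true .o .o))) (.n .e false (.n .g false (.n .h true .o .o) (.n .h true .o .o))
  (.n .g true .o (.n .h true .o .o)))) .o) .o) .o))))

def t1_13 : MF :=
  (.n .f (.w (.p true (.n .a true (.n .e true (.n .g true (.n .h true .o .o) (.n .h true .o .o)) (.n .g false (.n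
  .h true .o .o) .o)) (.n .e false (.n .g false (.n .h true .o .o) (.n .h true .o .o)) (.n .g false (.n .h true .o
  .o) (.n .h true .o .o)))) .o) (.n .j (.n .k (.w (.p true (.n .a false (.n .e true (.n .g true (.n .h true .o .o)
  (.n .h true .o .o)) (.n .g true (.n .h true .o .o) (.n .h true .o .o))) (.n .e true (.n .g true .o .o) (.n .g
  true .o (.n .h true .o .o)))) .o) .o) .o) (.n .k (.w (.p false (.n .a true (.n .e false (.n .g true (.n .h true
  .o .o) (.n .h true .o .o)) (.n .g true (.n .h true .o .o) (.n .h true .o .o))) (.n .e true (.n .g true (.n .h
  true .o .o) .o) (.n .g true .o (.n .h true .o .o)))) .o) .o) .o))) (.n .j (.w (.p true (.n .a true (.n .e true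
  (.n .g true (.n .h true .o .o) .o) (.n .g true .o (.n .h true .o .o))) (.n .e true (.n .g true (.n .h true .o
  .o) (.n .h true .o .o)) (.n .g true (.n .h true .o .o) (.n .h true .o .o)))) (.n .a (.n .g (.n .h (.n .l (.w (.n
  .b (.w (.p false (.n .a false (.n .e true (.n .g true (.n .h true .o .o) (.n .h true .o .o)) (.n .g true (.n .h
  true .o .o) (.n .h true .o .o))) (.n .e true (.n .g false (.n .h true .o .o) (.n .h true .o .o)) (.n .g true (.n
  .h true .o .o) (.n .h true .o .o)))) .o) t1_11) t1_12) .o) .o) .o) .o) .o)) (.n .i (.w (.p true (.n .a false (.n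
  .e true (.n .g true (.n .h true .o .o) (.n .h true .o .o)) (.n .g true (.n .h true .o .o) (.n .h true .o .o)))
  (.n .e false (.n .g true .o (.n .h true .o .o)) (.n .g false (.n .h true .o .o) (.n .h true .o .o)))) .o) .o)
  .o)) .o))

def t1_14 : MF :=
  (.n .f (.n .j (.w (.p false (.n .a true (.n .e true (.n .g true (.n .h true .o .o) (.n .h true .o .o)) (.n .g
  true (.n .h true .o .o) .o)) (.n .e false (.n .g true (.n .h true .o .o) (.n .h true .o .o)) (.n .g true (.n .h
  true .o .o) (.n .h true .o .o)))) .o) (.n .i (.w (.p true (.n .a true (.n .e false (.n .g true (.n .h true .o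
  .o) (.n .h true .o .o)) (.n .g true .o (.n .h true .o .o))) (.n .e true (.n .g true (.n .h true .o .o) .o) .o))
  .o) .o) (.n .k (.w (.p true (.n .a true (.n .e true (.n .g true (.n .h true .o .o) (.n .h true .o .o)) (.n .g
  true (.n .h true .o .o) (.n .h true .o .o))) (.n .e true (.n .g true (.n .h true .o .o) (.n .h true .o .o)) (.n
  .g true (.n .h true .o .o) (.n .h true .o .o)))) .o) .o) .o))) (.n .k (.w (.p true (.n .a true (.n .e true (.n
  .g true .o (.n .h true .o .o)) (.n .g true .o (.n .h true .o .o))) (.n .e true (.n .g true (.n .h true .o .o)
  .o) (.n .g true .o (.n .h true .o .o)))) .o) .o) .o)) (.n .j (.n .i (.w (.p true (.n .a true (.n .e false (.n .g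
  true (.n .h true .o .o) (.n .h true .o .o)) (.n .g true (.n .h true .o .o) .o)) (.n .e true (.n .g true (.n .h
  true .o .o) .o) (.n .g true (.n .h true .o .o) (.n .h true .o .o)))) .o) .o) (.n .k (.w (.p true (.n .a true (.n
  .e true (.n .g true (.n .h true .o .o) (.n .h true .o .o)) (.n .g true (.n .h true .o .o) (.n .h true .o .o)))
  (.n .e false (.n .g true (.n .h true .o .o) (.n .h true .o .o)) (.n .g true (.n .h true .o .o) .o))) .o) .o)
  .o)) .o))

def t1_15 : MF :=
  (.w (.p true (.n .a true (.n .e true (.n .g false (.n .h true .o .o) (.n .h true .o .o)) (.n .g true (.n .h true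
  .o .o) (.n .h true .o .o))) (.n .e true (.n .g true (.n .h true .o .o) (.n .h true .o .o)) (.n .g true (.n .h
  true .o .o) .o))) .o) (.n .f (.n .j (.n .i (.w (.p true (.n .a true (.n .e true (.n .g true (.n .h true .o .o)
  (.n .h true .o .o)) (.n .g true (.n .h true .o .o) (.n .h true .o .o))) (.n .e true (.n .g true (.n .h true .o
  .o) (.n .h true .o .o)) (.n .g true (.n .h true .o .o) (.n .h true .o .o)))) .o) .o) (.n .k (.w (.p true (.n .a
  true (.n .e true .o (.n .g true (.n .h true .o .o) .o)) (.n .e true (.n .g true .o (.n .h true .o .o)) (.n .g
  true (.n .h true .o .o) (.n .h true .o .o)))) .o) .o) .o)) .o) (.n .i (.w (.p true (.n .a true (.n .e true (.n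
  .g true (.n .h true .o .o) .o) (.n .g true (.n .h true .o .o) .o)) (.n .e false (.n .g true (.n .h true .o .o)
  (.n .h true .o .o)) (.n .g true (.n .h true .o .o) .o))) .o) .o) (.n .j (.n .i (.w (.p true (.n .a true (.n .e
  false (.n .g true (.n .h true .o .o) (.n .h true .o .o)) (.n .g true (.n .h true .o .o) (.n .h true .o .o))) (.n
  .e true .o (.n .g true (.n .h true .o .o) (.n .h true .o .o)))) .o) (.n .k (.w (.p true (.n .a true (.n .e true
  (.n .g true (.n .h true .o .o) (.n .h true .o .o)) (.n .g true .o (.n .h true .o .o))) (.n .e true (.n .g true
  (.n .h true .o .o) (.n .h true .o .o)) (.n .g false (.n .h true .o .o) (.n .h true .o .o)))) .o) .o) .o)) (.n .k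
  (.w (.p true (.n .a true (.n .e true (.n .g true (.n .h true .o .o) .o) (.n .h true .o .o)) (.n .e true (.n .g
  true .o .o) (.n .g true .o (.n .h true .o .o)))) .o) .o) .o)) .o))))

def t1_16 : MF :=
  (.n .b (.n .d t1_15 (.n .f (.w (.p true (.n .a true (.n .e false (.n .g true (.n .h true .o .o) (.n .h true .o
  .o)) (.n .g true (.n .h true .o .o) .o)) (.n .e true (.n .g true (.n .h true .o .o) (.n .h true .o .o)) (.n .g
  true (.n .h true .o .o) (.n .h true .o .o)))) .o) (.n .k (.w (.p true (.n .a false (.n .e false (.n .g true .o
  (.n .h true .o .o)) (.n .g true (.n .h true .o .o) .o)) (.n .e true (.n .g true (.n .h true .o .o) (.n .h true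
  .o .o)) (.n .g true .o (.n .h true .o .o)))) .o) .o) .o)) (.n .i (.n .k (.w (.p false (.n .a false (.n .e true
  (.n .g true (.n .h true .o .o) (.n .h true .o .o)) (.n .g true (.n .h true .o .o) .o)) (.n .e false (.n .g true
  (.n .h true .o .o) (.n .h true .o .o)) (.n .g true (.n .h true .o .o) .o))) .o) .o) .o) (.n .j (.w (.p true (.n
  .a true (.n .e true (.n .g true .o .o) (.n .g false (.n .h true .o .o) (.n .h true .o .o))) (.n .e false (.n .h
  true .o .o) (.n .g true (.n .h true .o .o) (.n .h true .o .o)))) .o) (.n .i (.w (.p true (.n .a true (.n .e true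
  (.n .g true .o (.n .h true .o .o)) (.n .g true .o (.n .h true .o .o))) (.n .e true (.n .g true (.n .h true .o
  .o) .o) (.n .g true .o (.n .h true .o .o)))) .o) .o) .o)) .o)))) (.n .d (.w (.p false (.n .a true (.n .e false
  (.n .g true (.n .h true .o .o) (.n .h true .o .o)) (.n .g true .o .o)) (.n .e true (.n .g true .o (.n .h true .o
  .o)) (.n .g true (.n .h true .o .o) (.n .h true .o .o)))) .o) t1_13) t1_14))

def t1_T : MF :=
  (.p true (.n .a true (.n .e true (.n .h true .o .o) (.n .g true (.n .h true .o .o) (.n .h true .o .o))) (.n .e
  true (.n .g false (.n .h true .o .o) (.n .h true .o .o)) (.n .g true (.n .h true .o .o) (.n .h true .o .o))))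
  (.n .e (.n .g (.n .h (.w t1_16 .o) .o) .o) .o))

def l1 : List ℕ :=
  [133027, 133030, 133031, 133034, 133035, 133038, 133039, 133046, 133047, 133050, 133051, 133054, 133055, 162784,
  162785, 162788, 162789, 162792, 162793, 162796, 162797, 162800, 162801, 162804, 162805, 162808, 162809, 162812,
  162813, 252960, 252961, 252964, 252965, 252968, 252969, 252972, 252973, 252976, 252977, 252980, 252981, 252984,
  252985, 252988, 252989, 83971, 83974, 83975, 83978, 83979, 83983, 83986, 83987, 83990, 83991, 83994, 83995,
  83998, 83999, 139810, 139811, 139814, 139815, 139818, 139819, 139822, 139823, 139826, 139827, 139830, 139831,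
  139834, 139835, 139838, 139839, 253472, 253473, 253476, 253477, 253480, 253481, 253484, 253485, 253488, 253489,
  253492, 253496, 253497, 253500, 253501, 62306, 62307, 62310, 62311, 62314, 62315, 62318, 62319, 62322, 62323,
  62327, 62330, 62331, 62334, 114594, 114595, 114598, 114599, 114603, 114606, 114610, 114611, 114614, 114615,
  114618, 114619, 114622, 114623, 139298, 139302, 139303, 139306, 139307, 139310, 139311, 139314, 139315, 139318,
  139319, 139322, 139326, 139327, 83842, 83843, 83847, 83851, 83854, 83855, 83858, 83862, 83863, 83866, 83867,
  83870, 83871, 89058, 89062, 89066, 89067, 89070, 89071, 89074, 89078, 89079, 89082, 89083, 89086, 89087, 92771,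
  92774, 92775, 92778, 92779, 92786, 92787, 92790, 92791, 92794, 92795, 92798, 92799, 108802, 108803, 108806,
  108807, 108810, 108811, 108814, 108815, 108818, 108831, 108822, 108827, 108830, 113571, 113574, 113575, 113578,
  113582, 113583, 113586, 113587, 113590, 113591, 113594, 113598, 113599, 106816, 106817, 106820, 106821, 106824,
  106825, 106828, 106829, 106832, 106833, 106836, 106837, 106840, 106841, 106844, 106845, 259168, 259169, 259172,
  259173, 259176, 259177, 259180, 259181, 259184, 259185, 259188, 259189, 259192, 259193, 259196, 151777, 151780,
  151781, 151784, 151785, 151788, 151789, 151792, 151796, 151797, 151800, 151801, 151804, 151805, 30528, 30529,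
  30532, 30533, 30536, 30537, 30540, 30541, 30544, 30545, 30548, 30549, 30552, 30553, 30556, 30557, 10400, 10401,
  10404, 10405, 10408, 10409, 10413, 10416, 10417, 10420, 10421, 10424, 10425, 10428, 10429, 25602, 25603, 25606,
  25607, 25610, 25611, 25614, 25615, 25618, 25619, 25622, 25623, 25627, 25630, 25631, 147170, 147171, 147174,
  147175, 147178, 147179, 147182, 147183, 147186, 147187, 147190, 147191, 147194, 147195, 147199, 26339, 26342,
  26343, 26346, 26347, 26350, 26351, 26354, 26358, 26359, 26362, 26363, 26366, 26367, 168001, 168004, 168005,
  168008, 168009, 168012, 168013, 168016, 168017, 168020, 168021, 168024, 168025, 168028, 168029, 20224, 20225,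
  20228, 20229, 20233, 20236, 20237, 20248, 20241, 20244, 20245, 20249, 20252, 20253, 134912, 134913, 134916,
  134917, 134920, 134921, 134924, 134925, 134928, 134932, 134933, 134936, 134937, 134941, 172576, 172577, 172580,
  172581, 172584, 172585, 172588, 172589, 172592, 172593, 172597, 172600, 172604, 172605, 23074, 23075, 23078,
  23082, 23086, 23087, 23090, 23091, 23094, 23098, 23099, 23102, 23103, 24768, 24772, 24773, 24776, 24777, 24780,
  24784, 24788, 24789, 24792, 24793, 24796, 24797, 23776, 23777, 23780, 23781, 23784, 23788, 23792, 23793, 23797,
  23800, 23801, 23805, 90561, 90568, 90569, 90572, 90573, 90576, 90577, 90580, 90581, 90584, 90585, 90588, 73442,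
  73443, 73447, 73450, 73451, 73454, 73455, 73458, 73459, 73462, 73463, 73466, 73467, 73470, 135553, 135556,
  135560, 135561, 135565, 135568, 135569, 135572, 135573, 135576, 135577, 135580, 135581, 71522, 71526, 71534,
  71535, 71538, 71539, 71542, 71543, 71546, 71547, 71550, 71551, 93539, 93542, 93543, 93546, 93547, 93550, 93551,
  93554, 93555, 93559, 93562, 93563, 103941, 103944, 103945, 103948, 103949, 103952, 103953, 103956, 103957,
  103960, 103961, 103964, 111968, 111973, 111976, 111977, 111981, 111984, 111985, 111988, 111989, 111993, 111996,
  111997, 76802, 76803, 76806, 76810, 76814, 76819, 76823, 76826, 76827, 76830, 76831, 145312, 145313, 145316,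
  145317, 145324, 145325, 145332, 145333, 145336, 145337, 145340, 145341, 150914, 150918, 150919, 150922, 150923,
  150926, 150930, 150935, 150938, 150939, 150942, 150943, 180224, 180225, 180228, 180229, 180232, 180233, 180240,
  180241, 180244, 180245, 180249, 180253, 22913, 22917, 22920, 22921, 22924, 22925, 22928, 22929, 22932, 22940,
  22941, 23520, 23524, 23525, 23528, 23529, 23532, 23533, 23536, 23537, 23544, 23548, 23808, 23809, 23813, 23817,
  23820, 23821, 23825, 23829, 23833, 23836, 23837, 26688, 26693, 26697, 26704, 26705, 26708, 26709, 26712, 26713,
  26716, 26717, 118208, 118213, 118216, 118217, 118220, 118224, 118225, 118228, 118232, 118233, 118237, 136577,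
  136580, 136581, 136584, 136593, 136596, 136597, 136600, 136601, 136604, 136605, 157729, 157732, 157733, 157740,
  157744, 157745, 157749, 157752, 157753, 157756, 157757, 24865, 24868, 24869, 24876, 24877, 24880, 24884, 24888,
  24892, 24893, 104128, 104129, 104137, 104140, 104145, 104149, 104152, 104153, 104156, 104157, 110693, 110696,
  110700, 110701, 110704, 110708, 110709, 110712, 110716, 110717, 115937, 115941, 115948, 115949, 115952, 115953,
  115956, 115957, 115961, 115965, 120577, 120580, 120581, 120585, 120589, 120593, 120596, 120600, 120601, 120604,
  128928, 128933, 128937, 128940, 128941, 128944, 128948, 128949, 128952, 128956, 135360, 135361, 135364, 135365,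
  135369, 135373, 135377, 135380, 135384, 135385, 147297, 147300, 147308, 147312, 147316, 147317, 147320, 147321,
  147324, 147325, 31392, 31393, 31396, 31397, 31400, 31401, 31405, 31408, 31409, 31412, 31413, 31417, 31420,
  31421, 171490, 171491, 171494, 171495, 171498, 171499, 171502, 171503, 171506, 171507, 171510, 171514, 171518,
  171519, 10368, 10369, 10372, 10373, 10377, 10380, 10381, 10384, 10388, 10392, 10393, 10396, 10397, 27618, 27619,
  27623, 27627, 27630, 27634, 27635, 27638, 27639, 27642, 27643, 27646, 27647, 28640, 28644, 28648, 28649, 28652,
  28653, 28656, 28657, 28660, 28661, 28664, 28665, 28668, 29215, 29187, 29190, 29191, 29194, 29195, 29198, 29199,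
  29202, 29203, 29207, 29211, 29214, 153155, 153158, 153159, 153162, 153163, 153166, 153167, 153170, 153171,
  153175, 153179, 153182, 153183, 27330, 27331, 27334, 27335, 27338, 27342, 27343, 27347, 27351, 27354, 27355,
  27358, 137538, 137539, 137542, 137543, 137546, 137550, 137551, 137554, 137555, 137559, 137562, 137563, 164066,
  164070, 164071, 164074, 164075, 164078, 164079, 164082, 164086, 164090, 164094, 164095, 263970, 263971, 263974,
  263975, 263978, 263982, 263986, 263987, 263994, 263995, 263998, 263999, 10467, 10470, 10471, 10474, 10483,
  10486, 10487, 10490, 10491, 10494, 10495, 28384, 28385, 28389, 28396, 28397, 28400, 28401, 28405, 28408, 28409,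
  28412, 28768, 28769, 28773, 28777, 28780, 28781, 28785, 28789, 28792, 28793, 28797, 30401, 30404, 30405, 30408,
  30409, 30412, 30416, 30417, 30420, 30424, 30425, 262114, 262115, 262119, 262122, 262123, 262127, 262131, 262134,
  262138, 262139, 254658, 254659, 254662, 254663, 254666, 254667, 254670, 254674, 254675, 254678, 254679, 254682,
  254683, 254686, 73024, 73025, 73028, 73029, 73032, 73033, 73037, 73040, 73041, 73044, 73045, 73049, 73052,
  80320, 80321, 80324, 80325, 80329, 80332, 80333, 80336, 80337, 80340, 80344, 80345, 80348, 118688, 118689,
  118692, 118693, 118700, 118704, 118705, 118708, 118709, 118712, 118713, 118716, 118717, 258274, 258275, 258278,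
  258282, 258283, 258286, 258287, 258290, 258294, 258295, 258299, 258302, 258303, 258913, 258917, 258920, 258924,
  258925, 258928, 258929, 258932, 258933, 258936, 258937, 258940, 258941, 84608, 84609, 84613, 84616, 84621,
  84625, 84628, 84629, 84632, 84633, 84636, 84637, 135136, 135137, 135140, 135141, 135144, 135145, 135152, 135153,
  135156, 135161, 135164, 135165, 256896, 256897, 256901, 256904, 256905, 256909, 256912, 256916, 256917, 256921,
  256924, 256925, 257025, 257028, 257029, 257032, 257033, 257036, 257037, 257040, 257041, 257044, 257052, 257053,
  62592, 62593, 62596, 62600, 62601, 62604, 62605, 62612, 62617, 62620, 62621, 89123, 89126, 89134, 89135, 89138,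
  89139, 89142, 89146, 89147, 89150, 89151, 115328, 115329, 115332, 115333, 115337, 115345, 115348, 115352,
  115353, 115356, 115357, 123649, 123652, 123653, 123656, 123660, 123661, 123665, 123669, 123672, 123676, 123677,
  136932, 136936, 136937, 136941, 136944, 136948, 136949, 136952, 136953, 136956, 136957, 140097, 140100, 140104,
  140105, 140108, 140109, 140112, 140116, 140120, 140124, 140125, 93380, 93381, 93384, 93385, 93393, 93396, 93397,
  93401, 93404, 93405, 254528, 254529, 254532, 254533, 254536, 254537, 254540, 254541, 254545, 254552, 256960,
  256961, 256964, 256968, 256969, 256973, 256977, 256981, 256984, 256985, 252451, 252454, 252455, 252458, 252462,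
  252463, 252467, 252470, 252471, 252474, 252475, 252478, 252479, 83779, 83782, 83786, 83787, 83790, 83794, 83798,
  83799, 83802, 83803, 83806, 83807, 97603, 97606, 97607, 97614, 97618, 97619, 97622, 97623, 97626, 97627, 97630,
  97631, 97890, 97891, 97895, 97898, 97902, 97903, 97906, 97907, 97911, 97914, 97915, 97919, 104802, 104803,
  104806, 104807, 104811, 104814, 104818, 104823, 104826, 104827, 104830, 104831, 253152, 253153, 253156, 253157,
  253161, 253164, 253165, 253168, 253172, 253176, 253177, 253181, 253985, 253988, 253989, 253992, 253996, 253997,
  254000, 254001, 254004, 254009, 254012, 254013, 93186, 93187, 93190, 93191, 93194, 93195, 93198, 93199, 93207,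
  93211, 93214, 252003, 252006, 252007, 252011, 252014, 252015, 252019, 252022, 252026, 252027, 252031, 100643,
  100646, 100647, 100650, 100651, 100654, 100658, 100663, 100666, 100670, 149344, 149348, 149349, 149352, 149353,
  149356, 149357, 149360, 149361, 149364, 149368, 149369, 149372, 149373, 149920, 149921, 149924, 149928, 149929,
  149932, 149933, 149936, 149940, 149941, 149944, 149945, 149948, 149949, 252896, 252897, 252900, 252901, 252904,
  252905, 252909, 252912, 252916, 252917, 252920, 252921, 252924, 252925, 253186, 253187, 253190, 253191, 253194,
  253195, 253198, 253202, 253203, 253206, 253207, 253210, 253211, 253215, 124642, 124643, 124647, 124650, 124651,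
  124654, 124655, 124659, 124662, 124666, 124667, 124670, 124671, 146626, 146630, 146634, 146635, 146638, 146639,
  146643, 146646, 146647, 146650, 146651, 146654, 146655, 72450, 72451, 72454, 72455, 72458, 72462, 72463, 72466,
  72471, 72474, 72475, 72478, 101282, 101283, 101286, 101290, 101294, 101295, 101298, 101303, 101306, 101307,
  101310, 101311, 113122, 113123, 113126, 113130, 113134, 113139, 113142, 113143, 113146, 113147, 113150, 113151,
  133382, 133386, 133387, 133391, 133394, 133395, 133398, 133399, 133402, 133403, 133406, 133407, 153696, 153697,
  153701, 153708, 153725, 153712, 153713, 153716, 153717, 153720, 153721, 153724, 252160, 252168, 252169, 252172,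
  252173, 252177, 252180, 252181, 252184, 252185, 252188, 252189, 252547, 252550, 252551, 252555, 252558, 252559,
  252562, 252566, 252567, 252571, 252574, 252575, 75746, 75751, 75754, 75755, 75759, 75762, 75763, 75766, 75767,
  75771, 75774, 101443, 101446, 101447, 101450, 101451, 101454, 101455, 101458, 101459, 101462, 101470, 132801,
  132804, 132805, 132808, 132813, 132817, 132821, 132824, 132825, 132828, 132829, 166336, 166337, 166340, 166341,
  166348, 166349, 166352, 166353, 166356, 166357, 166365, 253059, 253083, 253063, 253066, 253067, 253074, 253075,
  253078, 253079, 253082, 253087, 114498, 114502, 114510, 114511, 114514, 114515, 114519, 114522, 114526, 114527,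
  170016, 170017, 170020, 170024, 170025, 170032, 170033, 170037, 170040, 170045, 253954, 253955, 253966, 253970,
  253971, 253974, 253975, 253979, 253982, 253983]

def t2_0 : MF :=
  (.n .f (.n .i (.w (.p true (.n .a true (.n .e false (.n .g true (.n .h true .o .o) (.n .h true .o .o)) (.n .g
  false (.n .h true .o .o) (.n .h true .o .o))) (.n .e false (.n .g false (.n .h true .o .o) (.n .h true .o .o))
  (.n .g true .o (.n .h true .o .o)))) .o) .o) (.n .j (.n .k (.w (.p true (.n .a true (.n .e true (.n .g true (.n
  .h true .o .o) (.n .h true .o .o)) (.n .g true (.n .h true .o .o) .o)) (.n .e false (.n .g true (.n .h true .o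
  .o) (.n .h true .o .o)) (.n .g false (.n .h true .o .o) (.n .h true .o .o)))) .o) .o) .o) .o)) (.n .i (.w (.p
  false (.n .a true (.n .e true (.n .g false (.n .h true .o .o) .o) (.n .g true .o .o)) (.n .e true (.n .g true
  (.n .h true .o .o) .o) (.n .g false (.n .h true .o .o) (.n .h true .o .o)))) .o) .o) (.n .j (.w (.p true (.n .a
  false (.n .e true (.n .g true (.n .h true .o .o) .o) (.n .g false (.n .h true .o .o) .o)) (.n .e true (.n .g
  true (.n .h true .o .o) (.n .h true .o .o)) (.n .g false (.n .h true .o .o) (.n .h true .o .o)))) .o) (.n .i (.w
  (.p false (.n .a false (.n .e false (.n .g true .o .o) (.n .g false (.n .h true .o .o) .o)) (.n .e true (.n .g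
  true .o .o) (.n .g true .o (.n .h true .o .o)))) .o) (.n .k (.w (.p true (.n .a false (.n .e true (.n .g false
  (.n .h true .o .o) .o) (.n .h true .o .o)) (.n .e true (.n .g false (.n .h true .o .o) (.n .h true .o .o)) (.n
  .g true (.n .h true .o .o) .o))) .o) .o) .o)) (.n .k (.w (.p true (.n .a false (.n .e false (.n .g true .o (.n
  .h true .o .o)) (.n .g true .o .o)) (.n .e true (.n .g true (.n .h true .o .o) (.n .h true .o .o)) (.n .h true
  .o .o))) .o) .o) .o))) (.n .k (.w (.p true (.n .a true (.n .e false (.n .g false (.n .h true .o .o) (.n .h true
  .o .o)) (.n .g false (.n .h true .o .o) (.n .h true .o .o))) (.n .e true (.n .g true (.n .h true .o .o) .o) (.n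
  .g true (.n .h true .o .o) (.n .h true .o .o)))) .o) .o) .o))))

def t2_1 : MF :=
  (.n .d (.w (.p false (.n .a true (.n .e false (.n .g false (.n .h true .o .o) .o) (.n .g true .o .o)) (.n .e
  true (.n .g false (.n .h true .o .o) (.n .h true .o .o)) (.n .g true .o (.n .h true .o .o)))) .o) t2_0) (.n .f
  (.n .i (.n .k (.w (.p false (.n .a false (.n .e true (.n .g true .o (.n .h true .o .o)) (.n .g false (.n .h true
  .o .o) .o)) (.n .e true (.n .g true (.n .h true .o .o) (.n .h true .o .o)) (.n .g false (.n .h true .o .o) (.n
  .h true .o .o)))) .o) .o) .o) (.n .k (.w (.p true (.n .a true (.n .e true (.n .g true .o (.n .h true .o .o)) (.n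
  .g true (.n .h true .o .o) .o)) (.n .e false (.n .g false (.n .h true .o .o) .o) (.n .h true .o .o))) .o) .o)
  .o)) (.n .i (.w (.p false (.n .a false (.n .e true (.n .g true (.n .h true .o .o) .o) (.n .g true (.n .h true .o
  .o) (.n .h true .o .o))) (.n .e false (.n .g false (.n .h true .o .o) (.n .h true .o .o)) (.n .g false (.n .h
  true .o .o) .o))) .o) (.n .k (.w (.p true (.n .a false (.n .e false (.n .g false (.n .h true .o .o) (.n .h true
  .o .o)) (.n .g false (.n .h true .o .o) (.n .h true .o .o))) (.n .e true (.n .g true (.n .h true .o .o) .o) .o))
  .o) .o) .o)) (.n .k (.w (.p true (.n .a true (.n .e false (.n .g true (.n .h true .o .o) (.n .h true .o .o)) (.n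
  .g true (.n .h true .o .o) (.n .h true .o .o))) (.n .e true (.n .g false (.n .h true .o .o) (.n .h true .o .o))
  (.n .g true .o (.n .h true .o .o)))) .o) .o) .o))))

def t2_2 : MF :=
  (.n .d (.w (.p true (.n .a false (.n .e false (.n .g false (.n .h true .o .o) (.n .h true .o .o)) .o) (.n .e
  true (.n .g true .o .o) (.n .g true (.n .h true .o .o) (.n .h true .o .o)))) .o) (.n .f (.w (.p true (.n .a
  false (.n .e false (.n .h true .o .o) (.n .g true .o .o)) (.n .e false (.n .g true (.n .h true .o .o) .o) (.n .g
  false (.n .h true .o .o) .o))) .o) (.n .j (.w (.p true (.n .a true (.n .e true .o (.n .h true .o .o)) (.n .e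
  false (.n .g true .o .o) (.n .h true .o .o))) .o) .o) .o)) (.n .j (.w (.p true (.n .a true (.n .e true (.n .g
  true .o .o) (.n .g true .o .o)) (.n .e true (.n .g true (.n .h true .o .o) .o) (.n .h true .o .o))) .o) (.n .k
  (.w (.p true (.n .a true (.n .e true (.n .g true .o (.n .h true .o .o)) (.n .g true .o (.n .h true .o .o))) (.n
  .e false (.n .g true .o .o) .o)) .o) .o) .o)) .o))) (.n .f (.n .i (.w (.p false (.n .a true (.n .e false (.n .g
  true .o .o) (.n .g false (.n .h true .o .o) .o)) (.n .e true (.n .g false (.n .h true .o .o) (.n .h true .o .o))
  (.n .g true .o (.n .h true .o .o)))) .o) (.n .k (.w (.p false (.n .a true (.n .e false (.n .g true .o .o) (.n .h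
  true .o .o)) (.n .e false (.n .g true .o (.n .h true .o .o)) (.n .g false (.n .h true .o .o) (.n .h true .o
  .o)))) .o) .o) .o)) (.n .j (.n .i (.n .k (.w (.p false (.n .a false (.n .e true (.n .g true (.n .h true .o .o)
  .o) (.n .g false (.n .h true .o .o) .o)) (.n .e true (.n .g true .o .o) (.n .g false (.n .h true .o .o) (.n .h
  true .o .o)))) .o) .o) .o) (.n .k (.w (.p true (.n .a false (.n .e false (.n .g false (.n .h true .o .o) .o) (.n
  .h true .o .o)) (.n .e true (.n .g true .o .o) (.n .g false (.n .h true .o .o) (.n .h true .o .o)))) .o) .o)
  .o)) .o)) (.n .i (.w (.p true (.n .a true (.n .e true .o (.n .g true (.n .h true .o .o) (.n .h true .o .o))) (.n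
  .e false (.n .g false (.n .h true .o .o) .o) .o)) .o) (.n .k (.w (.p true (.n .a false (.n .e true .o (.n .g
  true .o .o)) (.n .g true .o (.n .h true .o .o))) .o) .o) .o)) .o)))

def t2_3 : MF :=
  (.n .d (.n .f (.n .k (.w (.p false (.n .a true (.n .e false (.n .g false (.n .h true .o .o) .o) .o) (.n .e true
  (.n .g true .o .o) (.n .g true (.n .h true .o .o) .o))) .o) .o) .o) (.n .j (.w (.p false (.n .a false (.n .e
  true .o (.n .g false (.n .h true .o .o) .o)) (.n .e false (.n .g false (.n .h true .o .o) .o) (.n .g true (.n .h
  true .o .o) .o))) .o) .o) .o)) (.n .f (.n .k (.w (.p false (.n .a false (.n .e false (.n .g false (.n .h true .o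
  .o) (.n .h true .o .o)) (.n .g true .o (.n .h true .o .o))) (.n .e false (.n .g true (.n .h true .o .o) .o) .o))
  .o) .o) .o) (.n .i (.w (.p false (.n .a true (.n .e false (.n .g true (.n .h true .o .o) (.n .h true .o .o)) (.n
  .h true .o .o)) (.n .e true (.n .g true .o .o) (.n .g false (.n .h true .o .o) .o))) .o) (.n .k (.w (.p false
  (.n .a false (.n .e true (.n .g true .o (.n .h true .o .o)) (.n .h true .o .o)) (.n .g true .o .o)) .o) .o) .o))
  (.n .j (.n .i (.w (.p false (.n .a false (.n .e true .o .o) (.n .e false (.n .g true (.n .h true .o .o) (.n .h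
  true .o .o)) (.n .g true .o (.n .h true .o .o)))) .o) .o) (.n .k (.w (.p false (.n .a true (.n .e false (.n .g
  false (.n .h true .o .o) (.n .h true .o .o)) (.n .g true .o .o)) (.n .e true (.n .g true .o .o) .o)) .o) .o)
  .o)) (.n .k (.w (.p true (.n .a true (.n .e true .o (.n .g false (.n .h true .o .o) .o)) (.n .e false (.n .g
  false (.n .h true .o .o) .o) (.n .g false (.n .h true .o .o) .o))) .o) .o) .o)))))

def t2_4 : MF :=
  (.n .f (.w (.p false (.n .a false (.n .e true (.n .g true (.n .h true .o .o) .o) (.n .g false (.n .h true .o .o)
  .o)) (.n .e false (.n .h true .o .o) (.n .h true .o .o))) .o) (.n .i (.w (.p false (.n .a false (.n .e true (.n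
  .h true .o .o) (.n .g true (.n .h true .o .o) (.n .h true .o .o))) (.n .e false (.n .g true .o (.n .h true .o
  .o)) (.n .h true .o .o))) .o) .o) (.n .k (.w (.p false (.n .a true (.n .e false (.n .g false (.n .h true .o .o)
  .o) .o) (.n .e true (.n .g false (.n .h true .o .o) .o) (.n .g true .o .o))) .o) .o) .o))) (.n .j (.w (.p false
  (.n .a false (.n .e false (.n .g false (.n .h true .o .o) (.n .h true .o .o)) (.n .g true .o (.n .h true .o
  .o))) (.n .e true (.n .g true (.n .h true .o .o) (.n .h true .o .o)) (.n .g true .o (.n .h true .o .o)))) .o)
  (.n .i (.w (.p false (.n .a false (.n .e true (.n .g false (.n .h true .o .o) .o) (.n .g true .o (.n .h true .o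
  .o))) (.n .e false (.n .g true (.n .h true .o .o) (.n .h true .o .o)) (.n .g false (.n .h true .o .o) (.n .h
  true .o .o)))) .o) (.n .k (.w (.p true (.n .a false (.n .e true (.n .h true .o .o) (.n .g true .o .o)) (.n .e
  true .o (.n .h true .o .o))) .o) .o) .o)) (.n .k (.w (.p true (.n .a true (.n .e true (.n .g true .o .o) (.n .h
  true .o .o)) (.n .e true (.n .g true (.n .h true .o .o) .o) (.n .g true (.n .h true .o .o) (.n .h true .o .o))))
  .o) .o) .o))) (.n .k (.w (.p true (.n .a true (.n .e true (.n .g false (.n .h true .o .o) (.n .h true .o .o))
  (.n .h true .o .o)) (.n .e false (.n .g true (.n .h true .o .o) .o) (.n .g true (.n .h true .o .o) .o))) .o) .o)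
  .o)))

def t2_5 : MF :=
  (.n .d (.w (.p true (.n .a false (.n .e true (.n .h true .o .o) .o) (.n .e false (.n .g true .o .o) (.n .g true
  (.n .h true .o .o) .o))) .o) (.n .f (.w (.p true (.n .a true (.n .e true (.n .g false (.n .h true .o .o) (.n .h
  true .o .o)) (.n .g true (.n .h true .o .o) .o)) (.n .e false (.n .g false (.n .h true .o .o) (.n .h true .o
  .o)) (.n .g true (.n .h true .o .o) (.n .h true .o .o)))) .o) (.n .i (.w (.p true (.n .a false (.n .e false (.n
  .g false (.n .h true .o .o) .o) (.n .g true .o .o)) (.n .e false (.n .g true .o (.n .h true .o .o)) (.n .h true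
  .o .o))) .o) (.n .k (.w (.p true (.n .a false (.n .e true (.n .g true (.n .h true .o .o) (.n .h true .o .o)) .o)
  (.n .e true .o (.n .g true (.n .h true .o .o) (.n .h true .o .o)))) .o) .o) .o)) .o)) (.n .j (.w (.p true (.n .a
  true (.n .e true .o (.n .g true .o .o)) (.n .e true (.n .g false (.n .h true .o .o) (.n .h true .o .o)) (.n .g
  true (.n .h true .o .o) (.n .h true .o .o)))) .o) .o) .o))) (.n .f (.n .i (.n .k (.w (.p false (.n .a false (.n
  .e false (.n .g true .o (.n .h true .o .o)) .o) (.n .e true (.n .g true (.n .h true .o .o) (.n .h true .o .o))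
  (.n .g false (.n .h true .o .o) (.n .h true .o .o)))) .o) .o) .o) (.n .k (.w (.p true (.n .a true (.n .e true
  (.n .g true .o (.n .h true .o .o)) .o) (.n .e false (.n .g true (.n .h true .o .o) (.n .h true .o .o)) (.n .g
  false (.n .h true .o .o) (.n .h true .o .o)))) .o) .o) .o)) (.n .j (.w (.p true (.n .a false (.n .e true (.n .g
  true .o (.n .h true .o .o)) (.n .g false (.n .h true .o .o) (.n .h true .o .o))) (.n .e true (.n .g true .o .o)
  (.n .g true (.n .h true .o .o) (.n .h true .o .o)))) .o) (.n .i (.n .k (.w (.p false (.n .a false (.n .e true
  (.n .h true .o .o) .o) (.n .e true (.n .g false (.n .h true .o .o) .o) (.n .g true .o .o))) .o) .o) .o) .o)) (.n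
  .k (.w (.p false (.n .a false (.n .e false (.n .g true .o .o) (.n .h true .o .o)) (.n .e true (.n .g true .o .o)
  (.n .g true .o .o))) .o) .o) .o))))

def t2_6 : MF :=
  (.n .f (.w (.p true (.n .a false (.n .e true (.n .g true .o .o) .o) (.n .e true (.n .g false (.n .h true .o .o)
  (.n .h true .o .o)) (.n .g true .o (.n .h true .o .o)))) .o) (.n .i (.w (.p false (.n .a false (.n .e false (.n
  .g true .o (.n .h true .o .o)) (.n .g true .o .o)) (.n .e true (.n .g false (.n .h true .o .o) (.n .h true .o
  .o)) (.n .g true (.n .h true .o .o) (.n .h true .o .o)))) .o) (.n .k (.w (.p false (.n .a true (.n .e true (.n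
  .g false (.n .h true .o .o) (.n .h true .o .o)) .o) (.n .e false (.n .g true (.n .h true .o .o) (.n .h true .o
  .o)) (.n .g false (.n .h true .o .o) .o))) .o) .o) .o)) (.n .j (.n .i (.w (.p false (.n .a false (.n .e false
  (.n .h true .o .o) (.n .h true .o .o)) (.n .e true (.n .h true .o .o) (.n .g false (.n .h true .o .o) .o))) .o)
  (.n .k (.w (.p false (.n .a true (.n .e false (.n .g true (.n .h true .o .o) (.n .h true .o .o)) .o) (.n .e
  false (.n .g true .o .o) (.n .g false (.n .h true .o .o) (.n .h true .o .o)))) .o) .o) .o)) .o) (.n .k (.w (.p
  false (.n .a true (.n .e false (.n .g true .o (.n .h true .o .o)) .o) (.n .e true (.n .g true .o .o) (.n .g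
  false (.n .h true .o .o) (.n .h true .o .o)))) .o) .o) .o)))) (.n .j (.w (.p false (.n .a false (.n .e true (.n
  .h true .o .o) (.n .g false (.n .h true .o .o) (.n .h true .o .o))) (.n .e true (.n .g false (.n .h true .o .o)
  (.n .h true .o .o)) (.n .g true .o .o))) .o) (.n .i (.w (.p false (.n .a false (.n .e false (.n .h true .o .o)
  (.n .g false (.n .h true .o .o) .o)) (.n .e false (.n .g true .o .o) (.n .g true (.n .h true .o .o) .o))) .o)
  .o) .o)) (.n .k (.w (.p true (.n .a true (.n .e true (.n .g false (.n .h true .o .o) .o) .o) (.n .e false (.n .g
  true .o .o) .o)) .o) .o) .o)))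

def t2_7 : MF :=
  (.n .f (.n .i (.n .k (.w (.p true (.n .a true (.n .e true (.n .g true .o (.n .h true .o .o)) (.n .g false (.n .h
  true .o .o) .o)) (.n .e true (.n .g false (.n .h true .o .o) (.n .h true .o .o)) (.n .g true .o .o))) .o) .o)
  .o) (.n .j (.n .i (.w (.p true (.n .a true (.n .e false (.n .g true .o (.n .h true .o .o)) (.n .g true .o .o))
  (.n .e true (.n .g true .o .o) (.n .g true .o .o))) .o) (.n .k (.w (.p false (.n .a true (.n .e true (.n .g
  false (.n .h true .o .o) (.n .h true .o .o)) (.n .g true (.n .h true .o .o) .o)) (.n .e false (.n .g true .o .o)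
  .o)) .o) .o) .o)) (.n .k (.w (.p false (.n .a true (.n .e false (.n .g true (.n .h true .o .o) (.n .h true .o
  .o)) .o) (.n .e true (.n .g true .o (.n .h true .o .o)) (.n .g true (.n .h true .o .o) (.n .h true .o .o)))) .o)
  .o) .o)) (.n .k (.w (.p true (.n .a false (.n .e true .o (.n .g true (.n .h true .o .o) (.n .h true .o .o))) (.n
  .e true (.n .g true (.n .h true .o .o) (.n .h true .o .o)) (.n .g false (.n .h true .o .o) .o))) .o) .o) .o)))
  (.n .i (.w (.p false (.n .a true (.n .g true .o (.n .h true .o .o)) (.n .e true (.n .g true .o (.n .h true .o
  .o)) (.n .g true .o .o))) .o) (.n .k (.w (.p false (.n .a false (.n .e false (.n .g true .o .o) (.n .g true .o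
  .o)) (.n .e false (.n .g true (.n .h true .o .o) (.n .h true .o .o)) (.n .g true .o .o))) .o) .o) .o)) (.n .j
  (.n .i (.w (.p true (.n .a true (.n .e false (.n .g false (.n .h true .o .o) .o) (.n .g true .o (.n .h true .o
  .o))) (.n .e false (.n .g true .o (.n .h true .o .o)) (.n .g true .o .o))) .o) (.n .k (.w (.p true (.n .a false
  (.n .e true (.n .g false (.n .h true .o .o) .o) (.n .g false (.n .h true .o .o) .o)) (.n .e false (.n .g false
  (.n .h true .o .o) .o) (.n .h true .o .o))) .o) .o) .o)) .o) .o)))

def t2_8 : MF :=
  (.w (.p true (.n .a false (.n .e true (.n .g true .o .o) .o) (.n .e true (.n .g true .o (.n .h true .o .o)) (.n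
  .g true .o .o))) .o) (.n .d (.n .f (.n .i (.n .k (.w (.p true (.n .a true (.n .e true (.n .g false (.n .h true
  .o .o) .o) .o) (.n .e false (.n .g true .o .o) .o)) .o) .o) .o) (.n .j (.n .i (.w (.p false (.n .a true (.n .e
  true (.n .h true .o .o) (.n .g false (.n .h true .o .o) .o)) (.n .e false (.n .g true (.n .h true .o .o) (.n .h
  true .o .o)) (.n .g true (.n .h true .o .o) .o))) .o) (.n .k (.w (.p true (.n .a false (.n .e true (.n .g true
  (.n .h true .o .o) .o) (.n .g true .o .o)) (.n .e false (.n .g true .o .o) (.n .g true (.n .h true .o .o) .o)))
  .o) .o) .o)) .o) (.n .k (.w (.p false (.n .a true (.n .e false (.n .g true .o .o) .o) (.n .e false (.n .g false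
  (.n .h true .o .o) (.n .h true .o .o)) (.n .h true .o .o))) .o) .o) .o))) (.n .j (.w (.p true (.n .a true (.n .e
  true (.n .g true (.n .h true .o .o) .o) (.n .g true .o .o)) (.n .e true (.n .g true .o (.n .h true .o .o)) .o))
  .o) (.n .i (.w (.p true (.n .a false (.n .e true (.n .g false (.n .h true .o .o) (.n .h true .o .o)) .o) (.n .e
  false (.n .g false (.n .h true .o .o) (.n .h true .o .o)) (.n .g false (.n .h true .o .o) .o))) .o) .o) .o)) (.n
  .k (.w (.p true (.n .a false (.n .e false (.n .g false (.n .h true .o .o) (.n .h true .o .o)) (.n .g false (.n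
  .h true .o .o) (.n .h true .o .o))) (.n .e false (.n .h true .o .o) (.n .g true .o .o))) .o) .o) .o))) t2_7))

def t2_9 : MF :=
  (.n .i (.w (.p false (.n .a false (.n .e false (.n .g false (.n .h true .o .o) (.n .h true .o .o)) (.n .g true
  .o .o)) (.n .e false (.n .g false (.n .h true .o .o) .o) (.n .g false (.n .h true .o .o) (.n .h true .o .o))))
  .o) (.n .k (.w (.p false (.n .a false (.n .e false (.n .h true .o .o) (.n .g false (.n .h true .o .o) (.n .h
  true .o .o))) (.n .g false (.n .h true .o .o) (.n .h true .o .o))) .o) .o) .o)) (.n .k (.w (.p false (.n .a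
  false (.n .e false (.n .g true .o (.n .h true .o .o)) (.n .g true .o (.n .h true .o .o))) (.n .e false (.n .g
  true (.n .h true .o .o) (.n .h true .o .o)) (.n .g true .o .o))) (.n .a (.n .e (.n .g (.w (.n .b t2_8 (.n .d (.w
  (.p false (.n .a true (.n .e true (.n .g true .o .o) (.n .g true .o .o)) (.n .g false (.n .h true .o .o) (.n .h
  true .o .o))) .o) (.n .f (.w (.p true (.n .a true (.n .e false (.n .g false (.n .h true .o .o) (.n .h true .o
  .o)) (.n .h true .o .o)) (.n .e true (.n .h true .o .o) (.n .h true .o .o))) .o) (.n .i (.n .k (.w (.p false (.n
  .a true (.n .e true (.n .g true .o .o) (.n .g true .o .o)) (.n .e false (.n .g false (.n .h true .o .o) .o) (.n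
  .h true .o .o))) .o) .o) .o) (.n .j (.n .i (.w (.p false (.n .a false (.n .e true (.n .g true .o .o) (.n .g true
  .o (.n .h true .o .o))) (.n .g true (.n .h true .o .o) .o)) .o) .o) .o) .o))) (.n .i (.w (.p true (.n .a true
  (.n .e false (.n .g true .o .o) (.n .g true (.n .h true .o .o) (.n .h true .o .o))) (.n .e false (.n .g false
  (.n .h true .o .o) .o) .o)) .o) .o) (.n .j (.w (.p false (.n .a true (.n .e false (.n .g true .o (.n .h true .o
  .o)) (.n .g true .o .o)) (.n .e false (.n .g true .o (.n .h true .o .o)) .o)) .o) .o) .o)))) t2_6)) .o) .o) .o)
  .o)) .o) .o))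

def t2_10 : MF :=
  (.n .f (.n .j (.w (.p false (.n .a false (.n .e false (.n .g false (.n .h true .o .o) .o) (.n .g false (.n .h
  true .o .o) (.n .h true .o .o))) (.n .e false (.n .g false (.n .h true .o .o) .o) (.n .g true (.n .h true .o .o)
  (.n .h true .o .o)))) .o) (.n .i (.n .k (.w (.p false (.n .a false (.n .e true (.n .g true .o .o) (.n .g false
  (.n .h true .o .o) .o)) (.n .e false (.n .g true .o .o) (.n .g true (.n .h true .o .o) (.n .h true .o .o)))) .o)
  .o) .o) (.n .k (.w (.p true (.n .a true (.n .e true (.n .g false (.n .h true .o .o) .o) (.n .g true .o (.n .h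
  true .o .o))) (.n .e false (.n .g true .o (.n .h true .o .o)) (.n .g true (.n .h true .o .o) .o))) .o) .o) .o)))
  .o) (.n .i (.w (.p false (.n .a true (.n .e true (.n .g false (.n .h true .o .o) .o) (.n .g false (.n .h true .o
  .o) (.n .h true .o .o))) (.n .e false (.n .g true .o .o) (.n .g false (.n .h true .o .o) .o))) .o) (.n .k (.w
  (.p false (.n .a false (.n .e true (.n .g true .o .o) .o) (.n .e true (.n .g true .o .o) (.n .g false (.n .h
  true .o .o) (.n .h true .o .o)))) .o) .o) .o)) (.n .j (.n .i (.w (.p false (.n .a true (.n .e true (.n .g true
  (.n .h true .o .o) (.n .h true .o .o)) (.n .g true (.n .h true .o .o) (.n .h true .o .o))) (.n .e true (.n .g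
  true .o .o) (.n .g true .o (.n .h true .o .o)))) .o) .o) (.n .k (.w (.p false (.n .a true (.n .e true (.n .g
  false (.n .h true .o .o) .o) (.n .g true .o (.n .h true .o .o))) (.n .e true (.n .h true .o .o) .o)) .o) .o)
  .o)) .o)))

def t2_11 : MF :=
  (.n .d (.w (.p true (.n .a true (.n .e false (.n .g false (.n .h true .o .o) (.n .h true .o .o)) (.n .h true .o
  .o)) (.n .e true (.n .g true .o (.n .h true .o .o)) (.n .g false (.n .h true .o .o) .o))) .o) (.n .f (.n .j (.n
  .i (.w (.p true (.n .a false (.n .e true (.n .g false (.n .h true .o .o) (.n .h true .o .o)) (.n .g true (.n .h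
  true .o .o) .o)) (.n .e false (.n .g false (.n .h true .o .o) (.n .h true .o .o)) .o)) .o) (.n .k (.w (.p true
  (.n .a false (.n .e false (.n .g true .o (.n .h true .o .o)) (.n .g true .o (.n .h true .o .o))) (.n .e true .o
  (.n .g true .o .o))) .o) .o) .o)) .o) (.n .k (.w (.p true (.n .a true (.n .e true (.n .h true .o .o) (.n .h true
  .o .o)) (.n .e true (.n .h true .o .o) (.n .h true .o .o))) .o) .o) .o)) (.n .i (.w (.p true (.n .a false (.n .g
  true .o .o) (.n .e true .o (.n .g false (.n .h true .o .o) (.n .h true .o .o)))) .o) .o) (.n .j (.w (.p true (.n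
  .a false (.n .e true (.n .h true .o .o) (.n .g false (.n .h true .o .o) (.n .h true .o .o))) (.n .g true (.n .h
  true .o .o) .o)) .o) t2_9) (.n .k (.w (.p false (.n .a false (.n .e false (.n .g false (.n .h true .o .o) (.n .h
  true .o .o)) (.n .g true (.n .h true .o .o) (.n .h true .o .o))) (.n .e true (.n .g true (.n .h true .o .o) (.n
  .h true .o .o)) (.n .g true .o .o))) .o) .o) .o))))) (.n .f (.n .j (.n .i (.n .k (.w (.p false (.n .a true (.n
  .e false (.n .g false (.n .h true .o .o) (.n .h true .o .o)) (.n .g true (.n .h true .o .o) .o)) (.n .e false
  (.n .h true .o .o) (.n .g true .o .o))) .o) .o) .o) .o) .o) (.n .j (.n .i (.w (.p true (.n .a false (.n .e true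
  (.n .g true .o .o) (.n .h true .o .o)) (.n .e false (.n .g false (.n .h true .o .o) .o) (.n .h true .o .o))) .o)
  .o) (.n .k (.w (.p true (.n .a false (.n .e false (.n .g false (.n .h true .o .o) .o) (.n .g true (.n .h true .o
  .o) (.n .h true .o .o))) (.n .e true (.n .g false (.n .h true .o .o) (.n .h true .o .o)) (.n .g false (.n .h
  true .o .o) .o))) .o) .o) .o)) .o)))

def t2_12 : MF :=
  (.n .f (.w (.p true (.n .a true (.n .e true .o (.n .g true .o (.n .h true .o .o))) (.n .e true (.n .g true .o
  .o) (.n .h true .o .o))) .o) (.n .i (.n .k (.w (.p true (.n .a true (.n .e false (.n .g true (.n .h true .o .o)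
  (.n .h true .o .o)) (.n .g true (.n .h true .o .o) .o)) (.n .e true (.n .g true .o (.n .h true .o .o)) (.n .g
  true (.n .h true .o .o) (.n .h true .o .o)))) .o) .o) .o) (.n .k (.w (.p true (.n .a true (.n .e true (.n .g
  true .o .o) (.n .g true .o .o)) (.n .e false (.n .h true .o .o) (.n .g true .o (.n .h true .o .o)))) .o) .o)
  .o))) (.n .i (.w (.p true (.n .a true (.n .e false (.n .g true .o .o) .o) (.n .e true (.n .g false (.n .h true
  .o .o) (.n .h true .o .o)) (.n .g true (.n .h true .o .o) .o))) .o) (.n .k (.w (.p true (.n .a true (.n .e true
  (.n .h true .o .o) (.n .g true (.n .h true .o .o) .o)) (.n .e true (.n .g true (.n .h true .o .o) .o) (.n .g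
  true (.n .h true .o .o) (.n .h true .o .o)))) .o) .o) .o)) (.n .j (.w (.p true (.n .a false (.n .e false (.n .h
  true .o .o) (.n .g true .o .o)) (.n .e false (.n .g true (.n .h true .o .o) (.n .h true .o .o)) (.n .h true .o
  .o))) .o) (.n .i (.w (.p true (.n .a true (.n .e false (.n .h true .o .o) .o) (.n .e true (.n .g true (.n .h
  true .o .o) .o) (.n .g false (.n .h true .o .o) .o))) .o) (.n .k (.w (.p true (.n .a true (.n .e false (.n .h
  true .o .o) (.n .g false (.n .h true .o .o) .o)) (.n .e false (.n .g true .o (.n .h true .o .o)) (.n .g true .o
  (.n .h true .o .o)))) .o) .o) .o)) (.n .k (.w (.p true (.n .a false (.n .e true (.n .g true (.n .h true .o .o)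
  (.n .h true .o .o)) (.n .h true .o .o)) (.n .e true (.n .g true (.n .h true .o .o) (.n .h true .o .o)) .o)) .o)
  .o) .o))) .o)))

def t2_13 : MF :=
  (.p false (.n .a false (.n .e true (.n .g true (.n .h true .o .o) (.n .h true .o .o)) .o) (.n .e true (.n .g
  false (.n .h true .o .o) (.n .h true .o .o)) (.n .g true .o (.n .h true .o .o)))) (.n .a (.n .h (.w (.n .b (.n
  .d (.w (.p true (.n .a false (.n .e false (.n .g false (.n .h true .o .o) .o) (.n .g true .o (.n .h true .o
  .o))) (.n .e true (.n .g false (.n .h true .o .o) (.n .h true .o .o)) (.n .g false (.n .h true .o .o) .o))) .o)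
  (.n .f (.n .j (.w (.p true (.n .a true (.n .e false (.n .h true .o .o) (.n .g false (.n .h true .o .o) (.n .h
  true .o .o))) (.n .e true (.n .g true (.n .h true .o .o) .o) (.n .g true (.n .h true .o .o) (.n .h true .o
  .o)))) .o) (.n .i (.w (.p true (.n .a false (.n .e true (.n .g true .o .o) (.n .g true .o (.n .h true .o .o)))
  (.n .e false (.n .g true .o .o) (.n .g true .o .o))) .o) (.n .k (.w (.p true (.n .a false (.n .e false (.n .g
  true .o (.n .h true .o .o)) (.n .g true (.n .h true .o .o) (.n .h true .o .o))) (.n .e true (.n .g false (.n .h
  true .o .o) .o) (.n .g true .o (.n .h true .o .o)))) .o) .o) .o)) .o)) .o) (.n .j (.n .i (.n .k (.w (.p true (.n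
  .a false (.n .e false (.n .g false (.n .h true .o .o) .o) .o) (.n .e true (.n .h true .o .o) (.n .g true (.n .h
  true .o .o) (.n .h true .o .o)))) .o) .o) .o) .o) (.n .k (.w (.p true (.n .a false (.n .e false (.n .g true .o
  .o) (.n .g true (.n .h true .o .o) .o)) (.n .e true (.n .h true .o .o) (.n .g false (.n .h true .o .o) (.n .h
  true .o .o)))) .o) .o) .o)))) t2_10) t2_11) .o) .o) .o))

def t2_14 : MF :=
  (.n .d (.n .f (.n .i (.n .k (.w (.p true (.n .a false (.n .e true (.n .g false (.n .h true .o .o) .o) (.n .g
  true .o .o)) (.n .e false (.n .g false (.n .h true .o .o) .o) (.n .g false (.n .h true .o .o) (.n .h true .o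
  .o)))) .o) .o) .o) (.n .k (.w (.p true (.n .a true (.n .e true (.n .g true (.n .h true .o .o) (.n .h true .o
  .o)) (.n .g true .o .o)) (.n .e false (.n .g true (.n .h true .o .o) (.n .h true .o .o)) (.n .g true .o .o)))
  .o) .o) .o)) (.n .i (.w (.p true (.n .a true (.n .e true (.n .g false (.n .h true .o .o) (.n .h true .o .o)) (.n
  .g true (.n .h true .o .o) .o)) (.n .e true (.n .g false (.n .h true .o .o) (.n .h true .o .o)) (.n .g false (.n
  .h true .o .o) (.n .h true .o .o)))) .o) .o) (.n .j (.w (.p false (.n .a true (.n .e false (.n .g false (.n .h
  true .o .o) .o) (.n .g true .o .o)) (.n .e false (.n .g true .o (.n .h true .o .o)) (.n .h true .o .o))) .o) (.n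
  .i (.w (.p false (.n .a true (.n .e true (.n .g false (.n .h true .o .o) .o) (.n .g false (.n .h true .o .o) (.n
  .h true .o .o))) (.n .e true (.n .g false (.n .h true .o .o) (.n .h true .o .o)) (.n .g true (.n .h true .o .o)
  (.n .h true .o .o)))) .o) (.n .k (.w (.p false (.n .a true (.n .e true (.n .g true (.n .h true .o .o) .o) (.n .g
  true (.n .h true .o .o) (.n .h true .o .o))) (.n .e true (.n .g false (.n .h true .o .o) .o) .o)) .o) .o) .o))
  .o)) .o))) (.n .f (.w (.p false (.n .a true (.n .e false (.n .g false (.n .h true .o .o) (.n .h true .o .o)) (.n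
  .g false (.n .h true .o .o) (.n .h true .o .o))) (.n .e true (.n .g true (.n .h true .o .o) (.n .h true .o .o))
  (.n .g false (.n .h true .o .o) .o))) .o) (.n .i (.n .k (.w (.p true (.n .a false (.n .e false (.n .g false (.n
  .h true .o .o) .o) (.n .g true .o .o)) (.n .e false (.n .h true .o .o) (.n .g true .o .o))) .o) .o) .o) .o)) (.n
  .i (.n .k (.w (.p true (.n .a true (.n .e true (.n .g true .o .o) (.n .g false (.n .h true .o .o) .o)) (.n .e
  true (.n .g false (.n .h true .o .o) .o) (.n .g true .o .o))) .o) .o) .o) (.n .j (.n .i (.w t2_13 .o) .o) .o))))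

def t2_15 : MF :=
  (.n .f (.n .i (.w (.p true (.n .a true (.n .e true (.n .g true .o .o) (.n .g true (.n .h true .o .o) (.n .h true
  .o .o))) (.n .e false (.n .h true .o .o) (.n .g true (.n .h true .o .o) (.n .h true .o .o)))) .o) (.n .k (.w (.p
  true (.n .a true (.n .e false (.n .g true (.n .h true .o .o) (.n .h true .o .o)) (.n .h true .o .o)) (.n .e true
  .o .o)) .o) .o) .o)) (.n .j (.n .k (.w (.p false (.n .a true (.n .e false (.n .g false (.n .h true .o .o) (.n .h
  true .o .o)) (.n .g true (.n .h true .o .o) (.n .h true .o .o))) (.n .e true (.n .g true .o (.n .h true .o .o))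
  (.n .g true .o (.n .h true .o .o)))) (.n .c (.n .h (.n .l (.w (.n .b (.w (.p false (.n .a false (.n .e true .o
  (.n .g true .o .o)) (.n .e false (.n .g false (.n .h true .o .o) (.n .h true .o .o)) (.n .h true .o .o))) .o)
  t2_2) t2_3) .o) .o) .o) .o)) .o) .o) (.n .k (.w (.p true (.n .a true (.n .e true (.n .h true .o .o) (.n .g false
  (.n .h true .o .o) (.n .h true .o .o))) (.n .e true (.n .g true .o .o) (.n .g true .o .o))) .o) .o) .o))) (.n .i
  (.n .k (.w (.p false (.n .a false (.n .e true (.n .g false (.n .h true .o .o) (.n .h true .o .o)) (.n .h true .o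
  .o)) (.n .e true (.n .h true .o .o) (.n .g true (.n .h true .o .o) (.n .h true .o .o)))) .o) .o) .o) (.n .j (.w
  (.p true (.n .a false (.n .e true (.n .g false (.n .h true .o .o) (.n .h true .o .o)) .o) (.n .e true (.n .g
  true (.n .h true .o .o) (.n .h true .o .o)) (.n .h true .o .o))) .o) (.n .i (.w (.p true (.n .a true (.n .e true
  (.n .g true (.n .h true .o .o) (.n .h true .o .o)) (.n .g true (.n .h true .o .o) .o)) (.n .e false (.n .g true
  (.n .h true .o .o) (.n .h true .o .o)) (.n .h true .o .o))) .o) .o) (.n .k (.w (.p true (.n .a true (.n .e false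
  (.n .g false (.n .h true .o .o) (.n .h true .o .o)) (.n .g true .o (.n .h true .o .o))) (.n .e true (.n .g false
  (.n .h true .o .o) (.n .h true .o .o)) .o)) .o) .o) .o))) .o)))

def t2_16 : MF :=
  (.n .f (.w (.p true (.n .a false (.n .e false (.n .g false (.n .h true .o .o) .o) (.n .g true .o (.n .h true .o
  .o))) (.n .e false (.n .g true .o .o) (.n .g true (.n .h true .o .o) (.n .h true .o .o)))) .o) (.n .i (.w (.p
  false (.n .a true (.n .g true (.n .h true .o .o) .o) (.n .e true (.n .g true .o (.n .h true .o .o)) .o)) .o) (.n
  .k (.w (.p true (.n .a true (.n .e false (.n .g false (.n .h true .o .o) .o) (.n .g true .o .o)) (.n .e true (.n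
  .g true .o (.n .h true .o .o)) (.n .g true (.n .h true .o .o) (.n .h true .o .o)))) .o) .o) .o)) (.n .j (.w (.p
  true (.n .a true (.n .e true (.n .g true (.n .h true .o .o) .o) (.n .g true .o (.n .h true .o .o))) (.n .e false
  (.n .g false (.n .h true .o .o) .o) (.n .g false (.n .h true .o .o) (.n .h true .o .o)))) .o) (.n .i (.w (.p
  true (.n .a true (.n .g true (.n .h true .o .o) .o) (.n .e true (.n .g true (.n .h true .o .o) (.n .h true .o
  .o)) (.n .g false (.n .h true .o .o) (.n .h true .o .o)))) .o) .o) (.n .k (.w (.p false (.n .a false (.n .e
  false (.n .g true .o .o) (.n .g false (.n .h true .o .o) (.n .h true .o .o))) (.n .e true (.n .g true (.n .h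
  true .o .o) .o) (.n .h true .o .o))) .o) .o) .o))) (.n .k (.w (.p true (.n .a false (.n .e false (.n .g false
  (.n .h true .o .o) .o) (.n .g true (.n .h true .o .o) (.n .h true .o .o))) (.n .e false (.n .g false (.n .h true
  .o .o) (.n .h true .o .o)) .o)) .o) .o) .o)))) (.n .i (.n .k (.w (.p true (.n .a false (.n .e true (.n .h true
  .o .o) (.n .g true .o (.n .h true .o .o))) (.n .e true (.n .g true (.n .h true .o .o) (.n .h true .o .o)) (.n .g
  false (.n .h true .o .o) .o))) .o) .o) .o) (.n .j (.n .i (.n .k (.w (.p true (.n .a false (.n .e false (.n .g
  true .o (.n .h true .o .o)) (.n .h true .o .o)) (.n .e false (.n .g true (.n .h true .o .o) .o) (.n .g true .o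
  .o))) .o) .o) .o) .o) (.n .k (.w (.p false (.n .a false (.n .e true (.n .h true .o .o) .o) (.n .e true (.n .g
  true (.n .h true .o .o) .o) (.n .g false (.n .h true .o .o) (.n .h true .o .o)))) .o) .o) .o))))

def t2_17 : MF :=
  (.n .j (.n .i (.w (.p false (.n .a true (.n .e true (.n .g false (.n .h true .o .o) (.n .h true .o .o)) (.n .g
  true .o .o)) (.n .e false (.n .g false (.n .h true .o .o) .o) (.n .g true .o (.n .h true .o .o)))) (.n .a (.n .c
  (.n .e (.n .g (.w (.n .b (.w (.p false (.n .a false (.n .e true (.n .g true .o (.n .h true .o .o)) (.n .g false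
  (.n .h true .o .o) (.n .h true .o .o))) (.n .e true (.n .g false (.n .h true .o .o) .o) (.n .g false (.n .h true
  .o .o) (.n .h true .o .o)))) .o) t2_14) (.n .d t2_12 (.n .f (.w (.p false (.n .a false (.n .e false (.n .g false
  (.n .h true .o .o) .o) (.n .g false (.n .h true .o .o) (.n .h true .o .o))) (.n .e false (.n .g true (.n .h true
  .o .o) (.n .h true .o .o)) (.n .g true .o .o))) .o) .o) (.n .j (.w (.p true (.n .a true (.n .e false (.n .g
  false (.n .h true .o .o) (.n .h true .o .o)) (.n .g true (.n .h true .o .o) (.n .h true .o .o))) (.n .g true .o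
  (.n .h true .o .o))) .o) (.n .i (.n .k (.w (.p false (.n .a true (.n .e false (.n .g true .o (.n .h true .o .o))
  (.n .g false (.n .h true .o .o) (.n .h true .o .o))) (.n .e true (.n .h true .o .o) (.n .g true (.n .h true .o
  .o) (.n .h true .o .o)))) .o) .o) .o) .o)) .o)))) .o) .o) .o) .o) .o)) .o) (.n .k (.w (.p false (.n .a true (.n
  .e false (.n .g true .o .o) (.n .g true (.n .h true .o .o) (.n .h true .o .o))) (.n .e true (.n .g true .o .o)
  .o)) .o) .o) .o)) (.n .k (.w (.p true (.n .a false (.n .e false (.n .g true .o (.n .h true .o .o)) (.n .h true
  .o .o)) (.n .e true (.n .g true .o .o) (.n .g false (.n .h true .o .o) .o))) .o) .o) .o))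

def t2_18 : MF :=
  (.w (.p false (.n .a true (.n .e true (.n .g false (.n .h true .o .o) .o) (.n .g true (.n .h true .o .o) (.n .h
  true .o .o))) (.n .e false (.n .h true .o .o) (.n .g true .o (.n .h true .o .o)))) .o) (.n .i (.n .k (.w (.p
  false (.n .a false (.n .e true (.n .h true .o .o) (.n .g false (.n .h true .o .o) (.n .h true .o .o))) (.n .e
  true (.n .g true (.n .h true .o .o) (.n .h true .o .o)) (.n .g true (.n .h true .o .o) (.n .h true .o .o)))) (.n
  .h (.n .l (.w (.n .b t2_1 (.n .d (.w (.p true (.n .a false (.n .e false (.n .g false (.n .h true .o .o) (.n .h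
  true .o .o)) (.n .g false (.n .h true .o .o) .o)) (.n .e true (.n .g true (.n .h true .o .o) (.n .h true .o .o))
  (.n .g true (.n .h true .o .o) .o))) .o) (.n .f (.w (.p true (.n .a true (.n .e true (.n .g true .o .o) .o) (.n
  .e true .o (.n .g false (.n .h true .o .o) (.n .h true .o .o)))) .o) .o) (.n .j (.w (.p false (.n .a false (.n
  .e true (.n .g true .o .o) (.n .h true .o .o)) (.n .e true (.n .g false (.n .h true .o .o) .o) (.n .g true .o
  (.n .h true .o .o)))) .o) .o) .o))) (.n .f (.n .i (.n .k (.w (.p false (.n .e true (.n .g true (.n .h true .o
  .o) (.n .h true .o .o)) (.n .g true (.n .h true .o .o) .o)) .o) .o) .o) (.n .j (.n .i (.w (.p true (.n .a true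
  (.n .e true (.n .h true .o .o) (.n .h true .o .o)) .o) .o) .o) .o) .o)) .o))) .o) .o) .o)) .o) .o) (.n .k (.w
  (.p true (.n .a true (.n .e true (.n .g true (.n .h true .o .o) .o) .o) (.n .h true .o .o)) .o) .o) .o)))

def t2_19 : MF :=
  (.n .f (.n .i (.w (.p true (.n .a false (.n .e true .o .o) (.n .e false (.n .g false (.n .h true .o .o) .o) (.n
  .g true .o (.n .h true .o .o)))) .o) (.n .k (.w (.p true (.n .a false (.n .e true (.n .g false (.n .h true .o
  .o) (.n .h true .o .o)) (.n .g true (.n .h true .o .o) (.n .h true .o .o))) (.n .e true (.n .g true (.n .h true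
  .o .o) .o) (.n .g true (.n .h true .o .o) .o))) .o) .o) .o)) (.n .j (.w (.p true (.n .a true (.n .e true (.n .h
  true .o .o) (.n .g true (.n .h true .o .o) (.n .h true .o .o))) (.n .e false (.n .g true (.n .h true .o .o) (.n
  .h true .o .o)) (.n .g true (.n .h true .o .o) .o))) .o) (.n .i (.w (.p true (.n .a true (.n .e false (.n .g
  true (.n .h true .o .o) .o) (.n .g true (.n .h true .o .o) (.n .h true .o .o))) (.n .e true (.n .g true .o .o)
  (.n .g true .o .o))) .o) (.n .k (.w (.p false (.n .a false (.n .e false (.n .g true (.n .h true .o .o) .o) (.n
  .h true .o .o)) (.n .e false (.n .g false (.n .h true .o .o) .o) (.n .g false (.n .h true .o .o) .o))) .o) .o)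
  .o)) (.n .k (.w (.p true (.n .a false (.n .e true .o (.n .g false (.n .h true .o .o) (.n .h true .o .o))) (.n .e
  true (.n .g true .o (.n .h true .o .o)) .o)) .o) .o) .o))) .o)) (.n .i (.w (.p false (.n .a true (.n .e true (.n
  .g true (.n .h true .o .o) .o) (.n .g true (.n .h true .o .o) .o)) (.n .e true (.n .h true .o .o) (.n .g true .o
  .o))) .o) (.n .k (.w (.p false (.n .a false (.n .e true (.n .g true (.n .h true .o .o) (.n .h true .o .o)) (.n
  .g false (.n .h true .o .o) .o)) (.n .e false (.n .g true .o .o) (.n .g true (.n .h true .o .o) (.n .h true .o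
  .o)))) .o) .o) .o)) (.n .j (.n .i (.n .k (.w (.p true (.n .a false (.n .e false (.n .g false (.n .h true .o .o)
  .o) (.n .h true .o .o)) (.n .e false (.n .g false (.n .h true .o .o) .o) (.n .g true .o (.n .h true .o .o))))
  .o) .o) .o) .o) .o)))

def t2_20 : MF :=
  (.p false (.n .a true (.n .e true (.n .g false (.n .h true .o .o) (.n .h true .o .o)) (.n .g true (.n .h true .o
  .o) (.n .h true .o .o))) (.n .e true (.n .h true .o .o) (.n .h true .o .o))) (.n .a (.n .e (.w (.n .b t2_5 (.n
  .d (.w (.p true (.n .a true (.n .e false (.n .g true .o (.n .h true .o .o)) (.n .h true .o .o)) (.n .e false (.n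
  .g false (.n .h true .o .o) (.n .h true .o .o)) .o)) .o) t2_4) (.n .f (.w (.p true (.n .a false (.n .e false (.n
  .g true .o (.n .h true .o .o)) (.n .g false (.n .h true .o .o) .o)) (.n .e false (.n .g false (.n .h true .o .o)
  (.n .h true .o .o)) (.n .g true .o (.n .h true .o .o)))) .o) (.n .i (.n .k (.w (.p false (.n .a true (.n .e
  false (.n .g false (.n .h true .o .o) (.n .h true .o .o)) (.n .g true (.n .h true .o .o) .o)) (.n .e false (.n
  .g true (.n .h true .o .o) (.n .h true .o .o)) (.n .h true .o .o))) .o) .o) .o) (.n .k (.w (.p false (.n .a
  false (.n .e true .o (.n .g false (.n .h true .o .o) (.n .h true .o .o))) (.n .e false (.n .g true (.n .h true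
  .o .o) (.n .h true .o .o)) (.n .h true .o .o))) .o) .o) .o))) (.n .i (.n .k (.w (.p false (.n .a false (.n .e
  false (.n .g true (.n .h true .o .o) .o) .o) (.n .e true (.n .g true .o (.n .h true .o .o)) (.n .g false (.n .h
  true .o .o) .o))) .o) .o) .o) (.n .j (.n .k (.w (.p false (.n .a true (.n .e false (.n .g true .o (.n .h true .o
  .o)) .o) (.n .e false (.n .g false (.n .h true .o .o) (.n .h true .o .o)) (.n .g true (.n .h true .o .o) .o)))
  .o) .o) .o) .o))))) .o) .o) .o))

def t2_T : MF :=
  (.p true (.n .a true (.n .e true (.n .g false (.n .h true .o .o) .o) (.n .g true (.n .h true .o .o) (.n .h true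
  .o .o))) (.n .e true .o (.n .g true (.n .h true .o .o) (.n .h true .o .o)))) (.n .c (.n .e (.n .g (.w (.n .b (.w
  t2_20 (.n .d (.w (.p false (.n .a true (.n .e true (.n .g true (.n .h true .o .o) (.n .h true .o .o)) (.n .g
  false (.n .h true .o .o) .o)) (.n .e true (.n .g true .o .o) (.n .g false (.n .h true .o .o) (.n .h true .o
  .o)))) .o) (.n .f (.w (.p false (.n .a true (.n .e true (.n .g true (.n .h true .o .o) (.n .h true .o .o)) (.n
  .g false (.n .h true .o .o) .o)) (.n .g false (.n .h true .o .o) .o)) .o) (.n .i (.w (.p true (.n .a true (.n .e
  false (.n .g true (.n .h true .o .o) .o) (.n .g true .o (.n .h true .o .o))) (.n .e true (.n .h true .o .o) (.n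
  .g true .o .o))) .o) (.n .k (.w (.p false (.n .a false (.n .e false (.n .g true .o (.n .h true .o .o)) (.n .h
  true .o .o)) (.n .e true (.n .g true .o .o) .o)) .o) .o) .o)) (.n .j t2_18 (.n .k (.w (.p false (.n .a true (.n
  .e true (.n .h true .o .o) (.n .g false (.n .h true .o .o) (.n .h true .o .o))) (.n .e true (.n .g false (.n .h
  true .o .o) (.n .h true .o .o)) (.n .g true (.n .h true .o .o) (.n .h true .o .o)))) .o) .o) .o)))) (.n .i (.n
  .k (.w (.p false (.n .a true (.n .e false (.n .g false (.n .h true .o .o) (.n .h true .o .o)) (.n .g true .o
  .o)) (.n .e true (.n .g true (.n .h true .o .o) (.n .h true .o .o)) (.n .g false (.n .h true .o .o) .o))) .o)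
  .o) .o) t2_17))) t2_19)) (.n .d t2_16 t2_15)) .o) .o) .o) .o))

def l2 : List ℕ :=
  [120258, 120259, 120266, 120267, 120270, 120274, 120275, 120278, 120279, 120282, 120283, 115811, 115814, 115815,
  115818, 115819, 115822, 115827, 115830, 115831, 115834, 115838, 115839, 126434, 126435, 126439, 126443, 126446,
  126447, 126450, 126454, 126458, 126459, 126462, 126463, 164833, 164836, 164837, 164840, 164841, 164845, 164848,
  164849, 164852, 164856, 164857, 164861, 106467, 106471, 106474, 106475, 106483, 106486, 106487, 106490, 106491,
  106494, 106495, 160160, 160161, 160164, 160165, 160168, 160169, 160172, 160177, 160180, 160181, 160184, 160188,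
  160189, 260704, 260709, 260708, 260712, 260713, 260716, 260720, 260721, 260725, 260728, 260729, 260732, 260733,
  262560, 262561, 262565, 262569, 262573, 262576, 262577, 262580, 262584, 262585, 262588, 262589, 258050, 258058,
  258055, 258059, 258067, 258070, 258071, 258074, 258075, 258078, 258079, 258742, 258723, 258727, 258730, 258731,
  258734, 258735, 258739, 258743, 258750, 258751, 127169, 127172, 127173, 127176, 127177, 127181, 127184, 127185,
  127192, 127193, 170080, 170081, 170084, 170085, 170092, 170093, 170097, 170101, 170105, 170109, 135681, 135684,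
  135688, 135693, 135696, 135700, 135704, 135708, 135709, 138944, 138945, 138948, 138949, 138952, 138957, 138961,
  138965, 138969, 259457, 259460, 259465, 259468, 259469, 259472, 259476, 259477, 259480, 263491, 263494, 263495,
  263503, 263507, 263511, 263514, 263518, 263519, 263811, 263814, 263815, 263819, 263826, 263831, 263835, 263838,
  263839, 154880, 154881, 154885, 154889, 154893, 154896, 154904, 154908, 258976, 258981, 258984, 258985, 258993,
  258997, 259004, 259005, 151136, 151144, 151145, 151148, 151149, 151157, 151165, 181697, 181700, 181708, 181709,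
  181717, 181720, 181721, 263589, 263593, 263596, 263597, 263601, 263608, 275075, 275079, 275083, 275091, 275095,
  275099, 112450, 112454, 112466, 112470, 112471, 106594, 106595, 106598, 106599, 106603, 106606, 106607, 106610,
  106611, 106614, 106623, 121345, 121348, 121349, 121353, 121356, 121360, 121364, 121368, 121369, 121372, 121373,
  179424, 179428, 179429, 179432, 179433, 179436, 179437, 179445, 179449, 152802, 152803, 152811, 152814, 152818,
  152823, 152826, 152830, 160323, 160326, 160330, 160335, 160339, 160343, 160347, 160350, 174530, 174531, 174538,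
  174539, 174550, 174555, 174558, 174559, 182656, 182657, 182661, 182665, 182668, 182669, 182681, 182685, 185378,
  185382, 185386, 185390, 185394, 185399, 185402, 185407, 142918, 142919, 142923, 142926, 142930, 142934, 142938,
  167974, 167978, 167982, 167983, 167987, 167990, 167998, 182919, 182922, 182923, 182930, 182934, 182935, 182942,
  135618, 135619, 135626, 135630, 135635, 135638, 150338, 150346, 150355, 150358, 150363, 150366, 150562, 150571,
  150575, 150579, 150583, 150587, 162826, 162830, 162831, 162835, 162838, 162839, 168805, 168808, 168809, 168812,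
  168824, 168825, 176257, 176260, 176265, 176269, 176280, 176285, 182785, 182792, 182797, 182804, 182809, 182813,
  135011, 135019, 135023, 135030, 135034, 177058, 177063, 177070, 177071, 177079, 177794, 177802, 177807, 177810,
  177814, 179300, 179305, 179320, 179321, 179325, 150720, 150724, 150725, 150728, 150732, 150733, 150737, 150740,
  150741, 150748, 150749, 85858, 85863, 85866, 85870, 85871, 85874, 85875, 85878, 85882, 85883, 104256, 104260,
  104264, 104265, 104268, 104269, 104276, 104280, 104281, 104284, 251526, 251527, 251530, 251534, 251535, 251538,
  251539, 251542, 251543, 251546, 251547, 251551, 22150, 22151, 22154, 22158, 22162, 22163, 22166, 22167, 22170,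
  22171, 22174, 104322, 104323, 104327, 104330, 104331, 104338, 104342, 104343, 104346, 104350, 104351, 18944,
  18945, 18952, 18956, 18957, 18961, 18965, 18968, 18969, 18973, 20771, 20775, 20778, 20779, 20782, 20787, 20790,
  20791, 20794, 20798, 86306, 86307, 86310, 86311, 86314, 86315, 86322, 86330, 86334, 86335, 252704, 252708,
  252712, 252716, 252720, 252721, 252724, 252725, 252732, 252733, 10112, 10117, 10120, 10121, 10125, 10128, 10133,
  10136, 10141, 21698, 21703, 21706, 21714, 21718, 21719, 21723, 21726, 21727, 73954, 73958, 73959, 73962, 73963,
  73966, 73971, 73978, 73983, 20288, 20289, 20297, 20305, 20309, 20312, 20313, 20317, 53127, 53130, 53131, 53134,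
  53135, 53138, 53143, 53147, 90625, 90628, 90632, 90636, 90637, 90640, 90645, 90648, 20167, 20174, 20178, 20183,
  20186, 20187, 20191, 24034, 24043, 24046, 24054, 24055, 24059, 24063, 91395, 91398, 91399, 91406, 91410, 91411,
  91423, 20707, 20710, 20722, 20723, 20726, 20735, 23558, 23559, 23567, 23571, 23574, 23583, 59459, 59463, 59466,
  59470, 59475, 59483, 251073, 251080, 251084, 251088, 251093, 251100, 252288, 252301, 252304, 252308, 252312,
  252317, 18306, 18307, 18326, 18330, 18335, 20939, 20946, 20950, 20951, 20958, 25027, 25038, 25039, 25047, 25054,
  134660, 134661, 134664, 134665, 134668, 134676, 134673, 134677, 134681, 134685, 147938, 147939, 147942, 147943,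
  147947, 147950, 147951, 147954, 147958, 147966, 150593, 150596, 150597, 150601, 150604, 150605, 150609, 150613,
  150616, 150621, 151041, 151044, 151048, 151049, 151053, 151057, 151061, 151064, 151065, 151068, 152897, 152900,
  152901, 152905, 152908, 152913, 152917, 152921, 152924, 152925, 89411, 89414, 89415, 89418, 89422, 89426, 89430,
  89438, 89439, 104194, 104195, 104199, 104202, 104210, 104214, 104215, 104218, 104223, 118336, 118337, 118340,
  118341, 118345, 118349, 118352, 118356, 118364, 121600, 121601, 121604, 121608, 121612, 121613, 121617, 121624,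
  121628, 124323, 124326, 124331, 124334, 124338, 124339, 124346, 124347, 124351, 132003, 132006, 132007, 132010,
  132014, 132015, 132019, 132022, 132026, 134597, 134600, 134601, 134608, 134613, 134616, 134617, 134620, 134621,
  140257, 140260, 140261, 140268, 140272, 140273, 140276, 140280, 140281, 152960, 152961, 152965, 152968, 152969,
  152976, 152977, 152981, 152985, 102850, 102854, 102862, 102863, 102866, 102871, 102874, 102875, 16320, 16324,
  16325, 16328, 16329, 16333, 16336, 16337, 16340, 16341, 16345, 16348, 16349, 19233, 19236, 19240, 19241, 19245,
  19248, 19249, 19252, 19253, 19256, 19257, 19261, 250496, 250497, 250500, 250501, 250504, 250508, 250509, 250513,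
  250520, 250521, 250524, 250525, 9760, 9761, 9769, 9768, 9776, 9777, 9780, 9781, 9785, 9788, 9789, 251298,
  251299, 251302, 251306, 251307, 251310, 251311, 251315, 251318, 251319, 251322, 21506, 21507, 21514, 21515,
  21519, 21522, 21523, 21530, 21531, 21534, 21792, 21793, 21796, 21797, 21800, 21801, 21808, 21813, 21817, 21820,
  71140, 71145, 71148, 71152, 71153, 71156, 71157, 71161, 71164, 71165, 9860, 9864, 9865, 9868, 9872, 9873, 9876,
  9880, 9884, 82464, 82468, 82469, 82476, 82477, 82484, 82485, 82488, 82493, 103616, 103617, 103620, 103621,
  103625, 103628, 103629, 103633, 103637, 103640, 103641, 103645, 48834, 48838, 48839, 48843, 48846, 48847, 48850,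
  48854, 48858, 48862, 48863, 45666, 45667, 45670, 45674, 45675, 45678, 45683, 45691, 45694, 45695, 66496, 66501,
  66505, 66508, 66509, 66513, 66516, 66517, 66520, 66524, 86753, 86756, 86757, 86760, 86764, 86765, 86768, 86773,
  86777, 86780, 49570, 49571, 49574, 49578, 49583, 49587, 49590, 49591, 49595, 85345, 85349, 85352, 85360, 85365,
  85368, 85369, 85372, 85373, 42146, 42147, 42150, 42154, 42155, 42166, 42170, 42175, 50018, 50019, 50022, 50027,
  50042, 50043, 50046, 50047, 9472, 9476, 9477, 9480, 9485, 9488, 9493, 9496, 9497, 9500, 9539, 9542, 9546, 9547,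
  9550, 9554, 9555, 9558, 9562, 9567, 9793, 9796, 9800, 9801, 9804, 9805, 9808, 9813, 9816, 9817, 48130, 48134,
  48135, 48139, 48147, 48151, 48154, 48155, 48159, 72290, 72294, 72299, 72303, 72306, 72310, 72311, 72314, 72315,
  79269, 79276, 79281, 79284, 79285, 79288, 79289, 79292, 79293, 15267, 15274, 15278, 15282, 15283, 15287, 15290,
  15291, 20386, 20387, 20390, 20391, 20395, 20398, 20403, 20406, 41539, 41547, 41551, 41554, 41559, 41562, 41563,
  41567, 49511, 49514, 49515, 49518, 49519, 49530, 49531, 49534, 54051, 54054, 54059, 54062, 54063, 54066, 54078,
  54079, 250987, 250994, 250995, 250998, 250999, 251002, 251006, 251007, 251687, 251691, 251694, 251698, 251699,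
  251702, 251706, 251707, 9890, 9895, 9899, 9903, 9907, 9911, 9915, 14151, 14154, 14159, 14162, 14163, 14171,
  14174, 15586, 15587, 15598, 15602, 15607, 15610, 15615, 19969, 19973, 19977, 19980, 19981, 19984, 19992, 78467,
  78471, 78474, 78475, 78483, 78486, 78491, 105704, 105709, 105712, 105716, 105717, 105724, 105725, 250668,
  250672, 250676, 250677, 250680, 250684, 250685, 251382, 251371, 251374, 251378, 251379, 251387, 251390, 10176,
  10177, 10180, 10181, 10197, 10205, 10210, 10215, 10226, 10235, 10238, 10239, 17312, 17316, 17320, 17324, 17333,
  17337, 59138, 59146, 59155, 59159, 59163, 59167, 60899, 60902, 60903, 60907, 60918, 60927, 69676, 69677, 69681,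
  69684, 69685, 69689, 15854, 15858, 15859, 15862, 15871, 18245, 18249, 18260, 18264, 18268, 19460, 19469, 19464,
  19465, 19477, 52747, 52759, 52762, 52763, 52766, 63138, 63139, 63151, 63154, 63158, 62368, 62372, 62380, 62381,
  62384, 62388, 62393, 62397, 69378, 69383, 69386, 69387, 69390, 69394, 69398, 69407, 210146, 210147, 210150,
  210151, 210162, 210163, 210166, 210167, 44678, 44679, 44682, 44686, 44695, 44698, 44703, 52619, 52623, 52627,
  52630, 52631, 52634, 52638, 54893, 54896, 54897, 54900, 54901, 54905, 54908, 71072, 71088, 71089, 71092, 71093,
  71096, 71097, 81252, 81253, 81260, 81264, 81268, 81272, 81273, 84102, 84106, 84110, 84115, 84118, 84122, 84126,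
  96544, 96545, 96549, 96552, 96564, 96565, 96573, 103361, 103369, 103372, 103373, 103381, 103385, 103388, 126113,
  126117, 126124, 126129, 126136, 126137, 126141, 49890, 49895, 49898, 49899, 49903, 49918, 77764, 77769, 77772,
  77785, 77781, 77784, 114084, 114085, 114092, 114093, 114096, 114104, 55655, 55663, 55667, 55671, 55678, 63090,
  63094, 63095, 63102, 63103, 90309, 90316, 90317, 90320, 90321, 90324, 90328, 90329, 90333, 123744, 123745,
  123752, 123753, 123760, 123761, 123765, 123769, 123773, 18140, 18120, 18124, 18129, 18132, 18133, 18137, 18141,
  19393, 19396, 19408, 19413, 19416, 19417, 19420, 19421, 19939, 19943, 19950, 19951, 19958, 19962, 19963, 19967,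
  56172, 56173, 56176, 56181, 56184, 56185, 56188, 56189, 66752, 66756, 66764, 66768, 66773, 66776, 66777, 66780,
  9570, 9571, 9574, 9582, 9595, 9591, 9598, 74465, 74472, 74476, 74480, 74484, 74485, 74488, 80608, 80612, 80625,
  80628, 80629, 80633, 80636, 93856, 93860, 93861, 93868, 93872, 93881, 93884, 251680, 251684, 251693, 251697,
  251705, 251708, 17829, 17836, 17840, 17841, 17848, 148772, 148773, 148777, 148780, 148788, 148792, 148796,
  148797, 71654, 71662, 71666, 71667, 71670, 71675, 71678, 97314, 97318, 97327, 97331, 97335, 97338, 97339,
  100258, 100266, 100270, 100271, 100274, 100278, 100282, 105153, 105160, 105161, 105165, 105172, 105177, 105180,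
  119745, 119752, 119753, 119764, 119765, 119769, 119772, 134273, 134276, 134277, 134280, 134288, 134292, 134296,
  134341, 134348, 134353, 134356, 134360, 134361, 134364, 134785, 134792, 134793, 134808, 134801, 134805, 134813,
  144736, 144737, 144740, 144748, 144752, 144761, 144765, 79906, 79919, 79922, 79930, 79934, 79935, 126375,
  126383, 126390, 126391, 126394, 126395, 167681, 167684, 167689, 167692, 167697, 167708, 121408, 121424, 121425,
  121429, 121436, 137728, 137733, 137741, 137749, 137753, 139043, 139050, 139051, 139058, 139062]

def t3_0 : PF :=
  (.n .b false (.n .d false (.n .f false (.n .i false (.w false (.n .g true .o .o) (.n .k false (.w true .o .o)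
  .o)) (.n .j false (.n .k false (.w false (.n .a false (.n .g false (.n .h true .o .o) .o) .o) .o) .o) .o)) (.n
  .i false (.n .k false (.w true (.n .e false (.n .h true .o .o) .o) .o) .o) (.n .j false (.w false (.n .a false
  (.n .e false (.n .g false (.n .h true .o .o) .o) .o) .o) .o) (.n .k false (.w false (.n .a false (.n .e false
  (.n .g true .o .o) .o) .o) .o) .o)))) (.n .f false (.w false (.n .a false (.n .h true .o .o) .o) (.n .j false
  (.n .k false (.w false (.n .a false (.n .g false (.n .h true .o .o) .o) (.n .g true .o .o)) .o) .o) (.n .k false
  (.w false (.n .a false (.n .h true .o .o) .o) .o) .o))) (.n .j false (.n .i false (.n .k false (.w false (.n .g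
  false (.n .h true .o .o) .o) .o) .o) .o) .o))) (.n .d false (.w false (.n .e false (.n .g false (.n .h true .o
  .o) .o) (.n .g true (.n .h true .o .o) .o)) (.n .f false (.n .i false (.n .k false (.w false (.n .a true .o .o)
  .o) .o) (.n .j false (.w false (.n .a false (.n .e true .o .o) .o) .o) (.n .k false (.w false (.n .a false (.n
  .e false (.n .g true .o .o) (.n .g false (.n .h true .o .o) .o)) .o) .o) .o))) (.n .i false (.n .k false (.w
  false (.n .a false (.n .e false (.n .g true .o .o) .o) (.n .g false (.n .h true .o .o) .o)) .o) .o) (.n .j false
  (.w false (.n .e false (.n .g false (.n .h true .o .o) .o) .o) .o) (.n .k false (.w false (.n .a false (.n .e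
  false (.n .g false (.n .h true .o .o) .o) .o) (.n .g false (.n .h true .o .o) .o)) .o) .o))))) (.n .f false (.n
  .i false (.w true (.n .a false (.n .g false (.n .h true .o .o) .o) .o) .o) (.n .j false (.w false (.n .a true .o
  .o) (.n .i false (.w false (.n .a false (.n .g false (.n .h true .o .o) .o) .o) .o) (.n .k false (.w false (.n
  .h true .o .o) .o) .o))) (.n .k false (.w false (.n .a false (.n .g false (.n .h true .o .o) .o) .o) .o) .o)))
  (.n .i false (.w false (.n .e true .o .o) .o) (.n .j false (.n .i false (.w false (.n .a false (.n .g true .o
  .o) (.n .e false (.n .g true .o .o) (.n .g false (.n .h true .o .o) .o))) (.n .k false (.w false (.n .a false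
  (.n .e false (.n .g true .o .o) .o) .o) .o) .o)) .o) .o)))))

def t3_1 : PF :=
  (.n .b false (.n .d false (.n .f false (.n .j false (.n .i false (.w false (.n .a false (.n .g true .o .o) .o)
  .o) (.n .k false (.w false (.n .a false (.n .e false (.n .h true .o .o) .o) .o) .o) .o)) (.n .k false (.w false
  (.n .a false (.n .h true .o .o) (.n .e false (.n .g true .o .o) .o)) .o) .o)) (.n .j false (.n .i false (.w
  false (.n .g true .o .o) .o) .o) .o)) (.n .f false (.n .i false (.w false (.n .g false (.n .h true .o .o) .o)
  (.n .k false (.w false (.n .g true .o .o) .o) .o)) .o) (.n .i false (.w false (.n .h true .o .o) .o) (.n .j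
  false (.n .i false (.w false (.n .g false (.n .h true .o .o) .o) .o) .o) .o)))) (.n .d false (.w false (.n .a
  false (.n .e true .o .o) (.n .h true .o .o)) (.n .f false (.w false (.n .a false (.n .h true .o .o) (.n .h true
  .o .o)) .o) (.n .i false (.n .k false (.w false (.n .a false (.n .h true .o .o) .o) .o) .o) (.n .k false (.w
  false (.n .a true .o .o) .o) .o)))) (.n .f false (.w false (.n .h true .o .o) (.n .i false (.w false (.n .g
  false (.n .h true .o .o) .o) .o) (.n .k false (.w false (.n .a false (.n .g false (.n .h true .o .o) .o) .o) .o)
  .o))) (.n .j false (.w true (.n .a true .o (.n .g true .o .o)) (.n .i false (.w false (.n .a false (.n .g true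
  .o .o) (.n .e false (.n .g true .o .o) .o)) (.n .k false (.w false (.n .a false (.n .g true .o .o) (.n .g true
  .o .o)) .o) .o)) (.n .k false (.w false (.n .h true .o .o) .o) .o))) (.n .k false (.w false (.n .a false (.n .e
  false (.n .g true .o .o) .o) .o) .o) .o)))))

def t3_2 : MF :=
  (.n .a (.n .e (.n .h (.n .l (.w (.p false (.n .b false (.w true .o (.n .d false (.n .f false (.w false (.n .e
  false (.n .g false (.n .h true .o .o) .o) .o) .o) .o) (.n .f false (.n .j false (.n .i false (.n .k false (.w
  false (.n .g false (.n .h true .o .o) .o) .o) .o) .o) (.n .k false (.w false (.n .a false (.n .g false (.n .h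
  true .o .o) .o) .o) .o) .o)) (.n .i false (.n .k false (.w false (.n .a false (.n .e false (.n .g false (.n .h
  true .o .o) .o) .o) .o) .o) .o) .o)))) (.n .d false (.n .f false (.w false (.n .a false (.n .e false (.n .g true
  .o .o) .o) .o) (.n .j false (.w true .o (.n .k false (.w false (.n .e true .o .o) .o) .o)) (.n .k false (.w true
  .o .o) .o))) (.n .i false (.w false (.n .a true .o .o) .o) (.n .j false (.n .k false (.w false (.n .h true .o
  .o) .o) .o) .o))) (.n .i false (.n .k false (.w true .o .o) .o) (.n .j false (.n .i false (.w false (.n .a true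
  .o (.n .e true .o .o)) (.n .k false (.w true .o .o) .o)) .o) .o)))) .o) .o) .o) .o) .o) (.n .c (.n .e (.n .g (.n
  .h (.w (.p false (.n .f false (.n .i false (.n .k false (.w false (.n .e false (.n .g false (.n .h true .o .o)
  .o) .o) .o) .o) .o) .o) .o) .o) .o) .o) .o) (.n .e (.n .h (.w (.p false (.n .b false (.n .d false (.n .j false
  (.n .k false (.w false (.n .a true .o .o) .o) .o) .o) (.n .f false (.n .i false (.w false (.n .a false (.n .h
  true .o .o) .o) .o) .o) .o)) (.n .d false (.n .f false (.n .j false (.n .i false (.n .k false (.w false (.n .a
  false (.n .e false (.n .g true .o .o) .o) .o) .o) .o) .o) (.n .k false (.w true (.n .a false (.n .h true .o .o)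
  .o) .o) .o)) (.n .i false (.n .k false (.w false (.n .a true .o .o) .o) .o) .o)) (.n .f false (.n .j false (.n
  .i false (.n .k false (.w false (.n .e false (.n .g true .o .o) (.n .h true .o .o)) .o) .o) .o) .o) .o))) .o)
  .o) .o) .o)))

def t3_3 : PF :=
  (.n .b false (.n .d false (.w false (.n .a false (.n .e false (.n .g true (.n .h true .o .o) .o) .o) .o) (.n .f
  false (.n .i false (.w false (.n .e true .o .o) .o) (.n .j false (.n .i false (.n .k false (.w true .o .o) .o)
  (.n .k false (.w true .o .o) .o)) .o)) (.n .i false (.n .k false (.w false (.n .a false (.n .e false (.n .h true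
  .o .o) .o) (.n .e false (.n .g false (.n .h true .o .o) .o) .o)) .o) .o) (.n .j false (.w false (.n .e true .o
  .o) (.n .i false (.w false (.n .a false (.n .e false (.n .h true .o .o) .o) .o) (.n .k false (.w false (.n .a
  false (.n .e true (.n .h true .o .o) .o) .o) .o) .o)) .o)) .o)))) (.n .f false (.w false (.n .g false (.n .h
  true .o .o) .o) (.n .j false (.w true (.n .e false (.n .g true .o .o) .o) (.n .i false (.n .k false (.w false
  (.n .a false (.n .e true .o .o) .o) .o) .o) (.n .k false (.w false (.n .e true .o .o) .o) .o))) .o)) (.n .j
  false (.w true (.n .e false (.n .h true .o .o) .o) .o) .o))) (.n .d false (.w false (.n .a false (.n .g false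
  (.n .h true .o .o) .o) (.n .g true .o .o)) (.n .f false (.n .j false (.w false (.n .a true (.n .g true .o .o)
  .o) (.n .i false (.w false (.n .a false (.n .e false (.n .h true .o .o) .o) .o) .o) .o)) .o) (.n .i false (.w
  false (.n .h true .o .o) .o) (.n .j false (.w false (.n .e true .o .o) (.n .i false (.n .k false (.w false (.n
  .a false (.n .e false (.n .h true .o .o) .o) .o) .o) .o) (.n .k false (.w false (.n .h true .o .o) .o) .o))) (.n
  .k false (.w false (.n .a false (.n .e false (.n .g true .o .o) (.n .g false (.n .h true .o .o) .o)) .o) .o)
  .o))))) (.n .f false (.n .j false (.w false (.n .a true (.n .e false (.n .g true .o .o) .o) (.n .h true .o .o))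
  (.n .i false (.w false (.n .a false (.n .e true .o .o) .o) .o) (.n .k false (.w false (.n .a false (.n .e false
  (.n .h true .o .o) .o) .o) .o) .o))) .o) (.n .j false (.n .i false (.w false (.n .e false (.n .h true .o .o) .o)
  (.n .k false (.w false (.n .e true .o .o) .o) .o)) (.n .k false (.w false (.n .e true .o .o) .o) .o)) .o))))

def t3_4 : MF :=
  (.n .d (.n .j (.n .i (.n .k (.w (.p false (.n .a false (.n .e false (.n .g false (.n .h true .o .o) .o) (.n .g
  true .o .o)) (.n .e true .o (.n .g true .o .o))) (.n .a (.n .c (.n .e (.w (.p false (.n .b false (.n .d false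
  (.n .j false (.n .k false (.w false (.n .a false (.n .h true .o .o) .o) .o) .o) .o) .o) .o) .o) (.n .g (.w (.p
  false (.n .b false (.n .d false (.n .f false (.n .i false (.w false (.n .a true .o .o) .o) .o) .o) .o) (.n .d
  false (.n .f false (.w true .o .o) .o) .o)) .o) .o) .o)) .o) (.n .e (.w (.p false (.n .b false (.w false (.n .a
  false (.n .h true .o .o) .o) (.n .d false (.n .f false (.n .i false (.w false (.n .a false (.n .h true .o .o)
  (.n .e true .o (.n .g false (.n .h true .o .o) .o))) (.n .k false (.w false (.n .a false (.n .e false (.n .h
  true .o .o) .o) .o) .o) .o)) (.n .j false (.n .i false (.w false (.n .a false (.n .e false (.n .g true .o .o)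
  .o) .o) .o) .o) .o)) (.n .j false (.n .i false (.n .k false (.w false (.n .a false (.n .e true .o .o) .o) .o)
  .o) .o) .o)) (.n .i false (.w false (.n .g true .o .o) .o) .o))) (.n .d false (.w false (.n .g true .o .o) (.n
  .f false (.n .j false (.w false (.n .e true .o .o) (.n .i false (.n .k false (.w false (.n .g true .o .o) .o)
  .o) .o)) .o) .o)) (.n .f false (.n .i false (.w false (.n .h true .o .o) .o) .o) .o))) .o) .o) .o)) .o)) .o) .o)
  .o) .o) (.n .f (.n .j (.n .i (.w (.p false (.n .a false (.n .e true .o (.n .g true .o .o)) (.n .e false (.n .g
  true .o .o) (.n .h true .o .o))) .o) .o) .o) .o) (.n .j (.n .i (.n .k (.w (.p false (.n .a false (.n .e false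
  (.n .g true .o .o) (.n .h true .o .o)) (.n .e false (.n .g true .o .o) (.n .g true .o (.n .h true .o .o)))) (.n
  .a (.n .c (.n .e (.w (.p false (.n .b false (.n .d false (.n .f false (.n .j false (.w false (.n .e false (.n .g
  false (.n .h true .o .o) .o) .o) .o) .o) .o) .o) (.n .d false (.n .j false (.w true .o .o) .o) (.n .f false (.w
  false (.n .a true .o .o) .o) .o))) .o) .o) .o) .o) .o)) .o) .o) .o) .o)))

def t3_5 : PF :=
  (.n .b false (.w false (.n .e false (.n .h true .o .o) .o) (.n .d false (.n .f false (.w false (.n .e false (.n
  .g true .o .o) .o) (.n .i false (.w false (.n .a false (.n .g true .o .o) .o) .o) (.n .j false (.n .k false (.w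
  false (.n .a false (.n .g false (.n .h true .o .o) (.n .h true .o .o)) .o) .o) .o) .o))) (.n .i false (.n .k
  false (.w false (.n .e true .o .o) .o) .o) (.n .j false (.n .i false (.w false (.n .a false (.n .e false (.n .g
  false (.n .h true .o .o) .o) .o) (.n .e false (.n .g true .o (.n .h true .o .o)) .o)) .o) (.n .k false (.w false
  (.n .g true .o .o) .o) .o)) (.n .k false (.w true .o .o) .o)))) (.n .f false (.n .i false (.w false (.n .g true
  .o .o) (.n .k false (.w false (.n .e false (.n .g false (.n .h true .o .o) .o) .o) .o) .o)) (.n .j false (.w
  false (.n .a true .o .o) (.n .i false (.n .k false (.w false (.n .a true (.n .e true .o .o) (.n .g true .o .o))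
  .o) .o) (.n .k false (.w true (.n .a true .o (.n .e true .o .o)) .o) .o))) .o)) (.n .i false (.w false (.n .a
  false (.n .e false (.n .h true .o .o) .o) .o) (.n .k false (.w false (.n .a false (.n .e false (.n .h true .o
  .o) .o) .o) .o) .o)) .o)))) (.n .d false (.n .f false (.n .i false (.w false (.n .a false (.n .e false (.n .g
  true .o .o) .o) .o) (.n .k false (.w false (.n .a false (.n .g false (.n .h true .o .o) .o) (.n .e false (.n .g
  true .o .o) (.n .g true .o .o))) .o) .o)) (.n .j false (.n .i false (.n .k false (.w false (.n .a false (.n .g
  false (.n .h true .o .o) .o) .o) .o) .o) (.n .k false (.w false (.n .a false (.n .e false (.n .h true .o .o) .o)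
  .o) .o) .o)) .o)) (.n .i false (.w false (.n .a false (.n .h true .o .o) .o) .o) (.n .j false (.n .i false (.w
  false (.n .e false (.n .g true .o .o) .o) (.n .k false (.w false (.n .e true .o .o) .o) .o)) (.n .k false (.w
  false (.n .e false (.n .g true .o .o) .o) .o) .o)) (.n .k false (.w false (.n .a false (.n .e true .o .o) .o)
  .o) .o)))) (.n .f false (.n .i false (.n .k false (.w false (.n .a true (.n .e true .o .o) .o) .o) .o) (.n .j
  false (.n .i false (.n .k false (.w false (.n .a true .o .o) .o) .o) .o) .o)) (.n .i false (.w false (.n .a
  false (.n .e true .o .o) (.n .e false (.n .h true .o .o) .o)) (.n .k false (.w true (.n .h true .o .o) .o) .o))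
  (.n .k false (.w false (.n .e false (.n .h true .o .o) .o) .o) .o)))))

def t3_6 : PF :=
  (.w false (.n .e false (.n .h true .o .o) .o) (.n .d false (.w false (.n .a true (.n .h true .o .o) .o) (.n .f
  false (.n .i false (.w false (.n .a false (.n .h true .o .o) (.n .e false (.n .h true .o .o) .o)) .o) (.n .j
  false (.w false (.n .a false (.n .g false (.n .h true .o .o) .o) (.n .g false (.n .h true .o .o) .o)) (.n .k
  false (.w false (.n .e false (.n .g false (.n .h true .o .o) .o) .o) .o) .o)) (.n .k false (.w false (.n .e true
  .o .o) .o) .o))) (.n .i false (.w true (.n .e true .o .o) (.n .k false (.w false (.n .a false (.n .e false (.n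
  .g false (.n .h true .o .o) .o) (.n .g true (.n .h true .o .o) .o)) .o) .o) .o)) (.n .j false (.w false (.n .a
  false (.n .h true .o .o) (.n .e true .o (.n .h true .o .o))) (.n .i false (.w false (.n .e false (.n .g false
  (.n .h true .o .o) .o) (.n .g false (.n .h true .o .o) .o)) (.n .k false (.w false (.n .a false (.n .e false (.n
  .g true .o .o) .o) (.n .e true .o (.n .g false (.n .h true .o .o) .o))) .o) .o)) .o)) .o)))) (.n .f false (.n .i
  false (.n .k false (.w true .o .o) .o) (.n .j false (.w true (.n .e false (.n .g false (.n .h true .o .o) .o)
  .o) (.n .k false (.w true (.n .e true .o .o) .o) .o)) .o)) (.n .j false (.w false (.n .a true .o (.n .e false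
  (.n .g false (.n .h true .o .o) .o) (.n .h true .o .o))) (.n .i false (.w false (.n .a false (.n .e false (.n .g
  false (.n .h true .o .o) .o) .o) (.n .g true .o .o)) .o) .o)) .o))))

def t3_7 : MF :=
  (.n .b (.n .d (.n .f (.n .i (.n .k (.w (.p false (.n .a true (.n .e true (.n .h true .o .o) .o) (.n .e false (.n
  .h true .o .o) .o)) .o) .o) .o) (.n .j (.n .i (.w (.p false (.n .a false (.n .g true .o (.n .h true .o .o)) (.n
  .e true .o (.n .g false (.n .h true .o .o) .o))) (.n .a (.n .c (.n .e (.n .l (.w (.p false (.n .b false (.n .d
  false (.n .k false (.w false (.n .e true .o .o) .o) .o) (.n .f false (.n .k false (.w false (.n .a true .o .o)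
  .o) .o) (.n .j false (.n .k false (.w false (.n .a true .o .o) .o) .o) .o))) (.n .d false (.n .k false (.w true
  .o .o) .o) (.n .f false (.n .i false (.n .k false (.w false (.n .a false (.n .h true .o .o) .o) .o) .o) .o)
  .o))) .o) .o) .o) .o) .o) .o)) (.n .k (.w (.p false (.n .a true (.n .e true (.n .h true .o .o) .o) (.n .e true
  .o .o)) (.n .a (.n .e (.n .l (.w (.p false (.n .b false (.n .d false (.n .f false (.n .j false (.n .i false (.w
  false (.n .e false (.n .h true .o .o) .o) .o) .o) .o) (.n .j false (.w false (.n .a true .o .o) .o) .o)) .o) .o)
  .o) .o) .o) .o) .o)) .o) .o)) .o) .o)) .o) (.n .f (.n .j (.n .i (.w (.p true (.n .a false (.n .e true (.n .g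
  false (.n .h true .o .o) .o) (.n .g true .o .o)) .o) .o) .o) .o) .o) .o)) (.n .d (.n .f (.n .j (.w (.p false (.n
  .a false (.n .e true (.n .g true .o .o) .o) (.n .e true (.n .g false (.n .h true .o .o) .o) .o)) .o) .o) (.n .k
  (.w (.p false (.n .a true (.n .e false (.n .h true .o .o) (.n .h true .o .o)) (.n .e false (.n .h true .o .o)
  .o)) (.n .a (.n .h (.w (.p false t3_5 (.n .b t3_4 (.n .j (.n .i (.n .k (.w (.p false (.n .a true (.n .e true .o
  (.n .g false (.n .h true .o .o) .o)) (.n .g true .o .o)) .o) .o) .o) .o) .o))) .o) .o) .o)) .o) .o)) .o) (.n .f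
  (.n .j (.n .i (.w (.p true (.n .a true (.n .e true .o .o) (.n .g true .o (.n .h true .o .o))) (.n .a (.n .c (.n
  .e (.n .h (.w (.p false t3_3 (.n .b (.n .d (.n .i (.w (.p false (.n .a false (.n .e false (.n .h true .o .o) (.n
  .h true .o .o)) (.n .e false (.n .g true .o .o) (.n .h true .o .o))) t3_2) .o) .o) .o) (.n .d (.n .f (.n .j (.n
  .k (.w (.p false (.n .a true (.n .e true (.n .g false (.n .h true .o .o) .o) .o) (.n .e false (.n .g true .o .o)
  .o)) (.n .a (.n .e (.n .g (.w (.p false t3_1 .o) .o) .o) .o) .o)) .o) .o) .o) .o) .o))) .o) .o) .o) .o) .o)) .o)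
  .o) .o) (.n .i (.w (.p false (.n .a false (.n .e false (.n .g true .o (.n .h true .o .o)) (.n .h true .o .o))
  (.n .g true .o .o)) .o) .o) .o))))

def t3_8 : PF :=
  (.n .b false (.w false (.n .a false (.n .e false (.n .g false (.n .h true .o .o) .o) (.n .h true .o .o)) .o) (.n
  .d false (.w false (.n .a false (.n .e false (.n .h true .o .o) .o) .o) (.n .f false (.n .i false (.w false (.n
  .e false (.n .g false (.n .h true .o .o) (.n .h true .o .o)) .o) (.n .k false (.w false (.n .a false (.n .g
  false (.n .h true .o .o) .o) .o) .o) .o)) (.n .j false (.n .i false (.n .k false (.w true .o .o) .o) .o) .o))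
  (.n .j false (.w false (.n .a false (.n .e false (.n .g true .o .o) .o) .o) .o) .o))) (.n .f false (.w false (.n
  .g false (.n .h true .o .o) .o) (.n .i false (.w true (.n .a false (.n .e false (.n .h true .o .o) .o) (.n .e
  false (.n .h true .o .o) .o)) .o) (.n .j false (.n .i false (.n .k false (.w false (.n .a false (.n .h true .o
  .o) .o) .o) .o) (.n .k false (.w false (.n .a false (.n .e false (.n .g false (.n .h true .o .o) .o) .o) .o) .o)
  .o)) .o))) (.n .j false (.n .i false (.w false (.n .e true .o .o) (.n .k false (.w false (.n .e false (.n .h
  true .o .o) .o) .o) .o)) (.n .k false (.w false (.n .a false (.n .e false (.n .g true .o .o) .o) (.n .g true .o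
  .o)) .o) .o)) (.n .k false (.w false (.n .a true (.n .e true .o .o) .o) .o) .o))))) (.n .d false (.n .f false
  (.w false (.n .a false (.n .g false (.n .h true .o .o) .o) (.n .e true .o .o)) (.n .j false (.w false (.n .e
  false (.n .g true .o .o) .o) .o) (.n .k false (.w false (.n .e false (.n .g true .o (.n .h true .o .o)) (.n .g
  false (.n .h true .o .o) .o)) .o) .o))) (.n .k false (.w false (.n .g false (.n .h true .o .o) .o) .o) .o)) (.n
  .f false (.w false (.n .e false (.n .g true .o .o) .o) (.n .i false (.w false (.n .a true .o .o) .o) (.n .j
  false (.n .i false (.n .k false (.w true .o .o) .o) .o) .o))) .o)))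

def t3_9 : PF :=
  (.n .b false (.n .d false (.n .f false (.n .i false (.w false (.n .a false (.n .e true .o .o) .o) .o) (.n .j
  false (.n .i false (.w false (.n .a false (.n .h true .o .o) .o) .o) (.n .k false (.w false (.n .g true .o .o)
  .o) .o)) .o)) (.n .i false (.w false (.n .a false (.n .h true .o .o) .o) (.n .k false (.w false (.n .a false (.n
  .h true .o .o) .o) .o) .o)) (.n .j false (.n .i false (.w false (.n .a false (.n .g false (.n .h true .o .o) .o)
  .o) (.n .k false (.w false (.n .a false (.n .e false (.n .g false (.n .h true .o .o) .o) .o) .o) .o) .o)) (.n .k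
  false (.w false (.n .a false (.n .g true .o .o) .o) .o) .o)) (.n .k false (.w true .o .o) .o)))) (.n .f false
  (.n .i false (.w false (.n .a false (.n .g true .o .o) .o) .o) (.n .j false (.w false (.n .a false (.n .e false
  (.n .g false (.n .h true .o .o) .o) (.n .g false (.n .h true .o .o) .o)) .o) (.n .i false (.w false (.n .a false
  (.n .e false (.n .g true .o .o) .o) .o) .o) .o)) (.n .k false (.w true (.n .a false (.n .e false (.n .h true .o
  .o) .o) .o) .o) .o))) .o)) (.n .d false (.n .f false (.n .j false (.n .i false (.w false (.n .a false (.n .e
  false (.n .g true .o .o) .o) .o) .o) .o) .o) (.n .j false (.n .i false (.w false (.n .e true .o .o) (.n .k false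
  (.w false (.n .a false (.n .e false (.n .h true .o .o) .o) (.n .g false (.n .h true .o .o) .o)) .o) .o)) .o)
  .o)) (.n .f false (.n .j false (.w false (.n .a false (.n .e true .o .o) (.n .e false (.n .g false (.n .h true
  .o .o) .o) .o)) (.n .k false (.w false (.n .e true .o .o) .o) .o)) (.n .k false (.w false (.n .e false (.n .g
  false (.n .h true .o .o) .o) .o) .o) .o)) (.n .j false (.n .i false (.n .k false (.w false (.n .a false (.n .g
  true .o .o) .o) .o) .o) (.n .k false (.w false (.n .a false (.n .e true .o .o) .o) .o) .o)) .o))))

def t3_10 : PF :=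
  (.n .d false (.n .f false (.w false (.n .a false (.n .e false (.n .g true .o .o) .o) (.n .g true .o .o)) (.n .i
  false (.w false (.n .a true (.n .e true .o .o) (.n .g false (.n .h true .o .o) .o)) (.n .k false (.w false (.n
  .a false (.n .e true .o .o) (.n .e false (.n .g false (.n .h true .o .o) .o) .o)) .o) .o)) (.n .j false (.n .i
  false (.w false (.n .a false (.n .e false (.n .g true .o .o) .o) .o) (.n .k false (.w false (.n .a false (.n .e
  false (.n .g true (.n .h true .o .o) .o) (.n .g true .o .o)) .o) .o) .o)) .o) (.n .k false (.w false (.n .a
  false (.n .e false (.n .h true .o .o) .o) (.n .e true (.n .g false (.n .h true .o .o) .o) .o)) .o) .o)))) (.n .i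
  false (.n .k false (.w false (.n .a false (.n .e true (.n .h true .o .o) (.n .g false (.n .h true .o .o) .o))
  .o) .o) .o) (.n .j false (.w false (.n .a false (.n .e false (.n .g true (.n .h true .o .o) .o) (.n .g false (.n
  .h true .o .o) .o)) .o) (.n .i false (.w false (.n .a false (.n .e false (.n .g true .o .o) .o) .o) .o) .o)) (.n
  .k false (.w false (.n .a false (.n .e false (.n .h true .o .o) .o) .o) .o) .o)))) (.n .f false (.n .i false (.w
  false (.n .a true .o (.n .g true .o .o)) .o) (.n .j false (.n .i false (.w false (.n .a false (.n .e true .o .o)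
  (.n .h true .o .o)) .o) .o) (.n .k false (.w false (.n .a false (.n .e true .o .o) (.n .e false (.n .h true .o
  .o) .o)) .o) .o))) (.n .j false (.n .i false (.w false (.n .e true .o (.n .g true .o (.n .h true .o .o))) .o)
  .o) (.n .k false (.w false (.n .a true .o (.n .h true .o .o)) .o) .o))))

def t3_11 : MF :=
  (.n .b (.n .d (.n .j (.n .k (.w (.p true (.n .a true (.n .e false (.n .g false (.n .h true .o .o) .o) (.n .g
  false (.n .h true .o .o) .o)) (.n .e false (.n .g true .o (.n .h true .o .o)) (.n .h true .o .o))) .o) .o) .o)
  .o) (.n .f (.n .j (.n .k (.w (.p true (.n .a false (.n .e false (.n .h true .o .o) (.n .g false (.n .h true .o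
  .o) .o)) (.n .e true (.n .g false (.n .h true .o .o) .o) .o)) .o) .o) .o) .o) .o)) (.n .d (.w (.p false (.n .a
  false (.n .e true (.n .g true .o .o) .o) (.n .e false (.n .g true (.n .h true .o .o) .o) .o)) .o) (.n .f (.n .j
  (.w (.p false (.n .a false (.n .e true (.n .g false (.n .h true .o .o) (.n .h true .o .o)) .o) (.n .e true (.n
  .h true .o .o) (.n .g false (.n .h true .o .o) (.n .h true .o .o)))) (.n .a (.n .c (.n .g (.n .l (.w (.p false
  t3_8 .o) .o) .o) .o) .o) (.n .c (.n .e (.n .g (.w (.p false t3_9 .o) .o) .o) .o) .o))) (.n .k (.w (.p false (.n
  .a false (.n .e false (.n .g false (.n .h true .o .o) .o) (.n .g false (.n .h true .o .o) .o)) (.n .e false (.n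
  .g true .o .o) (.n .h true .o .o))) .o) .o) .o)) .o) (.n .j (.n .k (.w (.p false (.n .a true (.n .e false (.n .g
  true .o .o) (.n .g false (.n .h true .o .o) .o)) (.n .e false (.n .g true .o .o) .o)) .o) .o) .o) .o))) (.n .f
  (.n .j (.w (.p false (.n .a false (.n .e false (.n .g true (.n .h true .o .o) (.n .h true .o .o)) .o) (.n .g
  true .o .o)) .o) (.n .k (.w (.p false (.n .a false (.n .e true .o (.n .g false (.n .h true .o .o) .o)) (.n .e
  true .o (.n .h true .o .o))) .o) .o) .o)) .o) (.n .j (.w (.p false (.n .a false (.n .e true .o (.n .h true .o
  .o)) (.n .e true (.n .g false (.n .h true .o .o) .o) .o)) .o) .o) .o))))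

def t3_12 : MF :=
  (.p false (.n .a true (.n .e false (.n .h true .o .o) (.n .g true .o .o)) (.n .g true .o .o)) (.n .g (.n .h (.w
  (.p false (.n .b false (.n .d false (.w false (.n .a true .o .o) (.n .f false (.n .i false (.w false (.n .a
  false (.n .e false (.n .h true .o .o) .o) .o) .o) (.n .k false (.w false (.n .a false (.n .g false (.n .h true
  .o .o) .o) .o) .o) .o)) (.n .i false (.w false (.n .a false (.n .g false (.n .h true .o .o) .o) (.n .g false (.n
  .h true .o .o) .o)) (.n .k false (.w false (.n .g true .o .o) .o) .o)) (.n .k false (.w true .o .o) .o)))) (.n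
  .f false (.n .i false (.n .k false (.w false (.n .g true .o .o) .o) .o) (.n .j false (.n .i false (.w false (.n
  .a false (.n .h true .o .o) .o) .o) .o) (.n .k false (.w false (.n .a false (.n .e true .o (.n .g false (.n .h
  true .o .o) .o)) .o) .o) .o))) (.n .i false (.n .k false (.w false (.n .h true .o .o) .o) .o) .o))) (.n .d false
  (.w true .o (.n .f false (.w false (.n .e false (.n .g true .o .o) .o) (.n .i false (.w false (.n .e false (.n
  .g true .o .o) .o) .o) (.n .j false (.n .i false (.w false (.n .a false (.n .e false (.n .h true .o .o) .o) (.n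
  .e true .o .o)) .o) .o) .o))) .o)) (.n .f false (.w false (.n .a false (.n .e false (.n .g false (.n .h true .o
  .o) .o) .o) .o) (.n .k false (.w false (.n .a true .o .o) .o) .o)) (.n .j false (.n .k false (.w false (.n .g
  false (.n .h true .o .o) (.n .h true .o .o)) .o) .o) .o)))) .o) .o) .o) .o))

def t3_13 : PF :=
  (.n .d false (.w false (.n .a false (.n .e false (.n .g false (.n .h true .o .o) .o) .o) (.n .h true .o .o)) (.n
  .f false (.w false (.n .e true (.n .h true .o .o) .o) (.n .j false (.w true (.n .a false (.n .e false (.n .h
  true .o .o) .o) .o) .o) (.n .k false (.w false (.n .a false (.n .e false (.n .g true .o .o) .o) (.n .e true .o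
  (.n .g true .o .o))) .o) .o))) (.n .i false (.w false (.n .a false (.n .g false (.n .h true .o .o) .o) (.n .g
  true .o (.n .h true .o .o))) .o) (.n .j false (.n .i false (.w true .o (.n .k false (.w true (.n .a false (.n .e
  false (.n .h true .o .o) .o) .o) .o) .o)) (.n .k false (.w false (.n .a false (.n .e false (.n .g false (.n .h
  true .o .o) .o) .o) .o) .o) .o)) .o)))) (.n .f false (.n .i false (.w false (.n .a false (.n .g true .o .o) .o)
  (.n .k false (.w false (.n .h true .o .o) .o) .o)) (.n .j false (.n .i false (.w false (.n .a false (.n .e true
  .o .o) (.n .e false (.n .h true .o .o) .o)) (.n .k false (.w false (.n .a false (.n .e false (.n .h true .o .o)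
  .o) .o) .o) .o)) (.n .k false (.w false (.n .a true .o (.n .e false (.n .h true .o .o) .o)) .o) .o)) (.n .k
  false (.w false (.n .e false (.n .g false (.n .h true .o .o) .o) .o) .o) .o))) (.n .i false (.n .k false (.w
  false (.n .g false (.n .h true .o .o) .o) .o) .o) (.n .j false (.w false (.n .h true .o .o) (.n .i false (.w
  false (.n .e false (.n .g false (.n .h true .o .o) .o) .o) (.n .k false (.w false (.n .a false (.n .e false (.n
  .h true .o .o) .o) .o) .o) .o)) .o)) .o))))

def t3_14 : PF :=
  (.w false (.n .a false (.n .e false (.n .g true .o .o) .o) .o) (.n .d false (.n .f false (.w false (.n .a false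
  (.n .g true .o .o) (.n .e false (.n .g false (.n .h true .o .o) .o) .o)) (.n .i false (.n .k false (.w false (.n
  .e true (.n .h true .o .o) .o) .o) .o) (.n .j false (.w false (.n .e false (.n .h true .o .o) .o) (.n .k false
  (.w false (.n .e true .o (.n .h true .o .o)) .o) .o)) (.n .k false (.w false (.n .a false (.n .e true .o .o) .o)
  .o) .o)))) (.n .j false (.w false (.n .h true .o .o) (.n .i false (.w false (.n .a false (.n .e true (.n .g true
  .o .o) .o) (.n .e false (.n .g false (.n .h true .o .o) .o) .o)) (.n .k false (.w false (.n .a false (.n .g true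
  .o .o) .o) .o) .o)) (.n .k false (.w false (.n .a false (.n .g false (.n .h true .o .o) .o) .o) .o) .o))) .o))
  (.n .f false (.w false (.n .e true .o .o) (.n .i false (.n .k false (.w false (.n .a false (.n .e false (.n .g
  false (.n .h true .o .o) .o) .o) (.n .g true .o .o)) .o) .o) (.n .k false (.w false (.n .a false (.n .h true .o
  .o) .o) .o) .o))) (.n .i false (.n .k false (.w true (.n .g false (.n .h true .o .o) .o) .o) .o) (.n .j false
  (.w false (.n .e true (.n .g true .o .o) .o) (.n .i false (.w false (.n .a false (.n .e false (.n .g false (.n
  .h true .o .o) .o) .o) .o) .o) (.n .k false (.w false (.n .a false (.n .e false (.n .g false (.n .h true .o .o)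
  .o) .o) (.n .h true .o .o)) .o) .o))) (.n .k false (.w false (.n .e false (.n .g false (.n .h true .o .o) .o)
  (.n .h true .o .o)) .o) .o))))))

def t3_15 : PF :=
  (.w false (.n .a false (.n .e false (.n .g true .o .o) .o) (.n .g false (.n .h true .o .o) .o)) (.n .d false (.w
  false (.n .a true .o .o) (.n .f false (.n .j false (.w false (.n .e false (.n .h true .o .o) .o) (.n .i false
  (.w false (.n .a false (.n .e false (.n .h true .o .o) .o) (.n .h true .o .o)) .o) (.n .k false (.w false (.n .e
  false (.n .h true .o .o) .o) .o) .o))) (.n .k false (.w false (.n .a false (.n .e false (.n .g true (.n .h true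
  .o .o) .o) .o) (.n .g true .o .o)) .o) .o)) (.n .i false (.n .k false (.w false (.n .g false (.n .h true .o .o)
  .o) .o) .o) (.n .j false (.n .i false (.w false (.n .a false (.n .h true .o .o) (.n .g true .o .o)) (.n .k false
  (.w false (.n .g true .o .o) .o) .o)) .o) (.n .k false (.w false (.n .a false (.n .g true .o .o) (.n .g true .o
  .o)) .o) .o))))) (.n .f false (.w false (.n .a true .o (.n .e false (.n .h true .o .o) (.n .g false (.n .h true
  .o .o) .o))) (.n .i false (.w false (.n .a false (.n .e false (.n .g false (.n .h true .o .o) .o) .o) .o) (.n .k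
  false (.w false (.n .g false (.n .h true .o .o) .o) .o) .o)) (.n .j false (.n .i false (.w false (.n .e true .o
  .o) .o) .o) .o))) (.n .i false (.w false (.n .a false (.n .e false (.n .g false (.n .h true .o .o) .o) (.n .h
  true .o .o)) (.n .e false (.n .h true .o .o) .o)) (.n .k false (.w false (.n .a false (.n .g true .o .o) .o) .o)
  .o)) (.n .j false (.n .i false (.w false (.n .h true .o .o) (.n .k false (.w false (.n .a false (.n .e false (.n
  .g false (.n .h true .o .o) .o) .o) .o) .o) .o)) (.n .k false (.w false (.n .a false (.n .h true .o .o) .o) .o)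
  .o)) (.n .k false (.w false (.n .a false (.n .g false (.n .h true .o .o) .o) .o) .o) .o))))))

def t3_16 : MF :=
  (.n .b (.n .d (.n .f (.n .i (.w (.p false (.n .a true (.n .e true .o .o) (.n .e true .o (.n .g true .o .o))) .o)
  (.n .k (.w (.p false (.n .a false (.n .e false (.n .h true .o .o) (.n .h true .o .o)) (.n .e false (.n .g true
  .o .o) (.n .g true .o .o))) .o) .o) .o)) .o) .o) (.n .f (.n .j (.w (.p false (.n .a false (.n .e false (.n .h
  true .o .o) (.n .h true .o .o)) (.n .e true (.n .h true .o .o) .o)) .o) .o) (.n .k (.w (.p true (.n .a false (.n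
  .e false (.n .g false (.n .h true .o .o) .o) (.n .h true .o .o)) (.n .e false (.n .g true .o .o) .o)) (.n .a (.n
  .c (.n .e (.n .l (.w (.p false (.n .b false (.n .d false (.w false (.n .e false (.n .h true .o .o) .o) .o) (.n
  .f false (.n .i false (.w false (.n .a false (.n .g false (.n .h true .o .o) .o) .o) .o) .o) (.n .j false (.w
  false (.n .h true .o .o) .o) .o))) (.n .d false (.n .i false (.n .k false (.w false (.n .a true .o .o) .o) .o)
  .o) .o)) .o) .o) .o) .o) .o) .o)) .o) .o)) .o)) (.n .d (.n .f (.w (.p false (.n .a false (.n .e true (.n .g
  false (.n .h true .o .o) .o) (.n .g true .o .o)) (.n .e false (.n .g true .o .o) .o)) (.n .a (.n .c (.n .e (.n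
  .g (.n .h (.w (.p false (.n .b false (.w false (.n .a false (.n .e true .o .o) .o) (.n .d false (.n .f false (.n
  .k false (.w true .o .o) .o) (.n .k false (.w false (.n .a false (.n .h true .o .o) .o) .o) .o)) (.n .i false
  (.n .k false (.w false (.n .a false (.n .h true .o .o) .o) .o) .o) .o))) (.n .d false (.n .f false (.n .k false
  (.w false (.n .e true .o .o) .o) .o) .o) .o)) .o) .o) .o) .o) .o) .o) .o)) (.n .i (.n .k (.w (.p false (.n .a
  false (.n .e true (.n .h true .o .o) .o) (.n .e true (.n .g true (.n .h true .o .o) .o) .o)) .o) .o) .o) .o))
  .o) (.n .f (.n .i (.n .k (.w (.p false (.n .a false (.n .g true .o .o) (.n .e true (.n .g false (.n .h true .o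
  .o) .o) (.n .h true .o .o))) .o) .o) .o) .o) (.n .j (.n .i (.w (.p false (.n .a true (.n .g true (.n .h true .o
  .o) (.n .h true .o .o)) .o) .o) .o) .o) .o))))

def t3_17 : MF :=
  (.n .f (.n .j (.n .i (.w (.p false (.n .a false (.n .e true (.n .h true .o .o) .o) (.n .e false (.n .g false (.n
  .h true .o .o) (.n .h true .o .o)) (.n .g true .o (.n .h true .o .o)))) .o) (.n .k (.w (.p false (.n .a true (.n
  .e false (.n .g false (.n .h true .o .o) .o) .o) (.n .e false (.n .g true (.n .h true .o .o) .o) .o)) (.n .a (.n
  .c (.n .g (.n .h (.w (.p false (.n .b false (.n .d false (.n .f false (.n .k false (.w false (.n .e true .o .o)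
  .o) .o) .o) .o) (.n .f false (.n .j false (.n .k false (.w false (.n .e true .o .o) .o) .o) .o) .o)) .o) .o) .o)
  .o) .o) .o)) .o) .o)) .o) .o) (.n .i (.w (.p false (.n .a true (.n .e true .o (.n .g false (.n .h true .o .o)
  .o)) (.n .e false (.n .g true .o .o) (.n .h true .o .o))) .o) .o) (.n .j (.n .k (.w (.p false (.n .a false (.n
  .e false (.n .g false (.n .h true .o .o) .o) (.n .g false (.n .h true .o .o) (.n .h true .o .o))) (.n .e false
  (.n .g false (.n .h true .o .o) .o) .o)) (.n .a (.n .e (.n .h (.w (.p false (.n .b false t3_15 (.n .d false (.n
  .f false (.n .i false (.w false (.n .a false (.n .g false (.n .h true .o .o) .o) .o) .o) (.n .j false (.n .i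
  false (.w false (.n .a false (.n .e true .o .o) .o) (.n .k false (.w false (.n .e true .o .o) .o) .o)) (.n .k
  false (.w false (.n .a true (.n .e true .o .o) .o) .o) .o)) (.n .k false (.w false (.n .e false (.n .g false (.n
  .h true .o .o) .o) .o) .o) .o))) (.n .i false (.w true (.n .a false (.n .h true .o .o) .o) .o) (.n .j false (.n
  .k false (.w false (.n .g true .o .o) .o) .o) .o))) (.n .f false (.w false (.n .a true (.n .g false (.n .h true
  .o .o) .o) .o) (.n .i false (.w false (.n .e false (.n .h true .o .o) .o) .o) (.n .k false (.w false (.n .g
  false (.n .h true .o .o) .o) .o) .o))) (.n .i false (.w false (.n .h true .o .o) (.n .k false (.w false (.n .e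
  false (.n .g false (.n .h true .o .o) .o) .o) .o) .o)) (.n .k false (.w false (.n .a false (.n .h true .o .o)
  .o) .o) .o))))) t3_16) .o) .o) .o) .o)) .o) .o) .o)))

def t3_18 : MF :=
  (.w (.p false (.n .a false (.n .e false (.n .h true .o .o) (.n .g false (.n .h true .o .o) .o)) (.n .e false (.n
  .g false (.n .h true .o .o) .o) (.n .h true .o .o))) (.n .a (.n .e (.n .h (.n .l (.w (.p false (.n .b false (.n
  .d false (.n .f false (.n .i false (.w false (.n .a false (.n .e true .o .o) .o) .o) (.n .j false (.w false (.n
  .a false (.n .e false (.n .g true .o .o) .o) .o) .o) .o)) (.n .k false (.w false (.n .g true .o .o) .o) .o)) (.n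
  .j false (.n .i false (.n .k false (.w false (.n .a false (.n .e false (.n .g true .o .o) .o) .o) .o) .o) (.n .k
  false (.w false (.n .a false (.n .e true .o .o) .o) .o) .o)) (.n .k false (.w false (.n .a false (.n .h true .o
  .o) .o) .o) .o))) (.n .d false (.n .k false (.w true .o .o) .o) (.n .f false (.n .i false (.n .k false (.w false
  (.n .a false (.n .e true .o .o) .o) .o) .o) (.n .j false (.n .i false (.n .k false (.w false (.n .a false (.n .e
  false (.n .h true .o .o) .o) .o) .o) .o) (.n .k false (.w false (.n .e false (.n .g false (.n .h true .o .o) .o)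
  .o) .o) .o)) (.n .k false (.w true (.n .e true .o .o) .o) .o))) (.n .i false (.w false (.n .e false (.n .g true
  .o .o) .o) .o) (.n .j false (.n .i false (.w false (.n .a true .o .o) .o) .o) .o))))) .o) .o) .o) .o) .o) .o))
  (.n .d (.n .f (.n .j (.n .i (.n .k (.w (.p true (.n .a true (.n .e false (.n .g true .o (.n .h true .o .o)) .o)
  (.n .e false (.n .g true (.n .h true .o .o) .o) (.n .g true .o .o))) .o) .o) .o) .o) .o) .o) (.n .f (.w (.p true
  (.n .a true (.n .e false (.n .h true .o .o) .o) (.n .e true .o (.n .g false (.n .h true .o .o) (.n .h true .o
  .o)))) .o) (.n .i (.n .k (.w (.p false (.n .a true .o (.n .e false (.n .g false (.n .h true .o .o) (.n .h true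
  .o .o)) (.n .g true .o .o))) .o) .o) .o) (.n .j (.w (.p false (.n .a false (.n .e false (.n .g true .o .o) (.n
  .h true .o .o)) (.n .e true (.n .h true .o .o) (.n .g false (.n .h true .o .o) .o))) .o) (.n .i (.w (.p false
  (.n .a true (.n .e false (.n .h true .o .o) (.n .g true .o .o)) (.n .e false (.n .g false (.n .h true .o .o) .o)
  (.n .g false (.n .h true .o .o) .o))) (.n .a (.n .e (.n .g (.w (.p false (.n .b false t3_14 t3_13) (.n .d (.n .i
  (.n .k (.w t3_12 .o) .o) .o) .o)) .o) .o) .o) .o)) .o) .o)) (.n .k (.w (.p true (.n .a false (.n .e false (.n .g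
  true .o (.n .h true .o .o)) (.n .g false (.n .h true .o .o) .o)) .o) .o) .o) .o)))) (.n .k (.w (.p true (.n .a
  true (.n .g true .o .o) (.n .e false (.n .h true .o .o) (.n .h true .o .o))) .o) .o) .o))))

def t3_19 : PF :=
  (.n .d false (.w false (.n .a true (.n .e true .o .o) (.n .e false (.n .g true .o .o) .o)) (.n .f false (.w
  false (.n .a false (.n .g true .o .o) .o) (.n .i false (.w false (.n .a true .o (.n .e false (.n .g true .o .o)
  .o)) (.n .k false (.w true (.n .a true .o .o) .o) .o)) (.n .j false (.n .i false (.w false (.n .g false (.n .h
  true .o .o) (.n .h true .o .o)) .o) .o) (.n .k false (.w false (.n .a false (.n .e false (.n .g true .o .o) .o)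
  .o) .o) .o)))) (.n .i false (.w false (.n .a false (.n .e false (.n .h true .o .o) (.n .h true .o .o)) (.n .g
  true .o .o)) .o) .o))) (.n .f false (.w true (.n .e false (.n .h true .o .o) .o) (.n .i false (.w false (.n .a
  true .o .o) (.n .k false (.w false (.n .a false (.n .e false (.n .g true .o .o) (.n .g false (.n .h true .o .o)
  .o)) .o) .o) .o)) (.n .j false (.n .k false (.w false (.n .a false (.n .e false (.n .g true .o .o) .o) (.n .e
  false (.n .h true .o .o) .o)) .o) .o) (.n .k false (.w false (.n .a false (.n .e true .o .o) (.n .g true .o .o))
  .o) .o)))) (.n .i false (.n .k false (.w false (.n .a false (.n .e true .o (.n .g false (.n .h true .o .o) .o))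
  .o) .o) .o) (.n .j false (.n .i false (.w false (.n .a false (.n .e false (.n .h true .o .o) (.n .h true .o .o))
  .o) (.n .k false (.w false (.n .e false (.n .g false (.n .h true .o .o) .o) .o) .o) .o)) .o) (.n .k false (.w
  false (.n .a true .o (.n .e true .o (.n .g false (.n .h true .o .o) .o))) .o) .o)))))

def t3_20 : PF :=
  (.n .d false (.n .f false (.n .i false (.w false (.n .a false (.n .g true .o .o) (.n .e false (.n .g true .o .o)
  .o)) (.n .k false (.w false (.n .e false (.n .h true .o .o) .o) .o) .o)) (.n .j false (.n .k false (.w false (.n
  .e false (.n .g true .o .o) .o) .o) .o) .o)) (.n .i false (.w false (.n .e false (.n .h true .o .o) .o) (.n .k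
  false (.w false (.n .a false (.n .g true .o .o) .o) .o) .o)) (.n .j false (.w false (.n .g true .o .o) (.n .i
  false (.w false (.n .a false (.n .e true .o (.n .g true .o .o)) (.n .e false (.n .g false (.n .h true .o .o) .o)
  .o)) (.n .k false (.w false (.n .e false (.n .g false (.n .h true .o .o) .o) .o) .o) .o)) (.n .k false (.w false
  (.n .a false (.n .e false (.n .g true .o .o) .o) (.n .e false (.n .g true .o .o) (.n .g true .o .o))) .o) .o)))
  .o))) (.n .f false (.n .i false (.w true (.n .e true .o .o) .o) (.n .j false (.n .i false (.n .k false (.w true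
  .o .o) .o) (.n .k false (.w false (.n .a false (.n .e false (.n .g true .o (.n .h true .o .o)) .o) .o) .o) .o))
  .o)) (.n .i false (.w false (.n .a false (.n .h true .o .o) .o) (.n .k false (.w false (.n .a false (.n .h true
  .o .o) .o) .o) .o)) (.n .j false (.n .i false (.w false (.n .a false (.n .e false (.n .g true .o .o) (.n .g true
  .o (.n .h true .o .o))) .o) (.n .k false (.w false (.n .a false (.n .e false (.n .g false (.n .h true .o .o) (.n
  .h true .o .o)) .o) .o) .o) .o)) (.n .k false (.w false (.n .e false (.n .g true .o .o) .o) .o) .o)) .o))))

def t3_21 : MF :=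
  (.n .i (.w (.p false (.n .a true (.n .e true (.n .h true .o .o) .o) (.n .e true (.n .g true .o .o) .o)) (.n .a
  (.n .c (.n .g (.n .l (.w (.p false (.n .b false (.n .d false (.n .f false (.w false (.n .e false (.n .g false
  (.n .h true .o .o) .o) (.n .g false (.n .h true .o .o) (.n .h true .o .o))) (.n .i false (.n .k false (.w false
  (.n .a false (.n .e false (.n .g true .o .o) .o) (.n .h true .o .o)) .o) .o) (.n .j false (.w false (.n .e true
  (.n .g false (.n .h true .o .o) (.n .h true .o .o)) .o) .o) (.n .k false (.w false (.n .a false (.n .e false (.n
  .g false (.n .h true .o .o) .o) (.n .h true .o .o)) .o) .o) .o)))) (.n .k false (.w true .o .o) .o)) (.n .f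
  false (.n .i false (.w false (.n .h true .o .o) .o) (.n .j false (.n .i false (.w false (.n .g true .o .o) (.n
  .k false (.w false (.n .e false (.n .h true .o .o) .o) .o) .o)) .o) .o)) (.n .i false (.w false (.n .h true .o
  .o) (.n .k false (.w false (.n .e true .o .o) .o) .o)) (.n .j false (.w true .o (.n .i false (.n .k false (.w
  false (.n .a false (.n .g true .o .o) .o) .o) .o) (.n .k false (.w false (.n .a false (.n .e false (.n .h true
  .o .o) (.n .g true .o (.n .h true .o .o))) .o) .o) .o))) (.n .k false (.w false (.n .e false (.n .h true .o .o)
  .o) .o) .o))))) t3_10) t3_11) .o) .o) .o) .o) .o)) .o) (.n .k (.w (.p false (.n .e false (.n .g true (.n .h true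
  .o .o) (.n .h true .o .o)) (.n .g true .o .o)) .o) .o) .o))

def t3_22 : MF :=
  (.w (.p true (.n .a false (.n .e false (.n .h true .o .o) (.n .g true .o .o)) (.n .e true (.n .g false (.n .h
  true .o .o) (.n .h true .o .o)) (.n .g true .o .o))) .o) (.n .j (.w (.p false (.n .a true (.n .e true (.n .h
  true .o .o) .o) (.n .e false (.n .g true .o .o) (.n .h true .o .o))) (.n .c (.n .e (.n .g (.n .h (.n .l (.w (.p
  false (.n .b false t3_6 (.n .d false (.w false (.n .a true .o .o) (.n .f false (.n .j false (.n .i false (.w
  false (.n .a false (.n .h true .o .o) .o) .o) .o) .o) (.n .i false (.w false (.n .a false (.n .e false (.n .g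
  true .o .o) .o) (.n .e false (.n .h true .o .o) .o)) .o) (.n .j false (.w false (.n .a true .o (.n .e false (.n
  .g true .o (.n .h true .o .o)) .o)) .o) .o)))) (.n .f false (.w false (.n .a false (.n .e true .o .o) (.n .e
  true .o .o)) (.n .i false (.n .k false (.w false (.n .a false (.n .e false (.n .h true .o .o) .o) (.n .h true .o
  .o)) .o) .o) (.n .j false (.w false (.n .a false (.n .e false (.n .g true .o .o) (.n .g true .o .o)) (.n .e
  false (.n .h true .o .o) .o)) (.n .i false (.n .k false (.w false (.n .h true .o .o) .o) .o) .o)) .o))) (.n .j
  false (.w false (.n .a false (.n .g true .o .o) (.n .e false (.n .g false (.n .h true .o .o) .o) (.n .g false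
  (.n .h true .o .o) .o))) (.n .i false (.w false (.n .g true (.n .h true .o .o) .o) (.n .k false (.w false (.n .a
  false (.n .e true .o .o) .o) .o) .o)) .o)) .o)))) t3_7) .o) .o) .o) .o) .o) .o)) (.n .i (.w (.p true (.n .a
  false (.n .e true .o (.n .h true .o .o)) (.n .e true .o .o)) .o) .o) .o)) .o))

def t3_23 : MF :=
  (.n .d (.n .i (.w (.p false (.n .a false (.n .e true (.n .g true (.n .h true .o .o) (.n .h true .o .o)) (.n .g
  false (.n .h true .o .o) .o)) (.n .e false (.n .g false (.n .h true .o .o) (.n .h true .o .o)) (.n .h true .o
  .o))) .o) .o) (.n .j (.n .k (.w (.p false (.n .a false (.n .e false (.n .g true .o .o) (.n .h true .o .o)) (.n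
  .e true (.n .g false (.n .h true .o .o) .o) (.n .h true .o .o))) (.n .a (.n .c (.n .g (.n .h (.w (.p false (.n
  .b false t3_20 t3_19) (.n .b t3_18 (.n .d (.n .f (.n .j (.n .i (.n .k (.w (.p false (.n .a false (.n .e true .o
  (.n .g true .o .o)) (.n .e true (.n .h true .o .o) (.n .g true .o .o))) .o) .o) .o) .o) .o) (.n .i (.n .k (.w
  (.p false (.n .a false (.n .e true .o (.n .g true (.n .h true .o .o) .o)) (.n .e true .o .o)) .o) .o) .o) (.n .j
  (.w (.p true (.n .a true .o (.n .e true .o (.n .g true .o .o))) .o) (.n .i (.n .k (.w (.p false (.n .e false (.n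
  .g true (.n .h true .o .o) (.n .h true .o .o)) (.n .g true .o .o)) .o) .o) .o) .o)) .o))) t3_17))) .o) .o) .o)
  .o) .o)) .o) .o) (.n .k (.w (.p false (.n .a false (.n .e true (.n .g false (.n .h true .o .o) .o) (.n .g false
  (.n .h true .o .o) .o)) (.n .e true .o (.n .g false (.n .h true .o .o) (.n .h true .o .o)))) .o) .o) .o))) (.n
  .f (.w (.p false (.n .a false (.n .h true .o .o) (.n .e true (.n .g false (.n .h true .o .o) (.n .h true .o .o))
  (.n .g true (.n .h true .o .o) (.n .h true .o .o)))) .o) (.n .j (.n .i (.n .k (.w (.p false (.n .a true (.n .e
  true (.n .h true .o .o) .o) (.n .e false (.n .g true .o .o) .o)) .o) .o) .o) (.n .k (.w (.p false (.n .e false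
  (.n .g true (.n .h true .o .o) (.n .h true .o .o)) (.n .g true .o .o)) .o) .o) .o)) .o)) (.n .j (.n .i (.w (.p
  true (.n .a false (.n .e true .o (.n .g false (.n .h true .o .o) .o)) (.n .e false (.n .g true .o .o) (.n .g
  false (.n .h true .o .o) .o))) .o) .o) .o) .o)))

def t3_24 : PF :=
  (.n .d false (.w true (.n .e true .o .o) (.n .f false (.w false (.n .g false (.n .h true .o .o) .o) (.n .i false
  (.w false (.n .a false (.n .h true .o .o) .o) .o) (.n .j false (.w false (.n .h true .o .o) (.n .i false (.w
  false (.n .a true (.n .g true .o (.n .h true .o .o)) .o) (.n .k false (.w false (.n .a false (.n .g false (.n .h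
  true .o .o) .o) .o) .o) .o)) (.n .k false (.w true (.n .a false (.n .g false (.n .h true .o .o) .o) .o) .o)
  .o))) (.n .k false (.w false (.n .h true .o .o) .o) .o)))) (.n .i false (.n .k false (.w false (.n .a false (.n
  .e false (.n .g false (.n .h true .o .o) .o) (.n .h true .o .o)) (.n .e false (.n .g false (.n .h true .o .o)
  .o) .o)) .o) .o) (.n .j false (.w false (.n .a false (.n .g true .o .o) (.n .e false (.n .g false (.n .h true .o
  .o) .o) .o)) (.n .i false (.w false (.n .h true .o .o) (.n .k false (.w false (.n .a false (.n .e false (.n .g
  true .o .o) .o) (.n .e true .o .o)) .o) .o)) .o)) .o)))) (.n .f false (.n .j false (.w false (.n .a false (.n .e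
  false (.n .g true .o .o) .o) .o) .o) (.n .k false (.w false (.n .a false (.n .g false (.n .h true .o .o) .o) .o)
  .o) .o)) (.n .j false (.w false (.n .e true .o .o) (.n .i false (.n .k false (.w false (.n .e true .o .o) .o)
  .o) (.n .k false (.w true (.n .a true (.n .e true .o .o) .o) .o) .o))) (.n .k false (.w true (.n .a false (.n .e
  true (.n .g true .o .o) .o) .o) .o) .o))))

def t3_25 : MF :=
  (.n .i (.w (.p true (.n .a false (.n .e false (.n .h true .o .o) (.n .g true .o .o)) (.n .e false (.n .g false
  (.n .h true .o .o) .o) .o)) (.n .a (.n .c (.n .e (.n .h (.n .l (.w (.p false (.n .b false t3_24 (.n .d false (.n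
  .f false (.n .i false (.w false (.n .a false (.n .g true .o .o) (.n .g false (.n .h true .o .o) (.n .h true .o
  .o))) .o) (.n .j false (.n .i false (.w false (.n .a true .o .o) .o) .o) .o)) (.n .i false (.n .k false (.w
  false (.n .e true (.n .g true .o .o) .o) .o) .o) (.n .j false (.n .i false (.n .k false (.w false (.n .g false
  (.n .h true .o .o) .o) .o) .o) (.n .k false (.w true (.n .e false (.n .g false (.n .h true .o .o) .o) (.n .g
  true .o .o)) .o) .o)) .o))) (.n .f false (.n .j false (.w false (.n .a false (.n .e false (.n .g false (.n .h
  true .o .o) .o) .o) .o) .o) .o) (.n .j false (.n .k false (.w true (.n .e false (.n .h true .o .o) (.n .g true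
  .o .o)) .o) .o) .o)))) (.n .b (.w (.p false (.n .a true .o (.n .e true (.n .h true .o .o) (.n .g true .o .o)))
  .o) t3_23) (.n .d t3_22 (.n .f (.n .j t3_21 .o) (.n .j (.n .i (.w (.p false (.n .a true (.n .e true (.n .h true
  .o .o) (.n .g true .o (.n .h true .o .o))) .o) .o) .o) .o) .o))))) .o) .o) .o) .o) .o) .o)) .o) (.n .j (.n .k
  (.w (.p false (.n .a true (.n .e false (.n .h true .o .o) .o) (.n .e true (.n .g false (.n .h true .o .o) .o)
  .o)) .o) .o) .o) (.n .k (.w (.p false (.n .a true (.n .e false (.n .g false (.n .h true .o .o) .o) (.n .h true
  .o .o)) (.n .e true .o (.n .g true .o .o))) .o) .o) .o)))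

def t3_26 : MF :=
  (.n .f (.w (.p false (.n .a true (.n .e false (.n .g true .o .o) (.n .h true .o .o)) (.n .e true .o .o)) .o) (.n
  .i (.n .k (.w (.p true (.n .a false (.n .e false (.n .g false (.n .h true .o .o) .o) (.n .g false (.n .h true .o
  .o) (.n .h true .o .o))) (.n .e false (.n .g false (.n .h true .o .o) .o) (.n .g true .o .o))) (.n .a (.n .e (.n
  .g (.n .h (.w (.p false (.n .b false (.n .f false (.n .j false (.n .i false (.n .k false (.w false (.n .g false
  (.n .h true .o .o) .o) .o) .o) .o) .o) (.n .j false (.w false (.n .a false (.n .g false (.n .h true .o .o) .o)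
  (.n .e false (.n .g true .o .o) .o)) (.n .i false (.w true .o .o) .o)) .o)) (.n .d false (.n .f false (.w false
  (.n .e true .o .o) .o) .o) (.n .f false (.n .j false (.n .i false (.n .k false (.w false (.n .a false (.n .g
  true .o .o) .o) .o) .o) .o) .o) (.n .j false (.n .k false (.w false (.n .a false (.n .h true .o .o) .o) .o) .o)
  .o)))) .o) .o) .o) .o) .o) .o)) .o) .o) (.n .j (.n .i (.w (.p false (.n .a false (.n .e false (.n .g true (.n .h
  true .o .o) .o) .o) (.n .e true .o (.n .g true .o .o))) .o) .o) .o) .o))) (.n .i (.w (.p true (.n .a true (.n .g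
  false (.n .h true .o .o) .o) (.n .e false (.n .g true (.n .h true .o .o) .o) .o)) .o) .o) (.n .j (.w (.p true
  (.n .a true (.n .e false (.n .g true .o .o) (.n .g false (.n .h true .o .o) (.n .h true .o .o))) (.n .e true (.n
  .h true .o .o) (.n .g false (.n .h true .o .o) .o))) .o) .o) .o)))

def t3_27 : MF :=
  (.n .b (.n .d (.n .f (.n .i (.n .k (.w (.p false (.n .a true (.n .h true .o .o) (.n .e false (.n .g true .o (.n
  .h true .o .o)) (.n .g true .o .o))) .o) .o) .o) (.n .j (.n .i (.n .k (.w (.p false (.n .a false (.n .e false
  (.n .g false (.n .h true .o .o) (.n .h true .o .o)) (.n .g true .o .o)) (.n .e true .o (.n .h true .o .o))) .o)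
  .o) .o) .o) (.n .k (.w (.p false (.n .a true .o (.n .e true (.n .h true .o .o) (.n .g false (.n .h true .o .o)
  (.n .h true .o .o)))) .o) .o) .o))) (.n .j (.n .k (.w (.p false (.n .a true (.n .g false (.n .h true .o .o) .o)
  (.n .e false (.n .g false (.n .h true .o .o) .o) (.n .g true .o (.n .h true .o .o)))) .o) .o) .o) (.n .k (.w (.p
  true (.n .a false (.n .g true .o .o) (.n .e false (.n .g true .o .o) (.n .h true .o .o))) .o) .o) .o))) (.n .f
  (.n .i (.n .k (.w (.p true (.n .a false (.n .e true (.n .g true .o (.n .h true .o .o)) (.n .h true .o .o)) (.n
  .e false (.n .h true .o .o) .o)) .o) .o) .o) .o) (.n .j (.n .k (.w (.p false (.n .a true (.n .g false (.n .h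
  true .o .o) (.n .h true .o .o)) (.n .g false (.n .h true .o .o) .o)) .o) .o) .o) (.n .k (.w (.p true (.n .a
  false (.n .e false (.n .h true .o .o) (.n .g true (.n .h true .o .o) .o)) .o) .o) .o) .o)))) (.n .d (.w (.p
  false (.n .a false (.n .e false (.n .g false (.n .h true .o .o) (.n .h true .o .o)) (.n .g true .o (.n .h true
  .o .o))) (.n .e false (.n .h true .o .o) .o)) .o) t3_26) (.n .f (.w (.p false (.n .a false (.n .g true .o .o)
  (.n .e true (.n .g false (.n .h true .o .o) (.n .h true .o .o)) .o)) .o) (.n .i (.w (.p true (.n .a false (.n .g
  true (.n .h true .o .o) .o) (.n .g false (.n .h true .o .o) (.n .h true .o .o))) .o) .o) (.n .j (.n .i (.n .k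
  (.w (.p false (.n .a false (.n .e true (.n .h true .o .o) .o) (.n .e true (.n .h true .o .o) .o)) .o) .o) .o)
  .o) (.n .k (.w (.p true (.n .a false (.n .g true .o .o) (.n .e false (.n .h true .o .o) (.n .g true .o (.n .h
  true .o .o)))) .o) .o) .o)))) t3_25)))

def t3_28 : PF :=
  (.n .b false (.w false (.n .g true .o .o) (.n .d false (.n .f false (.n .i false (.w false (.n .e true .o .o)
  .o) .o) (.n .i false (.n .k false (.w false (.n .a false (.n .e false (.n .g false (.n .h true .o .o) .o) (.n .h
  true .o .o)) (.n .h true .o .o)) .o) .o) (.n .j false (.w false (.n .e true .o (.n .g false (.n .h true .o .o)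
  .o)) (.n .i false (.n .k false (.w false (.n .a false (.n .g false (.n .h true .o .o) .o) (.n .e true .o (.n .g
  true .o .o))) .o) .o) .o)) .o))) (.n .f false (.n .i false (.w false (.n .e false (.n .g false (.n .h true .o
  .o) .o) (.n .g true .o .o)) .o) (.n .j false (.n .k false (.w false (.n .a false (.n .e false (.n .g true .o .o)
  .o) (.n .h true .o .o)) .o) .o) (.n .k false (.w false (.n .a false (.n .e true (.n .g false (.n .h true .o .o)
  .o) (.n .g true .o .o)) .o) .o) .o))) .o))) (.n .d false (.n .f false (.n .i false (.w true .o .o) (.n .j false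
  (.n .i false (.n .k false (.w false (.n .a false (.n .h true .o .o) (.n .g true .o .o)) .o) .o) (.n .k false (.w
  false (.n .a true (.n .g true .o .o) (.n .h true .o .o)) .o) .o)) (.n .k false (.w true (.n .a false (.n .e
  false (.n .h true .o .o) .o) .o) .o) .o))) (.n .i false (.n .k false (.w false (.n .a true .o .o) .o) .o) (.n .j
  false (.n .i false (.n .k false (.w false (.n .a true (.n .e true .o .o) (.n .e false (.n .g true .o .o) .o))
  .o) .o) (.n .k false (.w false (.n .a false (.n .e true .o .o) (.n .g true .o .o)) .o) .o)) .o))) (.n .f false
  (.n .j false (.n .i false (.w false (.n .a false (.n .e false (.n .h true .o .o) (.n .h true .o .o)) .o) .o) (.n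
  .k false (.w false (.n .a false (.n .e true .o (.n .g true .o .o)) (.n .e false (.n .h true .o .o) .o)) .o) .o))
  .o) (.n .j false (.w false (.n .a false (.n .e false (.n .g true .o .o) (.n .g true .o .o)) .o) (.n .i false (.w
  false (.n .a false (.n .g true .o (.n .h true .o .o)) (.n .e true .o .o)) .o) .o)) .o))))

def t3_29 : MF :=
  (.n .f (.n .i (.n .k (.w (.p false (.n .a true (.n .e false (.n .g true .o (.n .h true .o .o)) .o) (.n .e true
  (.n .g false (.n .h true .o .o) .o) (.n .g true .o .o))) .o) .o) .o) (.n .j (.n .i (.n .k (.w (.p true (.n .a
  false (.n .e true (.n .g false (.n .h true .o .o) (.n .h true .o .o)) .o) (.n .e false (.n .g true (.n .h true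
  .o .o) .o) (.n .g false (.n .h true .o .o) (.n .h true .o .o)))) (.n .a (.n .e (.n .g (.n .h (.w (.p false (.n
  .f false (.n .i false (.n .k false (.w false (.n .e false (.n .g true .o .o) .o) .o) .o) (.n .j false (.w false
  (.n .a false (.n .e false (.n .g true .o .o) .o) .o) .o) .o)) .o) .o) .o) .o) .o) .o) .o)) .o) .o) .o) .o)) (.n
  .j (.w (.p false (.n .e false (.n .g true (.n .h true .o .o) .o) (.n .g true (.n .h true .o .o) .o)) .o) (.n .i
  (.n .k (.w (.p false (.n .a false (.n .e true (.n .g true (.n .h true .o .o) .o) .o) (.n .e true .o (.n .g false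
  (.n .h true .o .o) .o))) .o) .o) .o) (.n .k (.w (.p false (.n .a false (.n .e false (.n .g true (.n .h true .o
  .o) .o) .o) (.n .e true (.n .g true .o (.n .h true .o .o)) .o)) (.n .a (.n .e (.n .g (.w (.p false (.n .b false
  (.n .d false (.n .f false (.w false (.n .a false (.n .e false (.n .g true .o .o) .o) .o) (.n .i false (.w false
  (.n .a false (.n .e true .o .o) .o) .o) (.n .j false (.w false (.n .e false (.n .g true .o .o) .o) .o) .o))) (.n
  .j false (.n .k false (.w false (.n .e false (.n .g false (.n .h true .o .o) .o) .o) .o) .o) (.n .k false (.w
  false (.n .e false (.n .g true .o .o) .o) .o) .o))) (.n .f false (.w true .o .o) (.n .i false (.w true .o .o)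
  .o))) (.n .d false (.n .k false (.w false (.n .a false (.n .e false (.n .g false (.n .h true .o .o) .o) .o) .o)
  .o) .o) (.n .f false (.w false (.n .a false (.n .e false (.n .g true .o .o) .o) .o) .o) (.n .i false (.n .k
  false (.w false (.n .e false (.n .g false (.n .h true .o .o) .o) (.n .g false (.n .h true .o .o) .o)) .o) .o)
  .o)))) .o) .o) .o) .o) .o)) .o) .o))) .o))

def t3_30 : PF :=
  (.n .d false (.n .f false (.w true (.n .e false (.n .g false (.n .h true .o .o) .o) (.n .g false (.n .h true .o
  .o) .o)) (.n .i false (.w false (.n .e true .o .o) (.n .k false (.w false (.n .a true (.n .h true .o .o) .o) .o)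
  .o)) .o)) (.n .i false (.w false (.n .e false (.n .h true .o .o) (.n .g false (.n .h true .o .o) .o)) .o) (.n .j
  false (.w false (.n .g true .o .o) (.n .i false (.w false (.n .e true .o (.n .g false (.n .h true .o .o) .o))
  .o) (.n .k false (.w false (.n .a false (.n .e false (.n .g false (.n .h true .o .o) .o) (.n .g false (.n .h
  true .o .o) .o)) (.n .e false (.n .g false (.n .h true .o .o) .o) .o)) .o) .o))) (.n .k false (.w false (.n .a
  true (.n .e false (.n .g false (.n .h true .o .o) .o) (.n .g false (.n .h true .o .o) .o)) .o) .o) .o)))) (.n .f
  false (.w true .o (.n .i false (.w false (.n .g true .o .o) (.n .k false (.w false (.n .a false (.n .e false (.n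
  .g true .o .o) .o) (.n .g true .o .o)) .o) .o)) (.n .j false (.n .i false (.n .k false (.w false (.n .a false
  (.n .e true .o .o) .o) .o) .o) (.n .k false (.w false (.n .a false (.n .e false (.n .g false (.n .h true .o .o)
  .o) .o) .o) .o) .o)) (.n .k false (.w false (.n .a false (.n .e false (.n .g false (.n .h true .o .o) .o) .o)
  (.n .e false (.n .g true .o .o) (.n .g true .o .o))) .o) .o)))) (.n .i false (.w false (.n .e false (.n .g true
  .o .o) .o) .o) (.n .j false (.w false (.n .e false (.n .g false (.n .h true .o .o) .o) (.n .h true .o .o)) (.n
  .i false (.n .k false (.w false (.n .a true .o (.n .e true .o (.n .g true .o .o))) .o) .o) .o)) .o))))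

def t3_31 : MF :=
  (.n .b (.n .d (.n .f (.n .j (.n .i (.n .k (.w (.p false (.n .a true (.n .e false (.n .g false (.n .h true .o .o)
  .o) (.n .h true .o .o)) (.n .e false (.n .h true .o .o) .o)) .o) .o) .o) .o) .o) (.n .i (.n .k (.w (.p true (.n
  .a true (.n .e false (.n .h true .o .o) (.n .g true .o .o)) (.n .e true .o (.n .g true (.n .h true .o .o) (.n .h
  true .o .o)))) (.n .a (.n .c (.n .g (.n .h (.n .l (.w (.p false t3_28 t3_27) .o) .o) .o) .o) .o) .o)) .o) .o)
  .o)) (.n .j (.n .k (.w (.p true (.n .a false (.n .e false (.n .g false (.n .h true .o .o) .o) .o) (.n .g false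
  (.n .h true .o .o) (.n .h true .o .o))) .o) .o) .o) (.n .k (.w (.p false (.n .a true (.n .e false (.n .g false
  (.n .h true .o .o) (.n .h true .o .o)) .o) (.n .e false (.n .g false (.n .h true .o .o) .o) (.n .g true .o .o)))
  (.n .a (.n .c (.n .e (.n .g (.n .l (.w (.p false (.n .b false (.n .d false (.n .f false (.w false (.n .a false
  (.n .e false (.n .g true .o .o) .o) .o) .o) .o) .o) (.n .d false (.n .f false (.n .i false (.n .k false (.w
  false (.n .a false (.n .h true .o .o) .o) .o) .o) .o) .o) .o)) .o) .o) .o) .o) .o) (.n .e (.n .l (.w (.p false
  (.n .d false (.n .f false (.n .k false (.w false (.n .g true .o .o) .o) .o) .o) .o) .o) .o) .o) .o)) .o)) .o)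
  .o))) (.n .d t3_29 (.n .j (.w (.p false (.n .a false (.n .e false (.n .g false (.n .h true .o .o) .o) (.n .h
  true .o .o)) (.n .e true (.n .g true (.n .h true .o .o) (.n .h true .o .o)) (.n .g true .o (.n .h true .o .o))))
  .o) .o) .o)))

def t3_32 : MF :=
  (.p false (.n .b false t3_30 (.n .d false (.w false (.n .a false (.n .e false (.n .g false (.n .h true .o .o)
  .o) .o) (.n .e true .o (.n .g true .o .o))) (.n .f false (.n .j false (.n .i false (.w false (.n .a true .o (.n
  .h true .o .o)) .o) (.n .k false (.w false (.n .e false (.n .g true .o .o) .o) .o) .o)) (.n .k false (.w false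
  (.n .a false (.n .e false (.n .g true .o .o) .o) .o) .o) .o)) (.n .i false (.w true (.n .a false (.n .g true .o
  .o) .o) (.n .k false (.w false (.n .a false (.n .e true (.n .g true (.n .h true .o .o) .o) .o) .o) .o) .o)) (.n
  .j false (.n .i false (.w false (.n .a false (.n .g true .o .o) .o) .o) .o) .o)))) (.n .f false (.n .i false (.n
  .k false (.w false (.n .e true .o .o) .o) .o) (.n .j false (.w false (.n .a false (.n .h true .o .o) .o) (.n .k
  false (.w true (.n .a false (.n .h true .o .o) (.n .g true .o .o)) .o) .o)) .o)) (.n .i false (.n .k false (.w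
  false (.n .e true .o .o) .o) .o) (.n .j false (.n .i false (.w false (.n .e false (.n .g true .o .o) .o) (.n .k
  false (.w false (.n .a false (.n .e false (.n .g true .o .o) .o) (.n .e true .o .o)) .o) .o)) (.n .k false (.w
  false (.n .a false (.n .g false (.n .h true .o .o) .o) (.n .e false (.n .g false (.n .h true .o .o) .o) (.n .g
  true .o .o))) .o) .o)) (.n .k false (.w false (.n .a false (.n .e false (.n .h true .o .o) (.n .g true .o .o))
  (.n .g true .o .o)) .o) .o)))))) t3_31)

def t3_33 : MF :=
  (.n .d (.w (.p true (.n .a true (.n .e false (.n .h true .o .o) .o) (.n .e true .o (.n .g true .o .o))) .o) (.n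
  .f (.n .j (.w (.p false (.n .a true (.n .g true (.n .h true .o .o) .o) (.n .e false (.n .g true (.n .h true .o
  .o) .o) (.n .g false (.n .h true .o .o) .o))) .o) (.n .k (.w (.p false (.n .a false (.n .e true (.n .g true .o
  .o) (.n .g true (.n .h true .o .o) .o)) (.n .e false (.n .g true (.n .h true .o .o) .o) (.n .h true .o .o))) .o)
  .o) .o)) (.n .k (.w (.p true (.n .a false (.n .e false (.n .h true .o .o) .o) (.n .e false (.n .g false (.n .h
  true .o .o) .o) (.n .g true .o .o))) .o) .o) .o)) (.n .j (.w (.p false (.n .a false (.n .e false (.n .g false
  (.n .h true .o .o) .o) (.n .g false (.n .h true .o .o) (.n .h true .o .o))) (.n .e false (.n .g true (.n .h true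
  .o .o) .o) (.n .g false (.n .h true .o .o) .o))) .o) .o) .o))) (.n .f (.n .i (.n .k (.w (.p false (.n .a false
  (.n .g true .o (.n .h true .o .o)) (.n .g true .o (.n .h true .o .o))) .o) .o) .o) .o) (.n .i (.n .k (.w (.p
  true (.n .a false (.n .e true (.n .g true (.n .h true .o .o) .o) (.n .g true (.n .h true .o .o) .o)) (.n .e
  false (.n .g true (.n .h true .o .o) (.n .h true .o .o)) .o)) .o) .o) .o) (.n .j (.n .i (.w (.p false (.n .a
  true (.n .e true (.n .h true .o .o) (.n .h true .o .o)) (.n .g false (.n .h true .o .o) (.n .h true .o .o))) .o)
  .o) .o) (.n .k (.w (.p false (.n .a false (.n .e false (.n .g false (.n .h true .o .o) (.n .h true .o .o)) (.n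
  .g false (.n .h true .o .o) .o)) (.n .e true (.n .g false (.n .h true .o .o) (.n .h true .o .o)) .o)) .o) .o)
  .o)))))

def t3_34 : MF :=
  (.n .b (.w (.p false (.n .a true (.n .e true (.n .h true .o .o) .o) (.n .e true (.n .h true .o .o) .o)) .o)
  t3_33) (.n .d (.w (.p false (.n .a false (.n .e false (.n .g false (.n .h true .o .o) .o) .o) (.n .e true (.n .g
  false (.n .h true .o .o) .o) (.n .g true (.n .h true .o .o) .o))) .o) (.n .f (.w (.p false (.n .a false (.n .e
  false (.n .g false (.n .h true .o .o) .o) (.n .g false (.n .h true .o .o) .o)) (.n .e true (.n .g true (.n .h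
  true .o .o) (.n .h true .o .o)) (.n .g false (.n .h true .o .o) (.n .h true .o .o)))) (.n .a (.n .c (.n .e (.n
  .g (.n .l (.w t3_32 .o) .o) .o) .o) .o) .o)) (.n .i (.w (.p false (.n .a false (.n .e false (.n .g true .o .o)
  .o) (.n .e true (.n .g true .o .o) (.n .g true .o .o))) .o) .o) (.n .j (.n .i (.n .k (.w (.p false (.n .a true
  (.n .g true .o .o) (.n .e true (.n .g true .o .o) .o)) .o) .o) .o) .o) .o))) (.n .j (.n .k (.w (.p false (.n .a
  false (.n .e true .o (.n .g true (.n .h true .o .o) (.n .h true .o .o))) (.n .e true .o (.n .h true .o .o))) .o)
  .o) .o) (.n .k (.w (.p false (.n .a false (.n .e true (.n .h true .o .o) (.n .h true .o .o)) (.n .e false (.n .g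
  false (.n .h true .o .o) .o) (.n .h true .o .o))) .o) .o) .o)))) (.n .i (.n .k (.w (.p false (.n .a true (.n .e
  false (.n .g true (.n .h true .o .o) .o) (.n .g false (.n .h true .o .o) .o)) (.n .g true .o .o)) .o) .o) .o)
  (.n .j (.n .k (.w (.p false (.n .a true (.n .e true (.n .g true (.n .h true .o .o) .o) (.n .g true .o .o)) (.n
  .h true .o .o)) .o) .o) .o) .o))))

def t3_35 : PF :=
  (.n .b false (.n .d false (.n .f false (.n .j false (.n .i false (.w false (.n .a false (.n .g true .o .o) .o)
  .o) .o) .o) (.n .j false (.n .i false (.n .k false (.w false (.n .a true .o .o) .o) .o) (.n .k false (.w false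
  (.n .a true (.n .g false (.n .h true .o .o) .o) (.n .h true .o .o)) .o) .o)) .o)) (.n .f false (.n .k false (.w
  false (.n .g true .o .o) .o) .o) (.n .j false (.n .i false (.n .k false (.w false (.n .a true (.n .e true .o .o)
  (.n .e false (.n .h true .o .o) .o)) .o) .o) .o) .o))) (.n .d false (.n .f false (.n .j false (.w false (.n .a
  false (.n .e false (.n .h true .o .o) (.n .h true .o .o)) (.n .e false (.n .g true .o .o) .o)) (.n .k false (.w
  false (.n .g false (.n .h true .o .o) .o) .o) .o)) (.n .k false (.w false (.n .a false (.n .e true .o .o) (.n .e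
  false (.n .g false (.n .h true .o .o) (.n .h true .o .o)) .o)) .o) .o)) (.n .i false (.w false (.n .a true .o
  (.n .e true .o (.n .g true .o .o))) (.n .k false (.w false (.n .e false (.n .g true .o .o) .o) .o) .o)) (.n .j
  false (.w false (.n .e false (.n .h true .o .o) .o) .o) .o))) (.n .f false (.w false (.n .a true .o (.n .g false
  (.n .h true .o .o) .o)) (.n .i false (.w false (.n .g true .o .o) (.n .k false (.w false (.n .a false (.n .g
  true .o (.n .h true .o .o)) (.n .g false (.n .h true .o .o) .o)) .o) .o)) (.n .j false (.n .i false (.w false
  (.n .g false (.n .h true .o .o) .o) (.n .k false (.w false (.n .h true .o .o) .o) .o)) .o) .o))) (.n .i false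
  (.w false (.n .a true (.n .g true .o .o) (.n .e false (.n .h true .o .o) .o)) .o) (.n .j false (.n .i false (.n
  .k false (.w true .o .o) .o) .o) .o)))))

def t3_36 : MF :=
  (.n .i (.w (.p false (.n .a true (.n .e false (.n .g false (.n .h true .o .o) .o) (.n .g false (.n .h true .o
  .o) (.n .h true .o .o))) (.n .g true .o .o)) .o) (.n .k (.w (.p false (.n .a true (.n .g false (.n .h true .o
  .o) .o) (.n .e true (.n .g true .o .o) (.n .g true (.n .h true .o .o) (.n .h true .o .o)))) (.n .a (.n .c (.n .g
  (.n .h (.w (.p false (.n .d false (.n .f false (.w false (.n .e true .o .o) .o) .o) (.n .f false (.n .j false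
  (.n .i false (.w false (.n .a true .o (.n .e false (.n .h true .o .o) .o)) .o) .o) .o) (.n .j false (.n .k false
  (.w false (.n .e false (.n .g true .o .o) .o) .o) .o) .o))) .o) .o) .o) .o) .o) .o)) .o) .o)) (.n .j (.w (.p
  false (.n .a false (.n .e false (.n .g true (.n .h true .o .o) .o) (.n .g false (.n .h true .o .o) .o)) (.n .e
  false (.n .h true .o .o) .o)) .o) (.n .i (.w (.p true (.n .a false (.n .e false (.n .h true .o .o) .o) (.n .e
  false (.n .g true (.n .h true .o .o) (.n .h true .o .o)) .o)) .o) (.n .k (.w (.p true (.n .a true (.n .e false
  (.n .g false (.n .h true .o .o) .o) .o) (.n .e true .o .o)) .o) .o) .o)) (.n .k (.w (.p true (.n .e false (.n .g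
  false (.n .h true .o .o) (.n .h true .o .o)) (.n .g false (.n .h true .o .o) (.n .h true .o .o))) .o) .o) .o)))
  (.n .k (.w (.p true (.n .a false (.n .e true (.n .h true .o .o) .o) (.n .e false (.n .g false (.n .h true .o .o)
  .o) (.n .g false (.n .h true .o .o) (.n .h true .o .o)))) .o) .o) .o)))

def t3_37 : MF :=
  (.n .d (.w (.p false (.n .a false (.n .g false (.n .h true .o .o) (.n .h true .o .o)) (.n .e true (.n .g false
  (.n .h true .o .o) .o) .o)) .o) (.n .f (.n .j (.w (.p false (.n .a false (.n .e true .o (.n .h true .o .o)) (.n
  .e false (.n .h true .o .o) (.n .h true .o .o))) .o) .o) (.n .k (.w (.p false (.n .a false (.n .e true (.n .g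
  true .o .o) (.n .g false (.n .h true .o .o) .o)) (.n .e true (.n .g true (.n .h true .o .o) .o) .o)) .o) .o)
  .o)) (.n .j (.w (.p false (.n .a true (.n .e false (.n .g true (.n .h true .o .o) .o) .o) (.n .e false (.n .h
  true .o .o) (.n .h true .o .o))) .o) (.n .i (.w (.p false (.n .a true (.n .g false (.n .h true .o .o) (.n .h
  true .o .o)) (.n .e false (.n .h true .o .o) (.n .h true .o .o))) .o) (.n .k (.w (.p true (.n .a false (.n .e
  true .o (.n .g true (.n .h true .o .o) .o)) (.n .e true .o (.n .h true .o .o))) (.n .c (.n .e (.n .g (.n .h (.n
  .l (.w (.p false t3_35 t3_34) .o) .o) .o) .o) .o) .o)) .o) .o)) (.n .k (.w (.p true (.n .a false (.n .e false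
  (.n .g false (.n .h true .o .o) .o) (.n .g true (.n .h true .o .o) .o)) (.n .e true .o .o)) .o) .o) .o))) .o)))
  (.n .f (.w (.p true (.n .a false (.n .e false (.n .h true .o .o) .o) (.n .e true .o (.n .h true .o .o))) .o) .o)
  (.n .i (.n .k (.w (.p false (.n .a true (.n .e true (.n .h true .o .o) (.n .g true .o .o)) (.n .g true .o .o))
  .o) .o) .o) (.n .j (.n .i (.w (.p false (.n .a false (.n .g true .o .o) (.n .e false (.n .g false (.n .h true .o
  .o) .o) (.n .g true (.n .h true .o .o) (.n .h true .o .o)))) .o) .o) (.n .k (.w (.p true (.n .a true (.n .e
  false (.n .g true .o .o) .o) (.n .e false (.n .h true .o .o) (.n .g false (.n .h true .o .o) (.n .h true .o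
  .o)))) .o) .o) .o)) .o))))

def t3_38 : PF :=
  (.n .b false (.w false (.n .a false (.n .e false (.n .g false (.n .h true .o .o) .o) .o) (.n .e false (.n .g
  false (.n .h true .o .o) .o) .o)) (.n .d false (.w false (.n .e false (.n .g true .o .o) .o) (.n .f false (.n .i
  false (.n .k false (.w false (.n .a false (.n .e false (.n .g false (.n .h true .o .o) .o) .o) .o) .o) .o) (.n
  .j false (.n .i false (.w false (.n .h true .o .o) (.n .k false (.w false (.n .a false (.n .e false (.n .h true
  .o .o) .o) .o) .o) .o)) (.n .k false (.w false (.n .a false (.n .e true .o .o) (.n .e false (.n .h true .o .o)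
  .o)) .o) .o)) .o)) .o)) (.n .f false (.n .i false (.w false (.n .a false (.n .e true .o .o) (.n .e false (.n .g
  false (.n .h true .o .o) .o) .o)) .o) (.n .j false (.w false (.n .a false (.n .h true .o .o) .o) (.n .k false
  (.w false (.n .e true .o .o) .o) .o)) .o)) (.n .j false (.n .i false (.w false (.n .a true .o (.n .e false (.n
  .g true .o .o) (.n .g false (.n .h true .o .o) .o))) (.n .k false (.w false (.n .a false (.n .e false (.n .h
  true .o .o) .o) (.n .e false (.n .g false (.n .h true .o .o) .o) .o)) .o) .o)) .o) .o)))) (.n .d false (.n .f
  false (.w false (.n .a false (.n .h true .o .o) .o) (.n .j false (.n .i false (.w true (.n .a false (.n .e true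
  .o .o) .o) .o) .o) .o)) (.n .k false (.w false (.n .a false (.n .g false (.n .h true .o .o) .o) (.n .e false (.n
  .h true .o .o) (.n .g false (.n .h true .o .o) .o))) .o) .o)) (.n .f false (.n .i false (.w false (.n .a false
  (.n .e true .o .o) (.n .e true (.n .g true .o .o) .o)) (.n .k false (.w false (.n .a false (.n .g false (.n .h
  true .o .o) .o) (.n .e true .o .o)) .o) .o)) (.n .j false (.n .i false (.n .k false (.w false (.n .e true .o .o)
  .o) .o) .o) .o)) (.n .j false (.w false (.n .e true (.n .g false (.n .h true .o .o) .o) (.n .g false (.n .h true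
  .o .o) .o)) .o) .o))))

def t3_T : MF :=
  (.p false (.n .e true (.n .g true .o (.n .h true .o .o)) .o) (.n .a (.n .c (.n .e (.w (.p false t3_38 (.n .b (.n
  .d (.n .f (.w (.p false (.n .a false (.n .g true (.n .h true .o .o) .o) (.n .e false (.n .g false (.n .h true .o
  .o) .o) (.n .g true .o (.n .h true .o .o)))) .o) (.n .i (.w (.p false (.n .a false (.n .e true (.n .g true .o
  .o) (.n .g true .o .o)) (.n .e false (.n .g true .o .o) .o)) .o) .o) (.n .k (.w (.p false (.n .a true (.n .e
  true .o .o) (.n .e true .o (.n .g false (.n .h true .o .o) .o))) .o) .o) .o))) t3_36) (.n .f (.n .i (.n .k (.w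
  (.p false (.n .a false (.n .g false (.n .h true .o .o) (.n .h true .o .o)) (.n .e true (.n .g true .o .o) .o))
  .o) .o) .o) .o) (.n .j (.n .k (.w (.p true (.n .a true (.n .e false (.n .g false (.n .h true .o .o) .o) (.n .g
  true .o (.n .h true .o .o))) (.n .e true .o (.n .g true (.n .h true .o .o) .o))) (.n .e (.n .g (.n .h (.w (.p
  false t3_0 .o) .o) .o) .o) .o)) .o) .o) .o))) t3_37)) .o) .o) .o) (.n .c (.n .g (.n .h (.n .l (.w (.p false (.n
  .d false (.n .f false (.n .j false (.n .k false (.w false (.n .g true .o .o) .o) .o) .o) .o) .o) .o) .o) .o) .o)
  .o) .o)))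

def l3 : List ℕ :=
  [133063, 133079, 133087, 98628, 98632, 98637, 98641, 98644, 98645, 98652, 98653, 62467, 62471, 62483, 118626,
  118631, 118643, 81666, 81671, 94210, 94231, 108939, 108959, 109006, 109018, 235205, 235228, 239749, 239764,
  75975, 89638, 94359, 98454, 114189, 124435, 124954, 141349, 141394, 141451, 158384, 235232, 235264, 235301,
  236305, 236969, 238100, 132609, 132612, 132617, 132621, 132629, 132636, 132637, 223618, 223639, 145739, 188132,
  117312, 117317, 117328, 117333, 117337, 117341, 124864, 124868, 124876, 124884, 124885, 124889, 146720, 146721,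
  146725, 146732, 146741, 146748, 186627, 186630, 186631, 186638, 186643, 186646, 186647, 186650, 186655, 148418,
  148419, 148422, 148423, 148427, 148431, 148439, 148447, 139873, 139876, 139877, 139880, 139881, 139889, 139897,
  139901, 151652, 151653, 151657, 151660, 151661, 151669, 151672, 151677, 264098, 264099, 264107, 264110, 264119,
  264122, 264123, 264126, 10562, 10570, 10579, 10587, 10590, 10591, 31525, 31536, 27099, 31068, 264423, 265197,
  284596, 30881, 30884, 30885, 30896, 30901, 30909, 26082, 26094, 26110, 26103, 26107, 27435, 27439, 27446, 27447,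
  27455, 31073, 31076, 31080, 31088, 31097, 31104, 31112, 31116, 31129, 31132, 31489, 31500, 31509, 31512, 31517,
  31617, 31624, 31628, 31633, 31636, 185666, 185674, 185675, 185682, 185691, 262437, 262441, 262444, 262445,
  262449, 264616, 264621, 264628, 264629, 264632, 26563, 26570, 26587, 26590, 27911, 27918, 27919, 27927, 28609,
  28621, 28628, 28637, 29134, 29135, 29150, 29151, 30600, 30609, 30612, 30616, 168451, 168458, 168470, 168479,
  135200, 135201, 135204, 135208, 135209, 135213, 135217, 135225, 119328, 119329, 119337, 119345, 119349, 119356,
  119357, 260035, 260039, 260042, 260043, 260047, 260051, 260063, 164961, 164964, 164965, 164972, 164984, 164985,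
  125632, 125637, 125648, 125652, 125657, 61797, 61800, 61804, 61805, 61821, 10050, 10074, 10067, 10078, 9971,
  9978, 9979, 10163, 10166, 17992, 17993, 20512, 20533, 45547, 45558, 251250, 251251, 3404, 3446, 8007, 17890,
  18035, 18059, 19491, 48205, 73265, 99313, 229670, 250432, 250751, 298663, 50283, 50286, 50287, 50290, 210970,
  210975, 51075, 55299, 56711, 69524, 69930, 249796, 250891, 269019, 289754, 296819, 302859, 303021, 307323, 9771,
  9786, 15019, 15031, 1926, 1946, 7072, 248491, 13984, 97058, 97075, 97087, 6626, 6642, 9670, 9682, 16451, 16458,
  46691, 46707, 81010, 81022, 212838, 212850, 250149, 250164, 251511, 251519, 2823, 2858, 7070, 7297, 17623,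
  19127, 21398, 23047, 23652, 56122, 70122, 128487, 211834, 212075, 216830, 250606, 252001, 295352, 63268, 63273,
  63285, 63292, 50589, 56665, 211608, 211664, 214488, 71460, 71469, 71464, 71472, 74410, 74426, 74427, 74430,
  250829, 304976, 95082, 95086, 95091, 95094, 214410, 214411, 214426, 214430, 250786, 250794, 250795, 250803,
  295402, 295403, 295406, 295422, 16514, 16515, 16518, 16543, 16542, 4066, 6175, 6560, 10022, 10031, 10027, 10039,
  17286, 17287, 17290, 17299, 10336, 10345, 10357, 4695, 4979, 10283, 18158, 20743, 20915, 88975, 252251, 295499,
  9828, 14935, 295343, 68551, 68555, 68558, 68562, 19619, 19623, 19626, 21186, 21187, 21190, 23146, 23163, 23167,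
  52930, 52947, 52954, 2854, 2870, 10241, 10245, 22355, 22363, 295275, 295290, 2906, 6555, 6786, 6926, 7209,
  10273, 12457, 18214, 19162, 20960, 22314, 24694, 63406, 67456, 78851, 86507, 100334, 116205, 211443, 212026,
  214269, 71712, 71716, 71737, 100554, 100558, 100574, 112424, 112441, 112445, 116069, 116080, 116081, 116907,
  116919, 116926, 128160, 128177, 128189, 252066, 252079, 252087, 73908, 73909, 83181, 83185, 93611, 93615, 97257,
  97273, 105217, 105221, 112041, 112060, 118536, 118540, 121540, 121556, 214201, 214204, 214795, 214798, 215392,
  215393, 251912, 251921, 67531, 77854, 78785, 144949, 215545, 219076, 250046, 252294, 142400, 142404, 142416,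
  142420, 142424, 159364, 159376, 159380, 159381, 159389, 29924, 29928, 29929, 29937, 29941, 29944, 29948, 163822,
  163823, 163826, 163831, 163834, 163838, 163839, 260674, 260694, 260695, 275203, 275215, 275227, 85390, 85395,
  144576, 144584, 260945, 260957, 262504, 262509, 262977, 262981, 99227, 127888, 147021, 149185, 159860, 161165,
  162240, 255949, 258392, 260285, 260766, 262451, 276879, 281313, 24228, 24233, 29508, 29521, 180360, 180369,
  181113, 181117, 5477, 5622, 5662, 23169, 24263, 25925, 26880, 28065, 28376, 97445, 106675, 112760, 112807,
  120711, 131699, 171757, 181225, 27265, 27268, 27277, 27288, 27292, 24902, 24911, 24922, 24923, 27238, 27251,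
  27255, 27258, 27682, 27702, 27703, 27706, 130663, 130671, 130674, 130679, 140070, 140075, 140094, 140095,
  176870, 176886, 176887, 176895, 27651, 27655, 27671, 27785, 27789, 27793, 28039, 28043, 28055, 28174, 28182,
  28191, 153218, 153243, 153247, 155754, 155762, 155774, 172519, 172531, 172535, 281651, 281655, 281659, 281900,
  281908, 281916, 25995, 26010, 26374, 26399, 26794, 26811, 27498, 27511, 29399, 29403, 140966, 140979, 157879,
  157886, 175970, 175975, 27872, 28014, 28463, 28913, 30030, 30360, 171559, 179863, 279544, 279677, 282619,
  303718, 173700, 173701, 173704, 173712, 173721, 172896, 172897, 172901, 172908, 172909, 172913, 172920, 125923,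
  125930, 125931, 125935, 125943, 125946, 258466, 258470, 258471, 258483, 258486, 258494, 142086, 142095, 142099,
  142106, 142110, 161828, 161829, 161832, 161833, 161849, 254917, 254925, 254929, 254936, 254940, 138467, 138474,
  138475, 138487, 116135, 116155, 148579, 148587, 223340, 223357, 240176, 240177, 90142, 102806, 108259, 150978,
  155364, 160725, 161856, 168668, 219631, 238548, 240044, 241553, 242184, 69043, 69046, 69050, 135811, 135826,
  135835, 167751, 167759, 167774, 88586, 88602, 102210, 102231, 103686, 103691, 105923, 105942, 106282, 106298,
  111255, 111259, 126923, 126931, 130995, 131006, 141987, 142006, 149015, 149023, 216103, 216115, 217323, 217342,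
  295594, 295615, 295882, 295899, 79803, 92058, 95419, 114746, 122415, 128006, 130154, 150866, 168899, 171166,
  218986, 252951, 253851, 254914, 255761, 257526, 258499, 261535, 295796, 256514, 256523, 256530, 256535, 256542,
  259812, 259813, 259820, 259825, 259829, 107874, 107875, 107891, 107902, 70609, 98241, 152662, 152666, 152667,
  152670, 151940, 151949, 151956, 151964, 151965, 71362, 71374, 71379, 71391, 61421, 83240, 105340, 212905,
  107970, 107982, 107991, 107994, 141635, 141643, 141651, 141659, 144257, 144261, 144280, 144284, 152528, 152537,
  152540, 152541, 169153, 169156, 169165, 169173, 180964, 187235, 226446, 227336, 246225, 217858, 217859, 217863,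
  217874, 93638, 93642, 93663, 127681, 127684, 127700, 154179, 154182, 154191, 107911, 107935, 140426, 140447,
  222504, 222509, 223553, 223557, 236744, 236745, 237253, 237268, 241893, 241916, 82887, 93702, 96458, 107779,
  111754, 127386, 127490, 135527, 136001, 136066, 140739, 140807, 157090, 157460, 219282, 220957, 221309, 222652,
  222940, 238035, 240708, 240964, 301722, 180041, 180045, 180053, 180061, 182116, 182117, 182120, 182136, 205040,
  205048, 205049, 205052, 255554, 255562, 255574, 255583, 258883, 258894, 258903, 258907, 260496, 260501, 260505,
  260508, 295896, 295900, 143541, 150327, 152235, 159735, 223029, 238682, 242364, 254758, 255114, 256856, 261374,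
  295869, 158435, 158438, 158463, 175168, 175180, 175193, 186945, 186968, 186972, 205552, 205553, 205557, 207189,
  207192, 207196, 255213, 255217, 255221, 122539, 122543, 124806, 124826, 127758, 127770, 140322, 140347, 157314,
  157327, 172935, 172947, 176552, 176557, 179988, 179996, 181952, 181953, 183397, 183400, 256288, 256292, 256323,
  256331, 257224, 257232, 120011, 141047, 179800, 182577, 183249, 186920, 203041, 203421, 205324, 205949, 257332,
  257812, 259659, 304446, 255560, 255561, 255569, 255572, 255581, 109764, 109776, 109777, 109781, 261475, 261478,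
  261482, 261494, 262341, 262353, 262357, 262364, 264548, 264556, 264560, 264564, 283109, 283117, 283121, 283125,
  148384, 148385, 148397, 234405, 234413, 234428, 236352, 236368, 236376, 263015, 263018, 263023, 264128, 264129,
  264133, 278536, 278548, 278556, 282560, 282568, 282580, 142153, 142172, 151536, 151540, 158992, 159001, 243401,
  243408, 276849, 276857, 125189, 181124, 234964, 237221, 238273, 238341, 239660, 240969, 260116, 260103, 262350,
  263073, 277260, 176994, 177002, 177015, 177018, 264233, 264245, 264249, 264252, 265122, 265127, 265134, 265143,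
  10378, 10387, 10395, 10451, 10455, 10458, 26858, 26871, 26875, 29963, 29971, 29983, 30957, 30960, 30972, 31332,
  31333, 31337, 173863, 173874, 173887, 10484, 10489, 10511, 10522, 10530, 10555, 29094, 29115, 159227, 159231,
  181931, 181935, 284045, 284057, 284384, 284412, 4171, 265408, 280477, 284932, 256675, 256682, 256687, 256690,
  256691, 256695, 256698, 256703, 256221, 257872, 257154, 257159, 257163, 257166, 257171, 257178, 95170, 95178,
  95179, 95190, 95199, 16887, 19723, 69815, 256610, 256618, 256619, 256626, 256635, 259224, 259228, 85776, 91867,
  94936, 115405, 121097, 159241, 254657, 273091, 274392, 258114, 258115, 258123, 258139, 258142, 109703, 109706,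
  109711, 109719, 151724, 151728, 151737, 151740, 257129, 257133, 257145, 257149, 109962, 109979, 109983, 121260,
  121269, 121277, 135273, 135284, 135285, 135340, 135344, 135348, 136872, 136877, 136892, 153528, 153529, 153533,
  196161, 196164, 196173, 258210, 258222, 258235, 258851, 258859, 258867, 279045, 279065, 279069, 140164, 140180,
  195864, 195869, 199360, 199369, 259557, 259572, 259558, 259567, 277029, 277033, 279601, 279613, 280128, 280156,
  103200, 139237, 196600, 198864, 199848, 200569, 255073, 259178, 259630, 276949, 279277, 279361, 292108, 292153,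
  261121, 261124, 261128, 261137, 261140, 261141, 261149, 132354, 132362, 132363, 132370, 132382, 132383, 163138,
  163142, 163146, 163150, 163158, 163163, 181601, 181604, 181605, 181612, 181613, 181628, 185512, 185516, 185521,
  185528, 185529, 185532, 254880, 254881, 254884, 254885, 254888, 254901, 258856, 258857, 258861, 258864, 258872,
  258877, 131779, 131782, 131783, 131795, 131807, 140003, 140010, 140014, 140015, 140026, 173442, 173446, 173459,
  173462, 173466, 176460, 176461, 176472, 176476, 176477, 255466, 255479, 255483, 255486, 255487, 200082, 200087,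
  200090, 200095, 200403, 200406, 200407, 200415, 245954, 245955, 245978, 245979, 260006, 260015, 260018, 260026,
  154274, 154278, 154303, 165063, 165071, 165086, 172098, 172106, 172127, 185454, 185467, 185471, 198739, 198746,
  198751, 243270, 243279, 243294, 257156, 257165, 257180, 237698, 237723, 121711, 149123, 169803, 199079, 239707,
  240387, 242963, 243252, 290315, 290424, 178180, 178181, 178188, 178189, 178201, 178204, 121029, 121041, 121045,
  121049, 121053, 133156, 133157, 133160, 133164, 133176, 149605, 149612, 149621, 149625, 149629, 149804, 149805,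
  149812, 149816, 149821, 151296, 151300, 151309, 151321, 151325, 156260, 156264, 156272, 156273, 156280, 156453,
  156457, 156464, 156468, 156473, 163372, 163373, 163380, 163384, 163388, 166593, 166596, 166597, 166604, 166612,
  133475, 133483, 133494, 133502, 137025, 137028, 137029, 137048, 139689, 139696, 139705, 139709, 149376, 149380,
  149381, 149401, 149664, 149685, 149688, 149693, 150240, 150244, 150257, 150260, 166241, 166248, 166249, 166253,
  221801, 221816, 221820, 221821, 133236, 133237, 133241, 141256, 141260, 141264, 146469, 146472, 146492, 167072,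
  167073, 167080, 117576, 117577, 120976, 120985, 150177, 150200, 166924, 166929, 220612, 220629, 223457, 223460,
  132968, 165916, 166453, 219773, 221652, 221812, 222353, 296087, 99007]

def t4_T : MF :=
  (.p true (.w false (.n .k false (.w false (.n .l false (.n .a false (.w false (.n .k false (.n .b false (.w
  false (.n .c false (.w false (.n .d false (.w false (.n .h true .o (.n .e false (.w false (.n .f false (.w false
  (.n .g false (.w false (.n .j false (.w false (.n .h true (.w false (.n .d false (.w false (.n .c false (.w
  false (.n .b false (.w false (.n .e false (.w false (.n .f false (.w false (.n .g false (.w false (.n .i false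
  (.w false (.n .h false (.w false (.n .d false (.w false (.n .c false (.n .e false (.w false (.n .d false (.n .f
  false (.w false (.n .e false (.n .g false (.w false (.n .f false (.w true .o .o) .o) .o) .o) .o) .o) .o) .o) .o)
  .o) .o) .o) .o) .o) .o) .o) .o) .o) .o) .o) .o) .o) .o) .o) .o) .o) .o) .o) .o) .o) .o) .o) .o) (.n .h false (.w
  false (.n .d false (.w false (.n .c false (.w false (.n .i false (.w false (.n .h false (.w false (.n .d false
  (.w false (.n .e false (.w false (.n .f false (.w true .o .o) .o) .o) .o) .o) .o) .o) .o) .o) .o) .o) .o) .o)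
  .o) .o) .o)) .o) .o) .o) .o) .o)) .o) .o) .o) (.n .a false (.n .c false (.w false (.n .d false (.w false (.n .e
  false (.w false (.n .f false (.w false (.n .h true .o .o) .o) .o) .o) .o) .o) (.n .b false (.w true .o (.n .d
  false (.w false (.n .c false (.n .e false (.w false (.n .d false (.n .f false (.w false (.n .e false (.n .g
  false (.w false (.n .f false (.w true .o .o) .o) .o) .o) .o) .o) .o) .o) .o) .o) .o) .o) .o)) .o)) .o) .o) .o))
  .o) .o) .o) .o) .o) (.n .a false (.w false (.n .b false (.w false (.n .c false (.w false (.n .d false (.w false
  (.n .e false (.w false (.n .f false (.w false (.n .g false (.n .h false (.w false (.n .d false (.w false (.n .c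
  false (.w false (.n .b false (.w false (.n .a false (.w false (.n .k false (.w false (.n .e false (.w false (.n
  .f false (.n .i false (.w false (.n .h true .o .o) .o) .o) .o) .o) .o) .o) .o) .o) .o) .o) .o) .o) .o) .o) .o)
  .o) .o) .o) .o) .o) .o) .o) .o) .o) .o) .o) .o) .o) .o) .o)) .o) .o) .o) .o)

def l4 : List ℕ :=
  [0, 2, 8, 3249, 784, 182, 2640, 484, 999]

end Cfsg.Agent.H532.PNormTwo.Fi24
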