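import Cfsg.Agent.H30.FiE.Ctx

/-!
# `Fi24`: points `q` such that the transpositions of `q` and `x q` commute (helper532)

* `MF`, `PF` : trees of letters and changes of the numbering of the points;
* `mw` : the points visited by a walk in such a tree starting at a point with a mask of commuting points, if the test
  for `q` and `x q` is in agreement with the mask `U`;
* `mw_spec`.
-/

set_option autoImplicit false
set_option maxRecDepth 100000

namespace Cfsg.Agent.H532.PNormTwo.Fi24

open Cfsg Cfsg.Agent.Lib.PermNet Cfsg.Agent.Lib.PermNetPt Cfsg.Agent.Lib.PermNetOrbit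
open Cfsg.Agent.Fischer.Fi24RepDef Cfsg.Agent.Fischer.Fi24Rep Cfsg.Agent.Fischer.Fi24RepLib
open Cfsg.Agent.Fischer.Fi24RepPi (pi pir)
open Cfsg.Agent.Fischer.Fi24RepOrb (UG)
open Cfsg.Spor (Fi24)
open Cfsg.Spor.Fi24 (Gen)
open Cfsg.Agent.H30.FiE
open Cfsg.Agent.H30.PairFn (papply_inv pinv_apply)

/-! ### Trees -/

/-- trees at the level of points: `n` letter (record the point?), first child, next sibling; `w` change of numbering -/
inductive PF : Type
  | o : PF
  | n (x : Gen) (r : Bool) (c s : PF) : PF
  | w (r : Bool) (c s : PF) : PF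

/-- trees at the level of masks; `p` enters the level of points -/
inductive MF : Type
  | o : MF
  | n (x : Gen) (c s : MF) : MF
  | w (c s : MF) : MF
  | p (r : Bool) (c : PF) (s : MF) : MF

/-! ### Images of points by bit planes -/

/-- the number with the bits `m.testBit p`, `m` in the list -/
noncomputable def img (X : List ℕ) (p : ℕ) : ℕ :=
  List.rec (motive := fun _ => ℕ) 0 (fun m _ ih => Nat.add (Nat.mul 2 ih) (Bool.rec 0 1 (tbc m p))) X

theorem img_cons (m : ℕ) (X : List ℕ) (p : ℕ) :
    img (m :: X) p = 2 * img X p + (if m.testBit p = true then 1 else 0) := by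
  show 2 * img X p + (Bool.rec 0 1 (tbc m p) : ℕ) = _
  rw [tbc_eq]
  cases m.testBit p <;> rfl

theorem img_eq (q : ℕ) (X : List ℕ) (p s : ℕ)
    (h : ∀ i (hi : i < X.length), (X[i]).testBit p = q.testBit (s + i)) :
    img X p = (q / 2 ^ s) % 2 ^ X.length := by
  induction X generalizing s with
  | nil => rw [List.length_nil, pow_zero, Nat.mod_one]; rfl
  | cons m pl ih =>
    rw [img_cons, ih (s + 1) (fun i hi => by
      have := h (i + 1) (by rw [List.length_cons]; omega)
      rw [List.getElem_cons_succ] at this
      rw [this]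
      congr 1
      omega)]
    have h0 := h 0 (by rw [List.length_cons]; omega)
    rw [List.getElem_cons_zero, Nat.add_zero] at h0
    rw [h0, List.length_cons, pow_succ 2 pl.length, mul_comm (2 ^ pl.length) 2, Nat.mod_mul, pow_succ,
      ← Nat.div_div_eq_div_mul, Nat.testBit_eq_decide_div_mod_eq]
    have h2 := Nat.mod_two_eq_zero_or_one (q / 2 ^ s)
    rcases h2 with h2 | h2
    · rw [h2]
      simp
    · rw [h2]
      simp
      ring

/-- the bit plane of a word -/
noncomputable def pln (w : List Net) (i : ℕ) : ℕ := appWord w (pl 19 327680 i)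

/-- the bit planes of a word -/
noncomputable def plns (w : List Net) : List ℕ :=
  [pln w 0, pln w 1, pln w 2, pln w 3, pln w 4, pln w 5, pln w 6, pln w 7, pln w 8, pln w 9, pln w 10, pln w 11,
    pln w 12, pln w 13, pln w 14, pln w 15, pln w 16, pln w 17, pln w 18]

theorem UG_lt' {p : ℕ} (h : UG.testBit p = true) : p < 327680 := by
  have hU : Nat.beq (Nat.shiftRight UG 327680) 0 = true := by decide +kernel
  have h1 : UG >>> 327680 = 0 := Nat.eq_of_beq_eq_true hU
  by_contra hc
  have h2 := congrArg (fun x => Nat.testBit x (p - 327680)) h1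
  simp only [Nat.testBit_shiftRight, Nat.zero_testBit] at h2
  rw [show 327680 + (p - 327680) = p by omega, h] at h2
  exact absurd h2 (by simp)

theorem img_plns (w : List Gen) {p : ℕ} (hp : UG.testBit p = true) : img (plns (nw w false)) p = rho (word w) p := by
  have hq : rho (word w) p < 327680 := UG_lt' (bit_act _ hp)
  rw [img_eq (rho (word w) p) (plns (nw w false)) p 0]
  · rw [pow_zero, Nat.div_one]
    refine Nat.mod_eq_of_lt (lt_of_lt_of_le hq ?_)
    show 327680 ≤ 2 ^ 19
    norm_num
  · have key : ∀ i, i < 19 → (pln (nw w false) i).testBit p = (rho (word w) p).testBit i := by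
      intro i hi
      unfold pln
      rw [testBit_appWord (wok w false), ← rho_word, testBit_pl (by norm_num) hq hi]
    intro i hi
    have hi' : i < 19 := hi
    rw [Nat.zero_add, ← key i hi']
    congr 1
    interval_cases i <;> rfl

/-! ### Walks -/

/-- equality of Boolean values -/
noncomputable def eqb (a b : Bool) : Bool := Bool.rec (Bool.rec true false b) b a

theorem eqb_eq {a b : Bool} (h : eqb a b = true) : a = b := by
  cases a <;> cases b
  · rfl
  · exact absurd h (by simp [eqb])
  · exact absurd h (by simp [eqb])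
  · rfl

/-- record the point `p` (in the first numbering) if the test is in agreement with `U` -/
noncomputable def rcd (X : List ℕ) (U : ℕ) (r b : Bool) (p : ℕ) (k : ℕ → Bool) (acc : ℕ) : ℕ :=
  Bool.rec acc (Bool.rec (Bool.rec acc (Nat.lor acc (Nat.pow 2 p)) (eqb (force (img X p) k) (tbc U p))) acc b) r

/-- the network changing the numbering `b` -/
noncomputable def sw (b : Bool) : Net := Bool.rec pi pir b

/-- is `x` short in the numbering `b`? -/
noncomputable def own (x : Gen) (b : Bool) : Bool := Bool.rec (fst x) (Bool.rec true false (fst x)) b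

/-- walks at the level of points -/
noncomputable def pw (X : List ℕ) (U : ℕ) (t : PF) : Bool → ℕ → (ℕ → Bool) → ℕ → ℕ :=
  PF.rec (motive := fun _ => Bool → ℕ → (ℕ → Bool) → ℕ → ℕ)
    (fun _ _ _ acc => acc)
    (fun x r _ _ ihc ihs b p k acc =>
      seq (Bool.rec acc
        (force (invPt (net x) p) fun p' =>
          (fun k' => seq (rcd X U r b p' k' acc) (ihc b p' k')) fun z => force (invPt (net x) z) k)
        (own x b)) (ihs b p k))
    (fun r _ _ ihc ihs b p k acc =>
      seq (force (invPt (sw b) p) fun p' =>
          (fun k' => seq (rcd X U r (not b) p' k' acc) (ihc (not b) p' k')) fun z => force (invPt (sw (not b)) z) k)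
        (ihs b p k)) t

/-- walks at the level of masks -/
noncomputable def mw (X : List ℕ) (U : ℕ) (t : MF) : Bool → ℕ → ℕ → ℕ → ℕ :=
  MF.rec (motive := fun _ => Bool → ℕ → ℕ → ℕ → ℕ)
    (fun _ _ _ acc => acc)
    (fun x _ _ ihc ihs b p M acc =>
      seq (Bool.rec acc
        (force (invPt (net x) p) fun p' => seq ((net x).app M) fun M' => ihc b p' M' acc) (own x b)) (ihs b p M))
    (fun _ _ ihc ihs b p M acc =>
      seq (force (invPt (sw b) p) fun p' => seq ((sw b).app M) fun M' => ihc (not b) p' M' acc) (ihs b p M))
    (fun r c _ ihs b p M acc =>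
      seq (seq (rcd X U r b p (tbc M) acc) (pw X U c b p (tbc M))) (ihs b p M)) t

/-! ### Specification -/

/-- the real point of a number in the numbering `b` -/
noncomputable def rl (b : Bool) : Equiv.Perm ℕ := Bool.rec 1 pi.perm b

theorem rl_sw (b : Bool) (z : ℕ) : rl (!b) (invPt (sw b) z) = rl b z := by
  cases b
  · show pi.perm (invPt pi z) = z
    rw [invPt_eq ok_pi]
    exact papply_inv _ _
  · show invPt pir z = pi.perm z
    rw [invPt_eq ok_pir, perm_pir, inv_inv]

theorem rl_sw' (b : Bool) (z : ℕ) : rl b (invPt (sw (!b)) z) = rl (!b) z := by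
  have := rl_sw (!b) z
  rwa [Bool.not_not] at this

theorem rl_net {x : Gen} {b : Bool} (h : own x b = true) (z : ℕ) :
    rl b (invPt (net x) z) = rho (gen x)⁻¹ (rl b z) := by
  rw [invPt_eq (ok_net x), map_inv, rho_gen]
  cases b
  · have h1 : fst x = true := h
    rw [rho0_fst h1]
    rfl
  · have h1 : fst x = false := by
      revert h
      unfold own
      cases fst x <;> simp
    rw [rho0_snd h1, mul_inv_rev, mul_inv_rev, inv_inv]
    show pi.perm ((net x).perm⁻¹ z) = pi.perm ((net x).perm⁻¹ (pi.perm⁻¹ (pi.perm z)))
    rw [pinv_apply]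

theorem gen_inv (x : Gen) : (gen x)⁻¹ = gen x := by
  have h1 : gen x ∈ Cfsg.Agent.R08.FiTwentyFour.L := Cfsg.Agent.R08.FiTwentyFour.gen_mem_L x
  exact inv_eq_of_mul_eq_one_left (Cfsg.Agent.R08.FiTwentyFour.sq h1)

/-- the state of a walk -/
def St (b : Bool) (p : ℕ) (k : ℕ → Bool) : Prop :=
  UG.testBit (rl b p) = true ∧ ∀ z, k z = true ↔ Com (rl b p) (rl b z)

theorem St.net {b : Bool} {p : ℕ} {k : ℕ → Bool} (h : St b p k) {x : Gen} (hx : own x b = true) {k' : ℕ → Bool}
    (hk' : ∀ z, k' z = k (invPt (net x) z)) : St b (invPt (net x) p) k' := by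
  constructor
  · rw [rl_net hx]
    exact bit_act _ h.1
  · intro z
    rw [hk', h.2, rl_net hx, rl_net hx, gen_inv]
    rw [← com_act_iff (gen x)]
    have h1 : rho (gen x) (rho (gen x) (rl b z)) = rl b z := by
      nth_rewrite 1 [← gen_inv]
      rw [map_inv]
      exact pinv_apply _ _
    rw [h1]

theorem St.sw {b : Bool} {p : ℕ} {k : ℕ → Bool} (h : St b p k) {k' : ℕ → Bool}
    (hk' : ∀ z, k' z = k (invPt (sw (!b)) z)) : St (!b) (invPt (sw b) p) k' := by
  constructor
  · rw [rl_sw]
    exact h.1
  · intro z
    rw [hk', h.2, rl_sw', rl_sw]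

section

variable {X : List ℕ} {U : ℕ} {x : Fi24}

/-- the point is in agreement with `U` -/
def Gd (U : ℕ) (x : Fi24) (q : ℕ) : Prop := UG.testBit q = true ∧ (Com q (rho x q) ↔ U.testBit q = true)

theorem rcd_spec (hX : ∀ q, UG.testBit q = true → img X q = rho x q) (r b : Bool) {p : ℕ} {k : ℕ → Bool}
    (h : St b p k) {acc : ℕ} (ha : ∀ q, acc.testBit q = true → Gd U x q) :
    ∀ q, (rcd X U r b p k acc).testBit q = true → Gd U x q := by
  cases r
  · exact ha
  · cases b
    · intro q hq
      by_cases h1 : eqb (force (img X p) k) (tbc U p) = true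
      · have h2 : (acc ||| 2 ^ p).testBit q = true := by
          have h3 : rcd X U true false p k acc = Nat.lor acc (Nat.pow 2 p) := by
            show (Bool.rec acc (Nat.lor acc (Nat.pow 2 p)) (eqb (force (img X p) k) (tbc U p)) : ℕ) = _
            rw [h1]
          rw [h3] at hq
          exact hq
        rw [Nat.testBit_or, Bool.or_eq_true, Nat.testBit_two_pow] at h2
        rcases h2 with h2 | h2
        · exact ha q h2
        · have h3 : p = q := of_decide_eq_true h2
          subst h3
          have h4 := eqb_eq h1
          rw [force_eq, tbc_eq, hX p h.1] at h4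
          refine ⟨h.1, ?_⟩
          have h5 := h.2 (rho x p)
          rw [h4] at h5
          exact h5.symm
      · have h3 : rcd X U true false p k acc = acc := by
          show (Bool.rec acc (Nat.lor acc (Nat.pow 2 p)) (eqb (force (img X p) k) (tbc U p)) : ℕ) = _
          rw [Bool.not_eq_true] at h1
          rw [h1]
        rw [h3] at hq
        exact ha q hq
    · exact ha

theorem pw_spec (hX : ∀ q, UG.testBit q = true → img X q = rho x q) (t : PF) :
    ∀ {b : Bool} {p : ℕ} {k : ℕ → Bool}, St b p k → ∀ {acc : ℕ}, (∀ q, acc.testBit q = true → Gd U x q) →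
    ∀ q, (pw X U t b p k acc).testBit q = true → Gd U x q := by
  induction t with
  | o => exact fun _ _ ha => ha
  | n y r c s ihc ihs =>
    intro b p k h acc ha q hq
    have e : pw X U (.n y r c s) b p k acc = seq (Bool.rec acc
        (force (invPt (net y) p) fun p' =>
          (fun k' => seq (rcd X U r b p' k' acc) (pw X U c b p' k')) fun z => force (invPt (net y) z) k)
        (own y b)) (pw X U s b p k) := rfl
    rw [e, seq_eq] at hq
    refine ihs h ?_ q hq
    cases ho : own y b with
    | false => exact ha
    | true =>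
      intro q' hq'
      have e2 : (Bool.rec acc
        (force (invPt (net y) p) fun p' =>
          (fun k' => seq (rcd X U r b p' k' acc) (pw X U c b p' k')) fun z => force (invPt (net y) z) k)
        true : ℕ) = pw X U c b (invPt (net y) p) (fun z => force (invPt (net y) z) k)
          (rcd X U r b (invPt (net y) p) (fun z => force (invPt (net y) z) k) acc) := by
        show force (invPt (net y) p) _ = _
        rw [force_eq]
        beta_reduce
        rw [seq_eq]
      rw [e2] at hq'
      have h2 : St b (invPt (net y) p) (fun z => force (invPt (net y) z) k) :=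
        h.net ho fun z => force_eq _ _
      exact ihc h2 (rcd_spec hX r b h2 ha) q' hq'
  | w r c s ihc ihs =>
    intro b p k h acc ha q hq
    have e : pw X U (.w r c s) b p k acc = seq (force (invPt (sw b) p) fun p' =>
          (fun k' => seq (rcd X U r (not b) p' k' acc) (pw X U c (not b) p' k'))
            fun z => force (invPt (sw (not b)) z) k)
        (pw X U s b p k) := rfl
    rw [e, seq_eq, force_eq] at hq
    beta_reduce at hq
    rw [seq_eq] at hq
    refine ihs h ?_ q hq
    have h2 : St (!b) (invPt (sw b) p) (fun z => force (invPt (sw (not b)) z) k) := h.sw fun z => force_eq _ _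
    exact ihc h2 (rcd_spec hX r _ h2 ha)

theorem mw_spec (hX : ∀ q, UG.testBit q = true → img X q = rho x q) (t : MF) :
    ∀ {b : Bool} {p M : ℕ}, St b p M.testBit → ∀ {acc : ℕ}, (∀ q, acc.testBit q = true → Gd U x q) →
    ∀ q, (mw X U t b p M acc).testBit q = true → Gd U x q := by
  induction t with
  | o => exact fun _ _ ha => ha
  | n y c s ihc ihs =>
    intro b p M h acc ha q hq
    have e : mw X U (.n y c s) b p M acc = seq (Bool.rec acc
        (force (invPt (net y) p) fun p' => seq ((net y).app M) fun M' => mw X U c b p' M' acc)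
        (own y b)) (mw X U s b p M) := rfl
    rw [e, seq_eq] at hq
    refine ihs h ?_ q hq
    cases ho : own y b with
    | false => exact ha
    | true =>
      intro q' hq'
      have e2 : (Bool.rec acc
        (force (invPt (net y) p) fun p' => seq ((net y).app M) fun M' => mw X U c b p' M' acc)
        true : ℕ) = mw X U c b (invPt (net y) p) ((net y).app M) acc := by
        show force (invPt (net y) p) _ = _
        rw [force_eq, seq_eq]
      rw [e2] at hq'
      have h2 : St b (invPt (net y) p) ((net y).app M).testBit := by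
        refine h.net ho fun z => ?_
        rw [testBit_app (ok_net y), invPt_eq (ok_net y)]
        congr 1
        have h3 : (net y).perm * (net y).perm = 1 := by
          have h4 := gen_inv y
          have h5 : rho (gen y) * rho (gen y) = 1 := by
            nth_rewrite 1 [← h4]
            rw [map_inv, inv_mul_cancel]
          rw [rho_gen] at h5
          cases hf : fst y with
          | true => rwa [rho0_fst hf] at h5
          | false =>
            rw [rho0_snd hf] at h5
            have h6 : pi.perm * (net y).perm * pi.perm⁻¹ * (pi.perm * (net y).perm * pi.perm⁻¹) =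
                pi.perm * ((net y).perm * (net y).perm) * pi.perm⁻¹ := by group
            rw [h6] at h5
            have h7 := mul_inv_eq_one.1 h5
            exact mul_eq_left.1 h7
        rw [inv_eq_of_mul_eq_one_left h3]
      exact ihc h2 ha q' hq'
  | w c s ihc ihs =>
    intro b p M h acc ha q hq
    have e : mw X U (.w c s) b p M acc = seq (force (invPt (sw b) p) fun p' =>
        seq ((sw b).app M) fun M' => mw X U c (not b) p' M' acc) (mw X U s b p M) := rfl
    rw [e, seq_eq, force_eq, seq_eq] at hq
    refine ihs h ?_ q hq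
    have h2 : St (!b) (invPt (sw b) p) ((sw b).app M).testBit := by
      refine h.sw fun z => ?_
      cases b
      · show (pi.app M).testBit z = M.testBit (invPt pir z)
        rw [testBit_app ok_pi, invPt_eq ok_pir, perm_pir, inv_inv]
      · show (pir.app M).testBit z = M.testBit (invPt pi z)
        rw [testBit_app ok_pir, invPt_eq ok_pi, perm_pir]
    exact ihc h2 ha
  | p r c s ihs =>
    intro b p M h acc ha q hq
    have e : mw X U (.p r c s) b p M acc = seq (seq (rcd X U r b p (tbc M) acc) (pw X U c b p (tbc M)))
        (mw X U s b p M) := rfl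
    rw [e, seq_eq, seq_eq] at hq
    have h2 : St b p (tbc M) := by
      have h3 : tbc M = M.testBit := funext fun z => tbc_eq M z
      rw [h3]
      exact h
    exact ihs h (pw_spec hX c h2 (rcd_spec hX r b h2 ha)) q hq

end

/-! ### Sets of points -/

/-- the mask of a list of points -/
noncomputable def mk (l : List ℕ) : ℕ → ℕ :=
  List.rec (motive := fun _ => ℕ → ℕ) (fun acc => acc) (fun p _ ih acc => seq (Nat.lor acc (Nat.pow 2 p)) ih) l

theorem mk_cons (p : ℕ) (l : List ℕ) (acc : ℕ) : mk (p :: l) acc = mk l (acc ||| 2 ^ p) := by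
  show seq (Nat.lor acc (Nat.pow 2 p)) (mk l) = _
  rw [seq_eq]
  rfl

theorem testBit_mk (l : List ℕ) (acc q : ℕ) : (mk l acc).testBit q = true ↔ acc.testBit q = true ∨ q ∈ l := by
  induction l generalizing acc with
  | nil =>
    show acc.testBit q = true ↔ _
    simp
  | cons p l ih =>
    rw [mk_cons, ih, Nat.testBit_or, Bool.or_eq_true, Nat.testBit_two_pow, decide_eq_true_eq, List.mem_cons]
    constructor
    · rintro ((h | h) | h)
      · exact Or.inl h
      · exact Or.inr (Or.inl h.symm)
      · exact Or.inr (Or.inr h)
    · rintro (h | h | h)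
      · exact Or.inl (Or.inl h)
      · exact Or.inl (Or.inr h.symm)
      · exact Or.inr h

/-- the point `c` is taken to `0` by `w`, and the walk in `t` starting at `c` visits the points of the list `l`; the
tests are in agreement with `U` -/
noncomputable def chkW (x : List Gen) (U : ℕ) (w : List Gen) (c : ℕ) (t : MF) (l : List ℕ) : Bool :=
  and (chkPt (nw w false) c 0) (seqB (mk l 0) fun P => seqB (M w) fun N =>
    seqB (mw (plns (nw x false)) U t false c N 0) fun V => Nat.beq (Nat.land P V) P)

theorem chkW_spec {x : List Gen} {U : ℕ} {w : List Gen} {c : ℕ} {t : MF} {l : List ℕ}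
    (h : chkW x U w c t l = true) : ∀ q ∈ l, Gd U (word x) q := by
  unfold chkW at h
  rw [Bool.and_eq_true, seqB_eq, seqB_eq, seqB_eq] at h
  obtain ⟨h1, h2⟩ := h
  have h3 : mk l 0 &&& mw (plns (nw x false)) U t false c (M w) 0 = mk l 0 := Nat.eq_of_beq_eq_true h2
  intro q hq
  have h4 : (mk l 0).testBit q = true := (testBit_mk l 0 q).2 (Or.inr hq)
  rw [← h3, Nat.testBit_and, Bool.and_eq_true] at h4
  have hst : St false c (M w).testBit := by
    refine ⟨?_, fun z => M_spec h1 z⟩
    show UG.testBit c = true
    have h5 := Cfsg.Agent.KFacts.FiTF.Pts.rho_of_chkPt h1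
    have h6 : c = rho (word w)⁻¹ 0 := by
      rw [← h5, map_inv]
      exact (pinv_apply _ _).symm
    rw [h6]
    exact bit_act _ (bit_gen .l)
  exact mw_spec (fun q hq => img_plns x hq) t hst (fun q hq => absurd hq (by simp)) q h4.2

end Cfsg.Agent.H532.PNormTwo.Fi24
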