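import Cfsg.Agent.H305.RankVal
import Cfsg.Agent.H442.RankVal
import Cfsg.Agent.H620.PNorm
import Cfsg.Agent.Fischer.Abstract

/-!
# Zeros of the characters of a permutation group of rank 3 (helper532)

* `vz_of` : an element at which a constituent of a rank 3 permutation character vanishes, and all automorphisms are
  induced by permutations preserving the graph;
* `r3c` : the graph of the commuting pairs of a class of 3-transpositions of rank 3.
-/

set_option autoImplicit false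

namespace Cfsg.Agent.H532.PNormTwo

open Cfsg Cfsg.Agent.Characters.Core Cfsg.Agent.H690.Spor.RankThree Cfsg.Agent.H690.Spor.RankThree.R3
open Cfsg.Agent.Fischer.Abstract

section

variable {H X : Type*} [Group H] [MulAction H X]

/-- **A zero of a constituent of a rank 3 permutation character.** -/
theorem vz_of [Finite H] [Fintype X] [DecidableEq X] {Q : X → X → Prop} [DecidableRel Q] {k l : ℕ}
    (h : R3 H X Q k l) {a b : ℕ}
    (hab : ∀ x y, ∑ z, adj Q x z * adj Q z y = (k - b : ℂ) * dia x y + (a - b : ℂ) * adj Q x y + b)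
    {r s : ℂ} (hrs : r ≠ s) (h1 : r + s = a - b) (h2 : r * s = b - k)
    (hr0 : r * (k + l) + k ≠ 0) (hs0 : s * (k + l) + k ≠ 0) (x : H)
    (hσ : ∀ β : MulAut H, ∃ σ : X ≃ X, (∀ y, σ (x • y) = β x • σ y) ∧ ∀ y z, Q (σ y) (σ z) ↔ Q y z)
    {A P : ℕ} (hA : Nat.card {y : X // Q y (x • y)} = A) (hP : Nat.card (MulAction.fixedBy X x) = P)
    (h0 : (A : ℂ) = s * P + (k - s)) : Cfsg.Agent.H713.VZ H x := by
  obtain ⟨χ, hχ⟩ := Cfsg.Agent.H305.RankVal.exists_char h hab hrs h1 h2 hr0 hs0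
  refine ⟨χ, fun β => ?_⟩
  obtain ⟨σ, hσ1, hσ2⟩ := hσ β
  have e1 : Nat.card {y : X // Q y (β x • y)} = A := by
    rw [← hA]
    refine (Nat.card_congr ?_).symm
    refine σ.subtypeEquiv fun y => ?_
    rw [← hσ1, hσ2]
  have e2 : Nat.card (MulAction.fixedBy X (β x)) = P := by
    rw [← hP]
    refine (Nat.card_congr ?_).symm
    refine σ.subtypeEquiv fun y => ?_
    rw [MulAction.mem_fixedBy, MulAction.mem_fixedBy, ← hσ1, σ.injective.eq_iff]
  have h3 := hχ (β x)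
  rw [e1, e2, h0] at h3
  have h4 : (r - s) * (χ : H → ℂ) (β x) = 0 := by
    rw [h3]
    ring
  exact (mul_eq_zero.1 h4).resolve_left (sub_ne_zero.2 hrs)

end

section fischer

variable {G X : Type*} [Group G] [MulAction G X] (R : Rank3 G X)

/-- the commuting relation, without the diagonal -/
def CR (x y : X) : Prop := x ≠ y ∧ R.Com x y

theorem com_trans {x y x' y' : X} (h1 : x ≠ y) (h2 : R.Com x y) (h3 : x' ≠ y') (h4 : R.Com x' y') :
    ∃ g : G, g • x = x' ∧ g • y = y' := by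
  have key : ∀ x y : X, x ≠ y → R.Com x y → ∃ g : G, g • R.x0 = x ∧ g • R.c = y := by
    intro x y hne hc
    obtain ⟨g, hg⟩ := R.trans x
    have h5 : R.Com R.x0 (g⁻¹ • y) := by
      rw [← R.com_smul g, smul_inv_smul, hg]
      exact hc
    rcases R.com_x0_iff.1 h5 with h6 | ⟨h, h6, h7⟩
    · exact absurd (by rw [← hg, ← h6, smul_inv_smul]) hne
    · exact ⟨g * h, by rw [mul_smul, h6, hg], by rw [mul_smul, h7, smul_inv_smul]⟩
  obtain ⟨g, hg1, hg2⟩ := key x y h1 h2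
  obtain ⟨g', hg1', hg2'⟩ := key x' y' h3 h4
  exact ⟨g' * g⁻¹, by rw [mul_smul, ← hg1, inv_smul_smul, hg1'], by rw [mul_smul, ← hg2, inv_smul_smul, hg2']⟩

theorem ncom_trans {x y x' y' : X} (h2 : ¬ R.Com x y) (h4 : ¬ R.Com x' y') :
    ∃ g : G, g • x = x' ∧ g • y = y' := by
  have key : ∀ x y : X, ¬ R.Com x y → ∃ g : G, g • R.x0 = x ∧ g • R.b = y := by
    intro x y hc
    obtain ⟨g, hg⟩ := R.trans x
    have h5 : ¬ R.Com R.x0 (g⁻¹ • y) := by
      rw [← R.com_smul g, smul_inv_smul, hg]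
      exact hc
    obtain ⟨h, h6, h7⟩ := R.not_com_x0_iff.1 h5
    exact ⟨g * h, by rw [mul_smul, h6, hg], by rw [mul_smul, h7, smul_inv_smul]⟩
  obtain ⟨g, hg1, hg2⟩ := key x y h2
  obtain ⟨g', hg1', hg2'⟩ := key x' y' h4
  exact ⟨g' * g⁻¹, by rw [mul_smul, ← hg1, inv_smul_smul, hg1'], by rw [mul_smul, ← hg2, inv_smul_smul, hg2']⟩

/-- The graph of the commuting pairs. -/
theorem r3c {k l : ℕ} (hk : Nat.card {y // CR R R.x0 y} = k) (hk0 : 0 < k) (hl0 : 0 < l)
    (hn : Nat.card X = 1 + k + l) : R3 G X (CR R) k l := by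
  refine ⟨⟨fun x y => ?_⟩, fun x y h => ⟨h.1.symm, R.com_symm h.2⟩, fun x h => h.1 rfl, fun g x y h => ?_,
    fun x y x' y' h1 h2 => com_trans R h1.1 h1.2 h2.1 h2.2, fun x y x' y' h1 h2 h3 h4 => ?_, fun x => ?_, hk0, hl0,
    hn⟩
  · obtain ⟨g, hg⟩ := R.trans x
    obtain ⟨g', hg'⟩ := R.trans y
    exact ⟨g' * g⁻¹, by rw [mul_smul, ← hg, inv_smul_smul, hg']⟩
  · exact ⟨fun h' => h.1 (MulAction.injective g h'), (R.com_smul g x y).2 h.2⟩
  · exact ncom_trans R (fun h => h2 ⟨h1, h⟩) (fun h => h4 ⟨h3, h⟩)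
  · rw [← hk]
    obtain ⟨g, rfl⟩ := R.trans x
    refine Nat.card_congr ((MulAction.toPerm g).symm.subtypeEquiv fun y => ?_)
    show (g • R.x0 ≠ y ∧ R.Com (g • R.x0) y) ↔ (R.x0 ≠ g⁻¹ • y ∧ R.Com R.x0 (g⁻¹ • y))
    have e1 : R.Com R.x0 (g⁻¹ • y) ↔ R.Com (g • R.x0) y := by
      rw [← R.com_smul g, smul_inv_smul]
    rw [e1, ne_eq, ne_eq, eq_inv_smul_iff]

/-- An automorphism moving one transposition to a transposition is induced by a permutation of the points. -/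
theorem exists_sigma [Finite X] (β : MulAut G) (hβ : ∃ y, β (R.t R.x0) = R.t y) :
    ∃ σ : X ≃ X, (∀ x, R.t (σ x) = β (R.t x)) ∧ (∀ (g : G) x, σ (g • x) = β g • σ x) ∧
      ∀ y z, CR R (σ y) (σ z) ↔ CR R y z := by
  have h1 : ∀ x, ∃ y, R.t y = β (R.t x) := by
    intro x
    obtain ⟨g, rfl⟩ := R.trans x
    obtain ⟨y, hy⟩ := hβ
    exact ⟨β g • y, by rw [R.map_smul, R.map_smul, ← hy, map_mul, map_mul, map_inv]⟩
  choose f hf using h1
  have hinj : Function.Injective f := by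
    intro x y hxy
    apply R.t_injective
    apply β.injective
    rw [← hf, ← hf, hxy]
  obtain ⟨σ, hσ⟩ : ∃ σ : X ≃ X, ∀ x, σ x = f x :=
    ⟨Equiv.ofBijective f (Finite.injective_iff_bijective.1 hinj), fun x => rfl⟩
  have h2 : ∀ x, R.t (σ x) = β (R.t x) := fun x => by rw [hσ, hf]
  refine ⟨σ, h2, fun g x => ?_, fun y z => ?_⟩
  · apply R.t_injective
    rw [h2, R.map_smul, R.map_smul, h2, map_mul, map_mul, map_inv]
  · unfold CR
    rw [R.com_def, R.com_def, h2, h2, ← map_mul, ← map_mul, β.injective.eq_iff, ne_eq, ne_eq, σ.injective.eq_iff]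

end fischer

end Cfsg.Agent.H532.PNormTwo
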